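import Mathlib
import Cfsg.Agent.ClassicalGeometry.PSUAutMain

/-!
# Automorphisms of `PSU n F q` centralising a unipotent radical

`autCent_point`: an automorphism of `PSU n F q` trivial on the Siegel group `QQ u` is conjugation by an element of
`RR u`.
`autCent_sub`: an automorphism trivial on all Siegel elements `siegel s w μ`, `s ∈ W`, `w ∈ W^⊥`, where `W` is totally
isotropic of dimension at least two, is conjugation by an element which is trivial on `W^⊥`.
-/

set_option autoImplicit false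

namespace Cfsg.Agent.KFacts.Unit

open Cfsg Cfsg.Agent.LieClassical.HermBasic Cfsg.Agent.LieClassical.HermSiegel
  Cfsg.Agent.LieClassical.HermGen Cfsg.Agent.LieClassical.SUBasic Matrix
  Cfsg.Agent.ClassicalGeometry.PSUAutBasic Cfsg.Agent.ClassicalGeometry.PSUAutSylow
  Cfsg.Agent.ClassicalGeometry.PSUAutUnip Cfsg.Agent.ClassicalGeometry.PSUAutExt

open Cfsg.Agent.ClassicalGeometry.PSUAutCount (gm semiConj toAut herm_gm act_semiConj herm_semi
  gm_inv_mulVec gm_mulVec_inv)

variable {F : Type*} [Field F] {q n : ℕ}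

/-- The semilinear map of a pair `(A, ρ)`. -/
def sg (A : GU n F q) (ρ : F ≃+* F) (v : Fin n → F) : Fin n → F := gm A *ᵥ fun i => ρ (v i)

theorem sg_def (A : GU n F q) (ρ : F ≃+* F) (v : Fin n → F) : sg A ρ v = gm A *ᵥ fun i => ρ (v i) := rfl

theorem sg_add (A : GU n F q) (ρ : F ≃+* F) (v w : Fin n → F) : sg A ρ (v + w) = sg A ρ v + sg A ρ w := by
  rw [sg, sg, sg, ← mulVec_add]
  congr 1
  funext i
  simp

theorem sg_smul (A : GU n F q) (ρ : F ≃+* F) (c : F) (v : Fin n → F) : sg A ρ (c • v) = ρ c • sg A ρ v := by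
  rw [sg, sg, ← mulVec_smul]
  congr 1
  funext i
  simp

theorem sg_zero (A : GU n F q) (ρ : F ≃+* F) : sg A ρ (0 : Fin n → F) = 0 := by
  have h := sg_smul A ρ 0 (0 : Fin n → F)
  rwa [zero_smul, map_zero, zero_smul] at h

theorem herm_sg (A : GU n F q) (ρ : F ≃+* F) (u v : Fin n → F) :
    hermForm n F q (sg A ρ u) (sg A ρ v) = ρ (hermForm n F q u v) := herm_semi A ρ u v

theorem exists_sg (A : GU n F q) (ρ : F ≃+* F) (x : Fin n → F) : ∃ y, sg A ρ y = x := by
  refine ⟨fun j => ρ.symm ((gm A⁻¹ *ᵥ x) j), ?_⟩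
  rw [sg]
  simp only [RingEquiv.apply_symm_apply]
  rw [gm_mulVec_inv]

theorem sg_eq_zero (A : GU n F q) (ρ : F ≃+* F) {v : Fin n → F} (h : sg A ρ v = 0) : v = 0 := by
  have h1 := congrArg (fun x => gm A⁻¹ *ᵥ x) h
  simp only [sg, gm_inv_mulVec, mulVec_zero] at h1
  funext i
  have h2 := congrFun h1 i
  simpa using h2

/-- An automorphism with trivial field part, acting up to a scalar as an element of `SU`, is inner. -/
theorem toAut_eq_conj (A : GU n F q) {c : F} (hc : c ≠ 0) {s : SU n F q}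
    (h : ∀ v, act s v = c • sg A (RingEquiv.refl F) v) :
    toAut A (RingEquiv.refl F) = MulAut.conj (pr n F q s) := by
  ext x
  obtain ⟨g, rfl⟩ := pr_surjective x
  rw [Cfsg.Agent.ClassicalGeometry.PSUAutMain.toAut_pr', MulAut.conj_apply, ← map_inv, ← map_mul, ← map_mul]
  congr 1
  apply ext_act
  intro z
  obtain ⟨y, rfl⟩ := exists_sg A (RingEquiv.refl F) z
  have h1 : act (semiConj A (RingEquiv.refl F) g) (sg A (RingEquiv.refl F) y) =
      sg A (RingEquiv.refl F) (act g y) := act_semiConj A (RingEquiv.refl F) g y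
  have h2 : sg A (RingEquiv.refl F) y = c⁻¹ • act s y := by
    rw [h, smul_smul, inv_mul_cancel₀ hc, one_smul]
  have h3 : sg A (RingEquiv.refl F) (act g y) = c⁻¹ • act s (act g y) := by
    rw [h, smul_smul, inv_mul_cancel₀ hc, one_smul]
  rw [h1, h2, h3, act_smul, act_mul, act_mul, act_inv_act]

section

variable [Fintype F]

/-- An automorphism fixing a transvection. -/
theorem scalar_of_fix_transv (hF : Fintype.card F = q ^ 2) (hn : 3 ≤ n) (A : GU n F q) (ρ : F ≃+* F)
    {u : Fin n → F} (hu0 : u ≠ 0) {μ : F} (hμ0 : μ ≠ 0) (h : IsSiegel q u 0 μ)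
    (hα : toAut A ρ (pr n F q (siegel hF u 0 μ h)) = pr n F q (siegel hF u 0 μ h)) :
    ∃ c : F, c ≠ 0 ∧ sg A ρ u = c • u := by
  rw [Cfsg.Agent.ClassicalGeometry.PSUAutMain.toAut_pr', semiConj_siegel] at hα
  have h1 := siegel_pr_inj hF hn _ _ hα
  obtain ⟨f, -, huf, hfu⟩ := exists_partner hF hu0 h.iso
  have h4 := congrArg (fun g => act g f) h1
  simp only [act_siegel] at h4
  change f + _ • sg A ρ 0 + (ρ μ * hermForm n F q f (sg A ρ u) - hermForm n F q f (sg A ρ 0)) • sg A ρ u = _ at h4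
  rw [sg_zero, smul_zero, smul_zero, herm_zero_right hF, sub_zero, sub_zero, add_zero, add_right_inj, hfu,
    mul_one] at h4
  have hne : ρ μ * hermForm n F q f (sg A ρ u) ≠ 0 := by
    intro h0
    rw [h0, zero_smul] at h4
    rcases smul_eq_zero.1 h4.symm with h5 | h5
    · exact hμ0 h5
    · exact hu0 h5
  refine ⟨(ρ μ * hermForm n F q f (sg A ρ u))⁻¹ * μ, mul_ne_zero (inv_ne_zero hne) hμ0, ?_⟩
  rw [mul_smul, ← h4, smul_smul, inv_mul_cancel₀ hne, one_smul]

/-- An automorphism fixing a Siegel element modulo its transvection group. -/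
theorem mod_of_siegel_eq (hF : Fintype.card F = q ^ 2) (A : GU n F q) (ρ : F ≃+* F)
    {u w : Fin n → F} (hu0 : u ≠ 0) {μ μ' : F} (h : IsSiegel q u w μ)
    (h' : IsSiegel q (sg A ρ u) (sg A ρ w) μ')
    (h1 : siegel hF (sg A ρ u) (sg A ρ w) μ' h' = siegel hF u w μ h) {c : F}
    (hc : sg A ρ u = c • u) : ∃ d : F, c ^ q • sg A ρ w = w + d • u := by
  obtain ⟨f, -, huf, hfu⟩ := exists_partner hF hu0 h.iso
  have h4 := congrArg (fun g => act g f) h1
  simp only [act_siegel] at h4
  rw [hc, herm_smul_right, hfu, mul_one, mul_one, add_assoc, add_assoc, add_right_inj, one_smul] at h4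
  refine ⟨μ - hermForm n F q f w - (μ' * c ^ q - hermForm n F q f (sg A ρ w)) * c, ?_⟩
  rw [sub_smul, mul_smul, ← add_sub_assoc, ← h4]
  abel

/-- An automorphism fixing a Siegel element. -/
theorem mod_of_fix_siegel (hF : Fintype.card F = q ^ 2) (hn : 3 ≤ n) (A : GU n F q) (ρ : F ≃+* F)
    {u w : Fin n → F} (hu0 : u ≠ 0) {μ : F} (h : IsSiegel q u w μ)
    (hα : toAut A ρ (pr n F q (siegel hF u w μ h)) = pr n F q (siegel hF u w μ h)) {c : F}
    (hc : sg A ρ u = c • u) : ∃ d : F, c ^ q • sg A ρ w = w + d • u := by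
  rw [Cfsg.Agent.ClassicalGeometry.PSUAutMain.toAut_pr', semiConj_siegel] at hα
  exact mod_of_siegel_eq hF A ρ hu0 h _ (siegel_pr_inj hF hn _ _ hα) hc

/-- A linear isometry fixing the isotropic vector `e` and acting trivially on `e^⊥ / e` is a Siegel
transformation. -/
theorem exists_siegel_of_isometry (hF : Fintype.card F = q ^ 2) {e f : Fin n → F}
    (he : hermForm n F q e e = 0) (hf : hermForm n F q f f = 0) (hef : hermForm n F q e f = 1)
    {T : (Fin n → F) → (Fin n → F)} (hadd : ∀ v w, T (v + w) = T v + T w) (hsmul : ∀ (c : F) v, T (c • v) = c • T v)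
    (hherm : ∀ v w, hermForm n F q (T v) (T w) = hermForm n F q v w) (hTe : T e = e)
    (hT : ∀ w, hermForm n F q w e = 0 → ∃ c : F, T w - w = c • e) :
    ∃ s ∈ siegG hF e he, ∀ v, act s v = T v := by
  have hfe : hermForm n F q f e = 1 := by rw [herm_swap hF e f, hef, one_pow]
  have hsub : ∀ v w, T (v - w) = T v - T w := by
    intro v w
    have h1 := hadd (v - w) w
    rw [sub_add_cancel] at h1
    rw [h1, add_sub_cancel_right]
  obtain ⟨c, μ, hs, hact⟩ := exists_siegel_map hF he (v := f) (v' := T f)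
    (by rw [hherm]) (by conv_rhs => rw [← hTe, hherm]) (by rw [hfe]; exact one_ne_zero)
  obtain ⟨s, hsdef⟩ : ∃ s, siegel hF e (c • (T f - f)) μ hs = s := ⟨_, rfl⟩
  rw [hsdef] at hact
  refine ⟨s, ⟨_, _, hs, hsdef.symm⟩, ?_⟩
  have hse : act s e = e := by rw [← hsdef]; exact act_siegel_self hF hs
  -- both maps agree on `e^⊥ ∩ f^⊥`
  have key : ∀ w, hermForm n F q w e = 0 → hermForm n F q w f = 0 → act s w = T w := by
    intro w hwe hwf
    obtain ⟨c1, hc1⟩ := hT w hwe
    have hTw : T w = w + c1 • e := by rw [← hc1]; abel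
    have hsw : act s w = w + (-hermForm n F q w (c • (T f - f))) • e := by
      rw [← hsdef, act_siegel, hwe]; simp
    have h1 : hermForm n F q (T w) (T f) = 0 := by rw [hherm, hwf]
    have h2 : hermForm n F q (act s w) (act s f) = 0 := by rw [herm_act, hwf]
    rw [hact, hsw, herm_add_left, herm_smul_left] at h2
    rw [hTw, herm_add_left, herm_smul_left] at h1
    have h3 : hermForm n F q e (T f) = 1 := by conv_lhs => rw [← hTe, hherm]; exact hef
    rw [h3, mul_one] at h1 h2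
    rw [hTw, hsw]
    have : -hermForm n F q w (c • (T f - f)) = c1 := by linear_combination h2 - h1
    rw [this]
  intro v
  have hv : v = (v - hermForm n F q v f • e - hermForm n F q v e • f) +
      hermForm n F q v f • e + hermForm n F q v e • f := by abel
  have h1 := key (v - hermForm n F q v f • e - hermForm n F q v e • f)
    (by rw [herm_sub_left, herm_sub_left, herm_smul_left, herm_smul_left, he, hfe]; ring)
    (by rw [herm_sub_left, herm_sub_left, herm_smul_left, herm_smul_left, hf, hef]; ring)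
  conv_lhs => rw [hv]
  rw [act_add, act_add, act_smul, act_smul, hse, hact, h1]
  conv_rhs => rw [hv]
  rw [hadd, hadd, hsmul, hsmul, hTe]

/-- There is a Siegel element for every vector orthogonal to `u`. -/
theorem exists_isSiegel_of_orth (hF : Fintype.card F = q ^ 2) {u w : Fin n → F}
    (hu : hermForm n F q u u = 0) (hw : hermForm n F q w u = 0) : ∃ μ, IsSiegel q u w μ := by
  obtain ⟨μ, hμ⟩ := exists_trace_eq hF (c := -hermForm n F q w w)
    (by rw [neg_pow_q hF, herm_self_pow hF])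
  exact ⟨μ, hu, hw, by rw [hμ]; ring⟩

/-- A vector of `u^⊥` with a partner. -/
theorem exists_pair_of_iso (hF : Fintype.card F = q ^ 2) (hn : 4 ≤ n) {u : Fin n → F} (hu0 : u ≠ 0)
    (hu : hermForm n F q u u = 0) :
    ∃ w w' : Fin n → F, hermForm n F q w u = 0 ∧ hermForm n F q w' u = 0 ∧ hermForm n F q w w = 0 ∧
      hermForm n F q w' w' = 0 ∧ hermForm n F q w w' = 1 := by
  obtain ⟨e, f, H⟩ := exists_frame (F := F) (q := q) (n := n) hF (by omega)
  have he0 : e ≠ 0 := by
    intro h; have := H.ef; rw [h, herm_zero_left] at this; exact zero_ne_one this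
  obtain ⟨g, -, hg⟩ := exists_map_iso hF (by omega) le_rfl (mem_coordSub_top e) (mem_coordSub_top u)
    he0 hu0 H.ee hu
  have h1 : (Pi.single (⟨0, by omega⟩ : Fin n) 1 : Fin n → F) ∈ coordSub F n (n - 2) :=
    single_mem_coordSub (by simp; omega) 1
  have h2 : (Pi.single (⟨1, by omega⟩ : Fin n) 1 : Fin n → F) ∈ coordSub F n (n - 2) :=
    single_mem_coordSub (by simp; omega) 1
  obtain ⟨p, p', a, b, ha, hp, hp', hpp, hp'p', hpp'⟩ := exists_hyp_pair (q := q) hF
    (i := (⟨0, by omega⟩ : Fin n)) (j := ⟨1, by omega⟩) (by simp)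
  have hpV : p ∈ coordSub F n (n - 2) := by
    rw [hp]; exact Submodule.add_mem _ h1 (Submodule.smul_mem _ _ h2)
  have hp'V : p' ∈ coordSub F n (n - 2) := by
    rw [hp']; exact Submodule.add_mem _ h1 (Submodule.smul_mem _ _ hpV)
  refine ⟨act g p, act g p', ?_, ?_, ?_, ?_, ?_⟩
  · rw [← hg, herm_act]; exact ((H.mem p).1 hpV).1
  · rw [← hg, herm_act]; exact ((H.mem p').1 hp'V).1
  · rw [herm_act, hpp]
  · rw [herm_act, hp'p']
  · rw [herm_act, hpp']

/-- **Automorphisms trivial on `X` and on `Q / X`.** -/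
theorem autCent_mod (hF : Fintype.card F = q ^ 2) (hn : 4 ≤ n) {u : Fin n → F} (hu0 : u ≠ 0)
    (hu : hermForm n F q u u = 0) (α : MulAut (PSU n F q)) (hα : ∀ x ∈ RR hF u hu, α x = x)
    (hα2 : ∀ x ∈ QQ hF u hu, α x * x⁻¹ ∈ RR hF u hu) :
    ∃ s ∈ siegG hF u hu, α = MulAut.conj (pr n F q s) := by
  obtain ⟨A, ρ, rfl⟩ := Cfsg.Agent.ClassicalGeometry.PSUAutMain.exists_toAut hF (by omega) (by omega) α
  obtain ⟨μ0, hμ0, hμ⟩ := exists_trace_zero_ne hF
  obtain ⟨c, hc0, hc⟩ := scalar_of_fix_transv hF (by omega) A ρ hu0 hμ0 (isSiegel_zero hu hμ)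
    (hα _ (mem_RR.2 ⟨_, hμ, rfl⟩))
  have hmod : ∀ w, hermForm n F q w u = 0 → ∃ d : F, c ^ q • sg A ρ w = w + d • u := by
    intro w hw
    obtain ⟨μ, hμw⟩ := exists_isSiegel_of_orth hF hu hw
    obtain ⟨ν, hν, h1⟩ := mem_RR.1 (hα2 _ (mem_QQ.2 ⟨w, μ, hμw, rfl⟩))
    rw [Cfsg.Agent.ClassicalGeometry.PSUAutMain.toAut_pr', semiConj_siegel, mul_inv_eq_iff_eq_mul, transv,
      ← map_mul, siegel_mul] at h1
    have h2 := siegel_pr_inj hF (by omega) _ _ h1
    have h3 : IsSiegel q u w (ν + μ) := by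
      have := (isSiegel_zero hu hν).mul hF hμw
      rwa [zero_add, herm_zero_right hF, sub_zero] at this
    rw [siegel_congr hF _ h3 rfl (zero_add w) (by rw [herm_zero_right hF, sub_zero])] at h2
    exact mod_of_siegel_eq hF A ρ hu0 h3 _ h2 hc
  obtain ⟨w, w', hwu, hw'u, hww, hw'w', hww'⟩ := exists_pair_of_iso hF hn hu0 hu
  have huw' : hermForm n F q u w' = 0 := herm_eq_zero_swap hF hw'u
  -- the field automorphism is trivial
  have hρ : ρ = RingEquiv.refl F := by
    ext a
    obtain ⟨d, hd⟩ := hmod w hwu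
    obtain ⟨d', hd'⟩ := hmod (a • w) (by rw [herm_smul_left, hwu, mul_zero])
    rw [sg_smul, smul_comm, hd] at hd'
    have h1 := congrArg (fun v => hermForm n F q v w') hd'
    simp only [herm_add_left, herm_smul_left, huw', hww'] at h1
    simpa using h1
  subst hρ
  have hcc : c ^ q * c = 1 := by
    obtain ⟨d, hd⟩ := hmod w hwu
    obtain ⟨d', hd'⟩ := hmod w' hw'u
    have h1 : hermForm n F q (c ^ q • sg A (RingEquiv.refl F) w) (c ^ q • sg A (RingEquiv.refl F) w') =
        hermForm n F q (w + d • u) (w' + d' • u) := by rw [hd, hd']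
    rw [herm_smul_left, herm_smul_right, herm_sg, pow_q_pow_q hF] at h1
    simp only [herm_add_left, herm_add_right hF, herm_smul_left, herm_smul_right, hu, hwu, huw', hww',
      RingEquiv.refl_apply] at h1
    linear_combination h1
  have hcq0 : c ^ q ≠ 0 := pow_ne_zero _ hc0
  obtain ⟨f, hff, huf, hfu⟩ := exists_partner hF hu0 hu
  obtain ⟨s, hs, hsact⟩ := exists_siegel_of_isometry hF hu hff huf
    (T := fun v => c ^ q • sg A (RingEquiv.refl F) v)
    (fun v w => by rw [sg_add, smul_add]) (fun a v => by rw [sg_smul, smul_comm]; rfl)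
    (fun v w => by
      rw [herm_smul_left, herm_smul_right, herm_sg, pow_q_pow_q hF, RingEquiv.refl_apply]
      linear_combination hermForm n F q v w * hcc)
    (by rw [hc, smul_smul, hcc, one_smul])
    (fun w hw => by
      obtain ⟨d, hd⟩ := hmod w hw
      exact ⟨d, by rw [hd]; abel⟩)
  exact ⟨s, hs, toAut_eq_conj A hcq0 hsact⟩

/-- **Centraliser of the unipotent radical of a point.** -/
theorem autCent_point (hF : Fintype.card F = q ^ 2) (hn : 4 ≤ n) {u : Fin n → F} (hu0 : u ≠ 0)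
    (hu : hermForm n F q u u = 0) (α : MulAut (PSU n F q)) (hα : ∀ x ∈ QQ hF u hu, α x = x) :
    ∃ x ∈ RR hF u hu, α = MulAut.conj x := by
  have hle : RR hF u hu ≤ QQ hF u hu := Subgroup.map_mono (transvG_le_siegG hF hu)
  obtain ⟨s, hs, hconj⟩ := autCent_mod hF hn hu0 hu α (fun x hx => hα x (hle hx)) (fun x hx => by
    rw [hα x hx, mul_inv_cancel]; exact one_mem _)
  refine ⟨pr n F q s, ⟨s, ?_, rfl⟩, hconj⟩
  have hsu : act s u = u := by
    obtain ⟨w, μ, h, rfl⟩ := hs
    exact act_siegel_self hF h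
  apply mem_transvG_of_commute hF hu0 hu hsu
  rintro _ ⟨w1, μ1, h1, rfl⟩
  have h2 := hα _ (mem_QQ.2 ⟨w1, μ1, h1, rfl⟩)
  rw [hconj, MulAut.conj_apply, ← map_inv, ← map_mul, ← map_mul, conj_siegel] at h2
  rw [conj_siegel]
  exact siegel_pr_inj hF (by omega) _ _ h2

/-- An element of a matrix group over the field acting as a linear isometry `T` with `(T - 1)^2 = 0`. -/
theorem exists_SU_of_isometry (hF : Fintype.card F = q ^ 2) (A : GU n F q) {c : F} (hcc : c * c ^ q = 1)
    (h2 : ∀ v, c • sg A (RingEquiv.refl F) (c • sg A (RingEquiv.refl F) v - v) =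
      c • sg A (RingEquiv.refl F) v - v) :
    ∃ s : SU n F q, ∀ v, act s v = c • sg A (RingEquiv.refl F) v := by
  have hM : ∀ v, (c • gm A) *ᵥ v = c • sg A (RingEquiv.refl F) v := by
    intro v
    rw [smul_mulVec]
    rfl
  have hq := two_le hF
  have hdet : (c • gm A).det = 1 := by
    apply det_eq_one_of_unipotent (by rw [hF]; nlinarith)
    apply Matrix.ext_of_mulVec_single
    intro i
    have key : ∀ v : Fin n → F, (c • gm A - 1) *ᵥ v = c • sg A (RingEquiv.refl F) v - v := by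
      intro v
      rw [Matrix.sub_mulVec, hM, Matrix.one_mulVec]
    have key2 : ∀ v : Fin n → F, (c • gm A - 1) *ᵥ ((c • gm A - 1) *ᵥ v) = 0 := by
      intro v
      rw [key v, key, h2, sub_self]
    rw [Matrix.zero_mulVec, ← Matrix.mulVec_mulVec, ← Matrix.mulVec_mulVec, key2]
  refine ⟨mkSU (c • gm A) hdet ?_, hM⟩
  intro u v
  rw [hM, hM, herm_smul_left, herm_smul_right, herm_sg, RingEquiv.refl_apply, ← mul_assoc, hcc, one_mul]

/-- **Centraliser of the unipotent radical of the pointwise stabiliser of a totally isotropic subspace.** -/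
theorem autCent_sub (hF : Fintype.card F = q ^ 2) (hn : 4 ≤ n) (W : Submodule F (Fin n → F))
    (hW : ∀ s ∈ W, ∀ s' ∈ W, hermForm n F q s s' = 0) {s₁ s₂ : Fin n → F} (hs₁ : s₁ ∈ W) (hs₂ : s₂ ∈ W)
    (hind : ∀ a b : F, a • s₁ + b • s₂ = 0 → a = 0 ∧ b = 0) (α : MulAut (PSU n F q))
    (hα : ∀ s ∈ W, s ≠ 0 → ∀ w, (∀ s' ∈ W, hermForm n F q w s' = 0) → ∀ μ (h : IsSiegel q s w μ),
      α (pr n F q (siegel hF s w μ h)) = pr n F q (siegel hF s w μ h)) :
    ∃ g : SU n F q, (∀ v, (∀ s ∈ W, hermForm n F q v s = 0) → act g v = v) ∧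
      α = MulAut.conj (pr n F q g) := by
  obtain ⟨A, ρ, rfl⟩ := Cfsg.Agent.ClassicalGeometry.PSUAutMain.exists_toAut hF (by omega) (by omega) α
  obtain ⟨μ0, hμ0, hμ⟩ := exists_trace_zero_ne hF
  have h1 : ∀ s ∈ W, s ≠ 0 → ∃ c : F, c ≠ 0 ∧ sg A ρ s = c • s := by
    intro s hs hs0
    exact scalar_of_fix_transv hF (by omega) A ρ hs0 hμ0 (isSiegel_zero (hW s hs s hs) hμ)
      (hα s hs hs0 0 (fun s' _ => herm_zero_left s') _ _)
  have hs₁0 : s₁ ≠ 0 := by
    intro h
    have := (hind 1 0 (by rw [h, smul_zero, zero_smul, add_zero])).1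
    exact one_ne_zero this
  have hs₂0 : s₂ ≠ 0 := by
    intro h
    have := (hind 0 1 (by rw [h, smul_zero, zero_smul, add_zero])).2
    exact one_ne_zero this
  obtain ⟨c, hc0, hc⟩ := h1 s₁ hs₁ hs₁0
  -- the eigenvalue is constant on pairs of independent vectors
  have hpair : ∀ s ∈ W, ∀ s' ∈ W, (∀ a b : F, a • s + b • s' = 0 → a = 0 ∧ b = 0) →
      ∀ a b : F, sg A ρ s = a • s → sg A ρ s' = b • s' → a = b := by
    intro s hs s' hs' hi a b ha hb
    have h0 : s + s' ≠ 0 := by
      intro h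
      have := (hi 1 1 (by rw [one_smul, one_smul, h])).1
      exact one_ne_zero this
    obtain ⟨d, -, hd⟩ := h1 (s + s') (W.add_mem hs hs') h0
    rw [sg_add, ha, hb, smul_add] at hd
    have h2 := hi (a - d) (b - d) (by rw [sub_smul, sub_smul]; linear_combination (exp := 1) hd)
    rw [sub_eq_zero.1 h2.1, sub_eq_zero.1 h2.2]
  -- every vector of `W` is independent of `s₁` or of `s₂`
  have hor : ∀ s, s ≠ 0 → (∀ a b : F, a • s₁ + b • s = 0 → a = 0 ∧ b = 0) ∨
      (∀ a b : F, a • s₂ + b • s = 0 → a = 0 ∧ b = 0) := by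
    intro s hs0
    by_contra hcon
    push Not at hcon
    obtain ⟨⟨a, b, hab, hab'⟩, a', b', hab2, hab2'⟩ := hcon
    have hb0 : b ≠ 0 := by
      intro h
      rw [h, zero_smul, add_zero] at hab
      rcases smul_eq_zero.1 hab with h2 | h2
      · exact hab' h2 h
      · exact hs₁0 h2
    have hb0' : b' ≠ 0 := by
      intro h
      rw [h, zero_smul, add_zero] at hab2
      rcases smul_eq_zero.1 hab2 with h2 | h2
      · exact hab2' h2 h
      · exact hs₂0 h2
    have h2 := hind (b' * a) (-(b * a')) (by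
      have e1 : b' • (a • s₁ + b • s) - b • (a' • s₂ + b' • s) = 0 := by rw [hab, hab2, smul_zero, smul_zero, sub_zero]
      rw [← e1]
      module)
    have ha0 : a = 0 := by
      rcases mul_eq_zero.1 h2.1 with h3 | h3
      · exact absurd h3 hb0'
      · exact h3
    rw [ha0, zero_smul, zero_add] at hab
    rcases smul_eq_zero.1 hab with h3 | h3
    · exact hb0 h3
    · exact hs0 h3
  have hc₂ : sg A ρ s₂ = c • s₂ := by
    obtain ⟨d, -, hd⟩ := h1 s₂ hs₂ hs₂0
    rw [hpair s₁ hs₁ s₂ hs₂ hind c d hc hd]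
    exact hd
  have hcs : ∀ s ∈ W, sg A ρ s = c • s := by
    intro s hs
    by_cases hs0 : s = 0
    · rw [hs0, sg_zero, smul_zero]
    obtain ⟨d, -, hd⟩ := h1 s hs hs0
    rcases hor s hs0 with h | h
    · rw [hpair s₁ hs₁ s hs h c d hc hd]; exact hd
    · rw [hpair s₂ hs₂ s hs h c d hc₂ hd]; exact hd
  have hρ : ρ = RingEquiv.refl F := by
    ext a
    have h2 := hcs (a • s₁) (W.smul_mem a hs₁)
    rw [sg_smul, hc, smul_smul, smul_smul] at h2
    have h3 := smul_left_injective F hs₁0 h2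
    rw [mul_comm c a] at h3
    exact mul_right_cancel₀ hc0 h3
  subst hρ
  -- the orthogonal space
  have hperp : ∀ w, (∀ s ∈ W, hermForm n F q w s = 0) → c ^ q • sg A (RingEquiv.refl F) w = w := by
    intro w hw
    have h2 : ∀ s ∈ W, s ≠ 0 → ∃ d : F, c ^ q • sg A (RingEquiv.refl F) w = w + d • s := by
      intro s hs hs0
      obtain ⟨μ, hμw⟩ := exists_isSiegel_of_orth hF (hW s hs s hs) (hw s hs)
      exact mod_of_fix_siegel hF (by omega) A _ hs0 hμw (hα s hs hs0 w hw μ hμw) (hcs s hs)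
    obtain ⟨d₁, hd₁⟩ := h2 s₁ hs₁ hs₁0
    obtain ⟨d₂, hd₂⟩ := h2 s₂ hs₂ hs₂0
    have h3 : d₁ • s₁ + (-d₂) • s₂ = 0 := by
      rw [hd₁, add_right_inj] at hd₂
      rw [hd₂, neg_smul, add_neg_cancel]
    rw [hd₁, (hind _ _ h3).1, zero_smul, add_zero]
  have hcc : c ^ q * c = 1 := by
    have h2 := hperp s₁ (fun s hs => hW s₁ hs₁ s hs)
    rw [hc, smul_smul] at h2
    have h3 : (c ^ q * c) • s₁ = (1 : F) • s₁ := by rw [h2, one_smul]
    exact smul_left_injective F hs₁0 h3
  have hherm : ∀ v w, hermForm n F q (c ^ q • sg A (RingEquiv.refl F) v) (c ^ q • sg A (RingEquiv.refl F) w) =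
      hermForm n F q v w := by
    intro v w
    rw [herm_smul_left, herm_smul_right, herm_sg, pow_q_pow_q hF, RingEquiv.refl_apply]
    linear_combination hermForm n F q v w * hcc
  obtain ⟨s, hs⟩ := exists_SU_of_isometry hF A (c := c ^ q) (by rw [pow_q_pow_q hF]; exact hcc) (fun v => by
    apply hperp
    intro s hs
    have h4 := hherm v s
    rw [hperp s (fun s' hs' => hW s hs s' hs')] at h4
    rw [herm_sub_left, h4, sub_self])
  exact ⟨s, fun v hv => by rw [hs, hperp v hv], toAut_eq_conj A (pow_ne_zero _ hc0) hs⟩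

end

end Cfsg.Agent.KFacts.Unit
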