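import Mathlib
import Cfsg.Agent.ClassicalGeometry.PSUAutUnip
import Cfsg.Agent.TitsThree.UFrame
import Cfsg.Agent.OddHalf.D7.Uni.Chain

/-!
# The Sylow 2-subgroup of `SU n F q` (`q` even) as a product of unipotent radicals

`Fr q m e f`: vectors `e 0, …, e (m - 1)`, `f 0, …, f (m - 1)` with `(e i, f j) = δ i j`, spanning the space up to one
dimension. `QS j`: the Siegel elements at `e j` fixing `e i`, `f i`, `i < j`. The product of the `QS j` is direct (`dir`)
and is a Sylow 2-subgroup (`odd_index`). `mem_QS_iff`: `QS j` is the centraliser in the Siegel group of `e j` of the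
elements `ρ i`, `i < j`, of order three on `⟨e i, f i⟩`.
-/

set_option autoImplicit false

namespace Cfsg.Agent.KFacts.Unit.Flag

open Cfsg Cfsg.Agent.LieClassical.HermBasic Cfsg.Agent.LieClassical.HermSiegel
  Cfsg.Agent.LieClassical.HermGen Cfsg.Agent.LieClassical.SUBasic Cfsg.Agent.ClassicalGeometry.PSUAutBasic
  Cfsg.Agent.ClassicalGeometry.PSUAutUnip Cfsg.Agent.OddHalf.D7.Uni.Chain

variable {F : Type*} [Field F] [Fintype F] {q n : ℕ}

/-- A frame. -/
structure Fr (q m : ℕ) (e f : ℕ → Fin n → F) : Prop where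
  ee : ∀ i < m, ∀ j < m, hermForm n F q (e i) (e j) = 0
  ff : ∀ i < m, ∀ j < m, hermForm n F q (f i) (f j) = 0
  ef : ∀ i < m, ∀ j < m, hermForm n F q (e i) (f j) = if i = j then 1 else 0
  fe : ∀ i < m, ∀ j < m, hermForm n F q (f i) (e j) = if i = j then 1 else 0
  top : ∀ g : SU n F q, (∃ k : ℕ, g ^ 2 ^ k = 1) → (∀ i < m, act g (e i) = e i ∧ act g (f i) = f i) → g = 1

/-- The pointwise stabiliser of `e i`, `f i`, `i < k`. -/
def fixF (q : ℕ) (e f : ℕ → Fin n → F) (k : ℕ) : Subgroup (SU n F q) where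
  carrier := {g | ∀ i < k, act g (e i) = e i ∧ act g (f i) = f i}
  one_mem' := fun i _ => ⟨act_one _, act_one _⟩
  mul_mem' := by
    intro a b ha hb i hi
    rw [act_mul, act_mul, (hb i hi).1, (hb i hi).2]
    exact ha i hi
  inv_mem' := by
    intro a ha i hi
    exact ⟨((act_eq_iff a).1 (ha i hi).1).symm, ((act_eq_iff a).1 (ha i hi).2).symm⟩

omit [Fintype F] in
theorem mem_fixF {e f : ℕ → Fin n → F} {k : ℕ} {g : SU n F q} :
    g ∈ fixF q e f k ↔ ∀ i < k, act g (e i) = e i ∧ act g (f i) = f i := Iff.rfl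

omit [Fintype F] in
theorem fixF_anti {e f : ℕ → Fin n → F} {k l : ℕ} (h : k ≤ l) : fixF q e f l ≤ fixF q e f k :=
  fun _ hg i hi => hg i (by omega)

/-- The elements fixing `u` and acting trivially on `u^⊥ / u`. -/
def QA (q : ℕ) (u : Fin n → F) : Subgroup (SU n F q) where
  carrier := {g | act g u = u ∧ ∀ w, hermForm n F q w u = 0 → ∃ c : F, act g w - w = c • u}
  one_mem' := ⟨act_one _, fun w _ => ⟨0, by rw [act_one, sub_self, zero_smul]⟩⟩
  mul_mem' := by
    rintro a b ⟨ha, ha'⟩ ⟨hb, hb'⟩
    refine ⟨by rw [act_mul, hb, ha], fun w hw => ?_⟩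
    obtain ⟨c, hc⟩ := ha' w hw
    obtain ⟨d, hd⟩ := hb' w hw
    refine ⟨c + d, ?_⟩
    have h1 : act b w = w + d • u := by rw [← hd]; abel
    have h2 : act a w = w + c • u := by rw [← hc]; abel
    rw [act_mul, h1, act_add, act_smul, ha, h2, add_smul]
    abel
  inv_mem' := by
    rintro a ⟨ha, ha'⟩
    have hau : act a⁻¹ u = u := ((act_eq_iff a).1 ha).symm
    refine ⟨hau, fun w hw => ?_⟩
    obtain ⟨c, hc⟩ := ha' w hw
    refine ⟨-c, ?_⟩
    have h2 : act a w = w + c • u := by rw [← hc]; abel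
    have h3 : w = act a⁻¹ w + c • u := by
      conv_lhs => rw [← act_inv_act a w, h2, act_add, act_smul, hau]
    rw [neg_smul]
    nth_rewrite 2 [h3]
    abel

omit [Fintype F] in
theorem mem_QA {u : Fin n → F} {g : SU n F q} :
    g ∈ QA q u ↔ act g u = u ∧ ∀ w, hermForm n F q w u = 0 → ∃ c : F, act g w - w = c • u := Iff.rfl

theorem QA_eq (hF : Fintype.card F = q ^ 2) {e f : Fin n → F}
    (he : hermForm n F q e e = 0) (hf : hermForm n F q f f = 0) (hef : hermForm n F q e f = 1) :
    QA q e = siegG hF e he := by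
  apply le_antisymm
  · rintro g ⟨h1, h2⟩
    exact mem_siegG_of_act hF he hf hef h1 h2
  · rintro _ ⟨w, μ, h, rfl⟩
    refine ⟨act_siegel_self hF h, fun v hv => ⟨-hermForm n F q v w, ?_⟩⟩
    rw [act_siegel, hv, zero_smul, add_zero, mul_zero, zero_sub]
    abel

omit [Fintype F] in
/-- `g QA(u) g⁻¹ = QA(g u)` -/
theorem conj_mem_QA {u : Fin n → F} {g x : SU n F q} (hg : act g u = u) (hx : x ∈ QA q u) : g * x * g⁻¹ ∈ QA q u := by
  have hgi : act g⁻¹ u = u := ((act_eq_iff g).1 hg).symm
  refine ⟨by rw [act_mul, act_mul, hgi, hx.1, hg], fun w hw => ?_⟩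
  obtain ⟨c, hc⟩ := hx.2 (act g⁻¹ w) (by
    rw [herm_act_left, inv_inv, hg]
    exact hw)
  refine ⟨c, ?_⟩
  have h1 : act x (act g⁻¹ w) = act g⁻¹ w + c • u := by rw [← hc]; abel
  rw [act_mul, act_mul, h1, act_add, act_act_inv, act_smul, hg]
  abel

/-- The Siegel elements at `e j` which fix `e i`, `f i`, `i < j`. -/
def QS (q : ℕ) (e f : ℕ → Fin n → F) (j : ℕ) : Subgroup (SU n F q) := QA q (e j) ⊓ fixF q e f j

section frame

variable {m : ℕ} {e f : ℕ → Fin n → F}

omit [Fintype F] in
theorem QS_norm {i j : ℕ} (hij : i < j) {g x : SU n F q} (hg : g ∈ QS q e f j) (hx : x ∈ QS q e f i) :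
    g * x * g⁻¹ ∈ QS q e f i := by
  rw [QS, Subgroup.mem_inf] at hg hx ⊢
  refine ⟨conj_mem_QA (hg.2 i hij).1 hx.1, ?_⟩
  have h1 := fixF_anti hij.le hg.2
  exact mul_mem (mul_mem h1 hx.2) (inv_mem h1)

omit [Fintype F] in
theorem Fr.ne_zero (h : Fr q m e f) {j : ℕ} (hj : j < m) : e j ≠ 0 := by
  intro h0
  have h1 := h.ef j hj j hj
  rw [if_pos rfl, h0, herm_zero_left] at h1
  exact zero_ne_one h1

omit [Fintype F] in
/-- two elements with the same action on `e`, `f` and on the orthogonal space are equal -/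
theorem ext_pair {e f : Fin n → F} (hee : hermForm n F q e e = 0) (hff : hermForm n F q f f = 0)
    (hef : hermForm n F q e f = 1) (hfe : hermForm n F q f e = 1) {g g' : SU n F q} (h1 : act g e = act g' e)
    (h2 : act g f = act g' f)
    (h3 : ∀ w, hermForm n F q w e = 0 → hermForm n F q w f = 0 → act g w = act g' w) : g = g' := by
  apply ext_act
  intro v
  have hv : v = (v - hermForm n F q v f • e - hermForm n F q v e • f) +
      hermForm n F q v f • e + hermForm n F q v e • f := by abel
  have h4 := h3 (v - hermForm n F q v f • e - hermForm n F q v e • f)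
    (by rw [herm_sub_left, herm_sub_left, herm_smul_left, herm_smul_left, hee, hfe]; ring)
    (by rw [herm_sub_left, herm_sub_left, herm_smul_left, herm_smul_left, hff, hef]; ring)
  rw [hv, act_add, act_add, act_smul, act_smul, h4, h1, h2, act_add, act_add, act_smul, act_smul]

omit [Fintype F] in
/-- an element of `QA (e j)` fixing `f j` is trivial -/
theorem eq_one_of_fix (h : Fr q m e f) {j : ℕ} (hj : j < m) {g : SU n F q}
    (hg : g ∈ QA q (e j)) (hgf : act g (f j) = f j) : g = 1 := by
  have hef : hermForm n F q (e j) (f j) = 1 := by rw [h.ef j hj j hj, if_pos rfl]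
  have hfe : hermForm n F q (f j) (e j) = 1 := by rw [h.fe j hj j hj, if_pos rfl]
  refine ext_pair (h.ee j hj j hj) (h.ff j hj j hj) hef hfe (by rw [hg.1, act_one]) (by rw [hgf, act_one]) fun w h1 h2 => ?_
  obtain ⟨c, hc⟩ := hg.2 w h1
  have h3 : act g w = w + c • e j := by rw [← hc]; abel
  have h4 : hermForm n F q (act g w) (f j) = 0 := by
    rw [← hgf, herm_act, h2]
  rw [h3, herm_add_left, h2, zero_add, herm_smul_left, hef, mul_one] at h4
  rw [h3, h4, zero_smul, add_zero, act_one]

omit [Fintype F] in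
/-- **The product is direct.** -/
theorem dir_aux (h : Fr q m e f) (j : ℕ) (hj : j ≤ m) {g : SU n F q} (hg : g ∈ pr (QS q e f) j)
    (hf : g ∈ fixF q e f j) : g = 1 := by
  induction j generalizing g with
  | zero => exact Subgroup.mem_bot.1 hg
  | succ j ih =>
    obtain ⟨a, ha, b, hb, rfl⟩ := mem_mul_of_mem_sup
      (fun b hb a ha => conj_pr (fun i hi x hx => QS_norm hi hb hx) ha) hg
    have hb' := Subgroup.mem_inf.1 hb
    have h1 : a = 1 := ih (by omega) ha (by
      have h2 := mul_mem (fixF_anti (Nat.le_succ j) hf) (inv_mem hb'.2)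
      rwa [mul_inv_cancel_right] at h2)
    rw [h1, one_mul] at hf ⊢
    exact eq_one_of_fix h (by omega) hb'.1 (hf j (Nat.lt_succ_self j)).2

omit [Fintype F] in
theorem dir (h : Fr q m e f) {j : ℕ} (hj : j < m) {g : SU n F q} (hg : g ∈ QS q e f j)
    (hg' : g ∈ pr (QS q e f) j) : g = 1 :=
  dir_aux h j hj.le hg' (Subgroup.mem_inf.1 hg).2

/-- A Siegel element in `QS i`. -/
theorem siegel_mem_QS (hF : Fintype.card F = q ^ 2) (h : Fr q m e f) {i : ℕ} (hi : i < m) {w : Fin n → F} {μ : F}
    (hs : IsSiegel q (e i) w μ) (hw : ∀ j < i, hermForm n F q w (e j) = 0 ∧ hermForm n F q w (f j) = 0) :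
    siegel hF (e i) w μ hs ∈ QS q e f i := by
  rw [QS, Subgroup.mem_inf]
  constructor
  · rw [QA_eq hF (h.ee i hi i hi) (h.ff i hi i hi) (by rw [h.ef i hi i hi, if_pos rfl])]
    exact ⟨w, μ, hs, rfl⟩
  · intro j hj
    have h0 : ∀ u, hermForm n F q w u = 0 → hermForm n F q u w = 0 := fun u hu => by
      rw [herm_swap hF w u, hu, zero_pow_q hF]
    refine ⟨act_siegel_of_orth hF hs (h.ee j (by omega) i hi) (h0 _ (hw j hj).1),
      act_siegel_of_orth hF hs ?_ (h0 _ (hw j hj).2)⟩
    rw [h.fe j (by omega) i hi, if_neg (by omega)]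

/-- The fixed vectors of `QS i`. -/
theorem eq_smul_of_fixed [CharP F 2] (hF : Fintype.card F = q ^ 2) (h : Fr q m e f) {i : ℕ} (hi : i < m)
    {v : Fin n → F} (hv : ∀ x ∈ QS q e f i, act x v = v)
    (hvo : ∀ j < i, hermForm n F q v (e j) = 0 ∧ hermForm n F q v (f j) = 0) :
    v = hermForm n F q v (f i) • e i := by
  have he0 := h.ne_zero hi
  have hsw : ∀ u u', hermForm n F q u u' = 0 → hermForm n F q u' u = 0 := fun u u' hu => by
    rw [herm_swap hF u u', hu, zero_pow_q hF]
  -- `(v, e i) = 0`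
  have h1 : hermForm n F q v (e i) = 0 := by
    have hs : IsSiegel q (e i) 0 1 := isSiegel_zero (h.ee i hi i hi) (by rw [one_pow]; exact CharTwo.add_self_eq_zero 1)
    have h2 := hv _ (siegel_mem_QS hF h hi hs fun j _ => ⟨herm_zero_left _, herm_zero_left _⟩)
    rw [act_siegel, smul_zero, add_zero, herm_zero_right hF, one_mul, sub_zero, add_eq_left] at h2
    exact (smul_eq_zero.1 h2).resolve_right he0
  -- orthogonal to all admissible `w`
  have h2 : ∀ w, hermForm n F q w (e i) = 0 → (∀ j < i, hermForm n F q w (e j) = 0 ∧ hermForm n F q w (f j) = 0) →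
      hermForm n F q v w = 0 := by
    intro w hw hw'
    obtain ⟨μ, hμ⟩ := exists_trace_eq hF (c := -hermForm n F q w w) (by
      rw [neg_pow_q hF, herm_self_pow hF])
    have hs : IsSiegel q (e i) w μ := ⟨h.ee i hi i hi, hw, by rw [hμ]; ring⟩
    have h3 := hv _ (siegel_mem_QS hF h hi hs hw')
    rw [act_siegel, h1, zero_smul, add_zero, mul_zero, zero_sub, add_eq_left] at h3
    exact neg_eq_zero.1 ((smul_eq_zero.1 h3).resolve_right he0)
  rw [← sub_eq_zero]
  apply herm_nondeg hF
  intro w
  set w' := w - (∑ j ∈ Finset.range i, (hermForm n F q w (f j) • e j + hermForm n F q w (e j) • f j)) -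
    hermForm n F q w (e i) • f i with hw'
  have hsum : ∀ u, hermForm n F q (∑ j ∈ Finset.range i, (hermForm n F q w (f j) • e j + hermForm n F q w (e j) • f j)) u =
      ∑ j ∈ Finset.range i, (hermForm n F q w (f j) * hermForm n F q (e j) u +
        hermForm n F q w (e j) * hermForm n F q (f j) u) := by
    intro u
    rw [herm_sum_left]
    refine Finset.sum_congr rfl fun j _ => ?_
    rw [herm_add_left, herm_smul_left, herm_smul_left]
  have h3 : hermForm n F q w' (e i) = 0 := by
    rw [hw', herm_sub_left, herm_sub_left, hsum, herm_smul_left, h.fe i hi i hi, if_pos rfl,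
      Finset.sum_eq_zero, sub_zero, mul_one, sub_self]
    intro j hj
    have hj := Finset.mem_range.1 hj
    rw [h.ee j (by omega) i hi, h.fe j (by omega) i hi, if_neg (by omega), mul_zero, mul_zero, add_zero]
  have h4 : ∀ k < i, hermForm n F q w' (e k) = 0 ∧ hermForm n F q w' (f k) = 0 := by
    intro k hk
    constructor
    · rw [hw', herm_sub_left, herm_sub_left, hsum, herm_smul_left, h.fe i hi k (by omega), if_neg (by omega),
        Finset.sum_eq_single k, h.ee k (by omega) k (by omega), h.fe k (by omega) k (by omega), if_pos rfl]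
      · ring
      · intro j hj hjk
        have hj := Finset.mem_range.1 hj
        rw [h.ee j (by omega) k (by omega), h.fe j (by omega) k (by omega), if_neg hjk, mul_zero, mul_zero, add_zero]
      · intro hk'
        exact absurd (Finset.mem_range.2 hk) hk'
    · rw [hw', herm_sub_left, herm_sub_left, hsum, herm_smul_left, h.ff i hi k (by omega),
        Finset.sum_eq_single k, h.ff k (by omega) k (by omega), h.ef k (by omega) k (by omega), if_pos rfl]
      · ring
      · intro j hj hjk
        have hj := Finset.mem_range.1 hj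
        rw [h.ff j (by omega) k (by omega), h.ef j (by omega) k (by omega), if_neg hjk, mul_zero, mul_zero, add_zero]
      · intro hk'
        exact absurd (Finset.mem_range.2 hk) hk'
  have h5 := h2 w' h3 h4
  -- `(v, w) = (v, w') + (w, e i)^q (v, f i)`
  have h6 : hermForm n F q v w = hermForm n F q v w' + hermForm n F q v
      (∑ j ∈ Finset.range i, (hermForm n F q w (f j) • e j + hermForm n F q w (e j) • f j)) +
      hermForm n F q v (hermForm n F q w (e i) • f i) := by
    rw [← herm_add_right hF, ← herm_add_right hF, hw']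
    congr 1
    abel
  have h7 : hermForm n F q v
      (∑ j ∈ Finset.range i, (hermForm n F q w (f j) • e j + hermForm n F q w (e j) • f j)) = 0 := by
    apply hsw
    rw [hsum]
    refine Finset.sum_eq_zero fun j hj => ?_
    have hj := Finset.mem_range.1 hj
    rw [hsw _ _ (hvo j hj).1, hsw _ _ (hvo j hj).2, mul_zero, mul_zero, add_zero]
  rw [herm_sub_left, herm_smul_left, h6, h5, h7, herm_smul_right, ← herm_swap hF w (e i)]
  ring

/-- `QS i ⋯ QS (m - 1)` -/
def tl (q : ℕ) (e f : ℕ → Fin n → F) (m i : ℕ) : Subgroup (SU n F q) := ⨆ j : ℕ, ⨆ _ : i ≤ j ∧ j < m, QS q e f j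

omit [Fintype F] in
theorem le_tl {i j : ℕ} (hij : i ≤ j) (hj : j < m) : QS q e f j ≤ tl q e f m i :=
  le_iSup₂_of_le (f := fun j (_ : i ≤ j ∧ j < m) => QS q e f j) j ⟨hij, hj⟩ le_rfl

omit [Fintype F] in
theorem tl_anti {i k : ℕ} (h : i ≤ k) : tl q e f m k ≤ tl q e f m i :=
  iSup₂_le fun _ hj => le_tl (by omega) hj.2

omit [Fintype F] in
theorem pr_eq_tl : pr (QS q e f) m = tl q e f m 0 :=
  le_antisymm (pr_le fun _ hi => le_tl (Nat.zero_le _) hi) (iSup₂_le fun _ hj => le_pr _ hj.2)

/-- the stabiliser of a vector -/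
def stb (q : ℕ) (u : Fin n → F) : Subgroup (SU n F q) where
  carrier := {g | act g u = u}
  one_mem' := act_one _
  mul_mem' := by
    intro a b (ha : act a u = u) (hb : act b u = u)
    change act (a * b) u = u
    rw [act_mul, hb, ha]
  inv_mem' := by
    intro a (ha : act a u = u)
    exact ((act_eq_iff a).1 ha).symm

omit [Fintype F] in
theorem tl_le_stb {i : ℕ} : tl q e f m i ≤ stb q (e i) := by
  refine iSup₂_le fun j hj x hx => ?_
  have hx' := Subgroup.mem_inf.1 hx
  rcases Nat.lt_or_ge i j with h1 | h1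
  · exact (hx'.2 i h1).1
  · obtain rfl : i = j := by omega
    exact hx'.1.1

omit [Fintype F] in
theorem QS_le_fixF {i j : ℕ} (hij : i ≤ j) : QS q e f j ≤ fixF q e f i :=
  fun _ hx => fixF_anti hij (Subgroup.mem_inf.1 hx).2

/-- normaliser condition -/
theorem exists_norm {G : Type*} [Group G] [Finite G] {S T : Subgroup G} (hS : IsPGroup 2 S) (hTS : T ≤ S)
    (hne : ¬ S ≤ T) : ∃ s ∈ S, s ∉ T ∧ ∀ x ∈ T, s * x * s⁻¹ ∈ T := by
  have : Fact (Nat.Prime 2) := ⟨Nat.prime_two⟩
  have hn : Group.IsNilpotent S := hS.isNilpotent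
  have hlt : T.subgroupOf S < ⊤ := by
    rw [lt_top_iff_ne_top]
    intro h
    exact hne (Subgroup.subgroupOf_eq_top.1 h)
  have h1 := Group.normalizerCondition_of_isNilpotent (G := S) (T.subgroupOf S) hlt
  obtain ⟨s, hs, hs'⟩ := SetLike.exists_of_lt h1
  refine ⟨s, s.2, fun h => hs' h, fun x hx => ?_⟩
  exact (Subgroup.mem_normalizer_iff.1 hs ⟨x, hTS hx⟩).1 hx

/-- **Maximality.** -/
theorem max_aux [CharP F 2] (hF : Fintype.card F = q ^ 2) (h : Fr q m e f) (d : ℕ) :
    ∀ i, i + d = m → ∀ S : Subgroup (SU n F q), IsPGroup 2 S → S ≤ fixF q e f i → tl q e f m i ≤ S →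
      S ≤ tl q e f m i := by
  have h2 : Fact (Nat.Prime 2) := ⟨Nat.prime_two⟩
  induction d with
  | zero =>
    intro i hi S hS hfix _ s hs
    obtain rfl : i = m := by omega
    obtain ⟨k, hk⟩ := hS ⟨s, hs⟩
    have h1 : s = 1 := h.top s ⟨k, congrArg Subtype.val hk⟩ (hfix hs)
    rw [h1]
    exact one_mem _
  | succ d ih =>
    intro i hi S hS hfix hT
    have him : i < m := by omega
    by_contra hne
    obtain ⟨s, hs, hsT, hsn⟩ := exists_norm hS hT hne
    have hsn' : ∀ x ∈ tl q e f m i, s⁻¹ * x * s ∈ tl q e f m i := by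
      -- `s` has finite order
      intro x hx
      have hpow : ∀ k : ℕ, s ^ k * x * (s ^ k)⁻¹ ∈ tl q e f m i := by
        intro k
        induction k with
        | zero => simpa using hx
        | succ k ihk =>
          have := hsn _ ihk
          have e1 : s ^ (k + 1) * x * (s ^ (k + 1))⁻¹ = s * (s ^ k * x * (s ^ k)⁻¹) * s⁻¹ := by
            rw [pow_succ']; group
          rw [e1]; exact this
      have h3 := hpow (orderOf s - 1)
      have h4 : s ^ (orderOf s - 1) = s⁻¹ := by
        rw [eq_inv_iff_mul_eq_one, ← pow_succ, Nat.sub_add_cancel (orderOf_pos s), pow_orderOf_eq_one]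
      rwa [h4, inv_inv] at h3
    obtain ⟨k, hk⟩ := hS ⟨s, hs⟩
    have hk' : s ^ 2 ^ k = 1 := congrArg Subtype.val hk
    -- `s e i` is fixed by `QS i`
    have hv : ∀ x ∈ QS q e f i, act x (act s (e i)) = act s (e i) := by
      intro x hx
      have h3 : act (s⁻¹ * x * s) (e i) = e i := tl_le_stb (hsn' x (le_tl le_rfl him hx))
      rw [act_mul, act_mul] at h3
      rw [act_eq_iff] at h3
      rw [inv_inv] at h3
      exact h3
    have hfs := hfix hs
    have hvo : ∀ j < i, hermForm n F q (act s (e i)) (e j) = 0 ∧ hermForm n F q (act s (e i)) (f j) = 0 := by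
      intro j hj
      constructor
      · rw [← (hfs j hj).1, herm_act, h.ee i him j (by omega)]
      · rw [← (hfs j hj).2, herm_act, h.ef i him j (by omega), if_neg (by omega)]
    have hse : act s (e i) = e i := fix_of_pow 2 (h.ne_zero him) (eq_smul_of_fixed hF h him hv hvo) hk'
    -- move `f i`
    have hfe : hermForm n F q (f i) (e i) = 1 := by rw [h.fe i him i him, if_pos rfl]
    obtain ⟨c, μ, hs', hact⟩ := exists_siegel_map hF (h.ee i him i him) (v := f i) (v' := act s (f i))
      (by rw [herm_act]) (by conv_rhs => rw [← hse, herm_act]) (by rw [hfe]; exact one_ne_zero)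
    have hxQ := siegel_mem_QS hF h him hs' (fun j hj => by
      constructor
      · rw [herm_smul_left, herm_sub_left, ← (hfs j hj).1, herm_act, (hfs j hj).1, sub_self, mul_zero]
      · rw [herm_smul_left, herm_sub_left, ← (hfs j hj).2, herm_act, (hfs j hj).2, sub_self, mul_zero])
    set x := siegel hF (e i) (c • (act s (f i) - f i)) μ hs' with hx
    have hxT : x ∈ tl q e f m i := le_tl le_rfl him hxQ
    have hsx : x⁻¹ * s ∈ S ⊓ fixF q e f (i + 1) := by
      rw [Subgroup.mem_inf]
      refine ⟨mul_mem (inv_mem (hT hxT)) hs, fun j hj => ?_⟩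
      rcases Nat.lt_succ_iff_lt_or_eq.1 hj with h1 | rfl
      · exact mul_mem (inv_mem (QS_le_fixF le_rfl hxQ)) hfs j h1
      · have hxe : act x (e j) = e j := act_siegel_self hF hs'
        constructor
        · rw [act_mul, hse]
          exact ((act_eq_iff x).1 hxe).symm
        · rw [act_mul, ← hact, act_inv_act]
    have h5 := ih (i + 1) (by omega) (S ⊓ fixF q e f (i + 1)) (hS.to_le inf_le_left) inf_le_right
      (le_inf ((tl_anti (Nat.le_succ i)).trans hT) (iSup₂_le fun j hj => QS_le_fixF hj.1)) hsx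
    have h6 := mul_mem hxT (tl_anti (Nat.le_succ i) h5)
    rw [mul_inv_cancel_left] at h6
    exact hsT h6

/-- `pr QS m` is a 2-group -/
theorem isPGroup_pr [CharP F 2] (hF : Fintype.card F = q ^ 2) (h : Fr q m e f) {j : ℕ} (hj : j ≤ m) :
    IsPGroup 2 (pr (QS q e f) j) := by
  have h2 : Fact (Nat.Prime 2) := ⟨Nat.prime_two⟩
  induction j with
  | zero => exact IsPGroup.of_bot
  | succ j ih =>
    have h1 : IsPGroup 2 (QS q e f j) := by
      refine IsPGroup.to_le (isPGroup_siegG hF 2 (h.ee j (by omega) j (by omega))) ?_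
      rw [← QA_eq hF (h.ee j (by omega) j (by omega)) (h.ff j (by omega) j (by omega))
        (by rw [h.ef j (by omega) j (by omega), if_pos rfl])]
      exact inf_le_left
    have h3 : QS q e f j ≤ Subgroup.normalizer ((pr (QS q e f) j : Subgroup (SU n F q)) : Set (SU n F q)) := by
      intro b hb
      rw [Subgroup.mem_normalizer_iff]
      intro x
      constructor
      · exact fun hx => conj_pr (fun i hi x hx => QS_norm hi hb hx) hx
      · intro hx
        have h4 := conj_pr (T := QS q e f) (j := j) (fun i hi x hx => QS_norm hi (inv_mem hb) hx) hx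
        have h5 : b⁻¹ * (b * x * b⁻¹) * b⁻¹⁻¹ = x := by group
        rwa [h5] at h4
    exact IsPGroup.to_sup_of_normal_left' (ih (by omega)) h1 h3

/-- **The product of the `QS j` is a Sylow 2-subgroup.** -/
theorem eq_of_le [CharP F 2] (hF : Fintype.card F = q ^ 2) (h : Fr q m e f) {S : Subgroup (SU n F q)}
    (hS : IsPGroup 2 S) (hle : pr (QS q e f) m ≤ S) : S = pr (QS q e f) m := by
  rw [pr_eq_tl] at hle ⊢
  exact le_antisymm (max_aux hF h m 0 (by omega) S hS (fun _ _ i hi => absurd hi (Nat.not_lt_zero i)) hle) hle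

theorem odd_index [CharP F 2] (hF : Fintype.card F = q ^ 2) (h : Fr q m e f) :
    Odd (pr (QS q e f) m).index := by
  have h2 : Fact (Nat.Prime 2) := ⟨Nat.prime_two⟩
  obtain ⟨P, hP⟩ := (isPGroup_pr hF h le_rfl).exists_le_sylow
  have h3 := eq_of_le hF h P.isPGroup' hP
  rw [← h3, ← Nat.not_even_iff_odd, even_iff_two_dvd]
  exact P.not_dvd_index

/-! ### The elements of order three -/

/-- The elements `ρ i`. -/
structure Rho (q m : ℕ) (e f : ℕ → Fin n → F) (ρ : ℕ → SU n F q) : Prop where
  re : ∀ i < m, act (ρ i) (e i) = e i + f i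
  rf : ∀ i < m, act (ρ i) (f i) = e i
  rw : ∀ i < m, ∀ w, hermForm n F q w (e i) = 0 → hermForm n F q w (f i) = 0 → act (ρ i) w = w

theorem exists_rho [CharP F 2] (hF : Fintype.card F = q ^ 2) (h : Fr q m e f) : ∃ ρ : ℕ → SU n F q, Rho q m e f ρ := by
  have h1 : (1 : F) + 1 ^ q = 0 := by rw [one_pow]; exact CharTwo.add_self_eq_zero 1
  have key : ∀ i, ∃ g : SU n F q, i < m → act g (e i) = e i + f i ∧ act g (f i) = e i ∧
      ∀ w, hermForm n F q w (e i) = 0 → hermForm n F q w (f i) = 0 → act g w = w := by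
    intro i
    by_cases hi : i < m
    · have hef : hermForm n F q (e i) (f i) = 1 := by rw [h.ef i hi i hi, if_pos rfl]
      have hfe : hermForm n F q (f i) (e i) = 1 := by rw [h.fe i hi i hi, if_pos rfl]
      have hee := h.ee i hi i hi
      have hff := h.ff i hi i hi
      refine ⟨transv hF (f i) hff 1 h1 * transv hF (e i) hee 1 h1, fun _ => ⟨?_, ?_, fun w hwe hwf => ?_⟩⟩
      · rw [act_mul, act_transv hF hee, hee, mul_zero, zero_smul, add_zero, act_transv hF hff, hef, one_mul, one_smul]
      · rw [act_mul, act_transv hF hee, hfe, one_mul, one_smul, act_transv hF hff, herm_add_left, hff, hef, zero_add,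
          one_mul, one_smul]
        have h2 : f i + f i = 0 := by
          funext k
          exact CharTwo.add_self_eq_zero _
        calc f i + e i + f i = e i + (f i + f i) := by abel
          _ = e i := by rw [h2, add_zero]
      · rw [act_mul, act_transv hF hee, hwe, mul_zero, zero_smul, add_zero, act_transv hF hff, hwf, mul_zero, zero_smul,
          add_zero]
    · exact ⟨1, fun h => absurd h hi⟩
  choose ρ hρ using key
  exact ⟨ρ, fun i hi => (hρ i hi).1, fun i hi => (hρ i hi).2.1, fun i hi => (hρ i hi).2.2⟩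

variable {ρ : ℕ → SU n F q}

omit [Fintype F] in
/-- uniqueness of `ρ i` -/
theorem Rho.unique (h : Fr q m e f) (R : Rho q m e f ρ) {i : ℕ} (hi : i < m) {g : SU n F q}
    (h1 : act g (e i) = e i + f i) (h2 : act g (f i) = e i)
    (h3 : ∀ w, hermForm n F q w (e i) = 0 → hermForm n F q w (f i) = 0 → act g w = w) : g = ρ i :=
  ext_pair (h.ee i hi i hi) (h.ff i hi i hi) (by rw [h.ef i hi i hi, if_pos rfl]) (by rw [h.fe i hi i hi, if_pos rfl])
    (h1.trans (R.re i hi).symm) (h2.trans (R.rf i hi).symm) fun w hw hw' => (h3 w hw hw').trans (R.rw i hi w hw hw').symm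

omit [Fintype F] in
/-- an element fixing `e i`, `f i` commutes with `ρ i` -/
theorem Rho.comm_of_fix (h : Fr q m e f) (R : Rho q m e f ρ) {i : ℕ} (hi : i < m) {g : SU n F q}
    (h1 : act g (e i) = e i) (h2 : act g (f i) = f i) : ρ i * g = g * ρ i := by
  have h1' : act g⁻¹ (e i) = e i := ((act_eq_iff g).1 h1).symm
  have h2' : act g⁻¹ (f i) = f i := ((act_eq_iff g).1 h2).symm
  have e1 : g * ρ i * g⁻¹ = ρ i := by
    refine R.unique h hi ?_ ?_ fun w hwe hwf => ?_
    · rw [act_mul, act_mul, h1', R.re i hi, act_add, h1, h2]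
    · rw [act_mul, act_mul, h2', R.rf i hi, h1]
    · have h3 : act (ρ i) (act g⁻¹ w) = act g⁻¹ w := R.rw i hi _
        (by rw [herm_act_left, inv_inv, h1, hwe]) (by rw [herm_act_left, inv_inv, h2, hwf])
      rw [act_mul, act_mul, h3, act_act_inv]
  rw [mul_inv_eq_iff_eq_mul] at e1
  exact e1.symm

omit [Fintype F] in
theorem Rho.fix_e (h : Fr q m e f) (R : Rho q m e f ρ) {i j : ℕ} (hi : i < m) (hj : j < m) (hij : i ≠ j) :
    act (ρ i) (e j) = e j ∧ act (ρ i) (f j) = f j := by
  constructor
  · refine R.rw i hi _ (h.ee j hj i hi) ?_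
    rw [h.ef j hj i hi, if_neg (Ne.symm hij)]
  · refine R.rw i hi _ ?_ (h.ff j hj i hi)
    rw [h.fe j hj i hi, if_neg (Ne.symm hij)]

theorem Rho.comm (h : Fr q m e f) (R : Rho q m e f ρ) {i j : ℕ} (hi : i < m) (hj : j < m) :
    ρ i * ρ j = ρ j * ρ i := by
  by_cases hij : i = j
  · rw [hij]
  · exact R.comm_of_fix h hi (R.fix_e h hj hi (Ne.symm hij)).1 (R.fix_e h hj hi (Ne.symm hij)).2

omit [Fintype F] in
theorem Rho.cube [CharP F 2] (h : Fr q m e f) (R : Rho q m e f ρ) {i : ℕ} (hi : i < m) : ρ i * ρ i * ρ i = 1 := by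
  have h2 : ∀ v : Fin n → F, v + v = 0 := fun v => by
    funext k
    exact CharTwo.add_self_eq_zero _
  refine ext_pair (h.ee i hi i hi) (h.ff i hi i hi) (by rw [h.ef i hi i hi, if_pos rfl])
    (by rw [h.fe i hi i hi, if_pos rfl]) ?_ ?_ fun w hw hw' => ?_
  · rw [act_mul, act_mul, R.re i hi, act_add, R.re i hi, R.rf i hi, act_one]
    have e1 : e i + f i + e i = f i := by
      calc e i + f i + e i = f i + (e i + e i) := by abel
        _ = f i := by rw [h2, add_zero]
    rw [e1, R.rf i hi]
  · rw [act_mul, act_mul, R.rf i hi, R.re i hi, act_add, R.re i hi, R.rf i hi, act_one]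
    calc e i + f i + e i = f i + (e i + e i) := by abel
      _ = f i := by rw [h2, add_zero]
  · rw [act_mul, act_mul, R.rw i hi w hw hw', R.rw i hi w hw hw', R.rw i hi w hw hw', act_one]

/-- **`QS j` is the centraliser of `ρ i`, `i < j`, in the Siegel group.** -/
theorem Rho.mem_QS_iff (h : Fr q m e f) (R : Rho q m e f ρ) {j : ℕ} (hj : j < m) {g : SU n F q} :
    g ∈ QS q e f j ↔ g ∈ QA q (e j) ∧ ∀ i < j, ρ i * g = g * ρ i := by
  rw [QS, Subgroup.mem_inf]
  constructor
  · rintro ⟨h1, h2⟩
    exact ⟨h1, fun i hi => R.comm_of_fix h (by omega) (h2 i hi).1 (h2 i hi).2⟩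
  · rintro ⟨h1, h2⟩
    refine ⟨h1, fun i hi => ?_⟩
    obtain ⟨c, hc⟩ := h1.2 (e i) (h.ee i (by omega) j hj)
    obtain ⟨d, hd⟩ := h1.2 (f i) (by rw [h.fe i (by omega) j hj, if_neg (by omega)])
    have hge : act g (e i) = e i + c • e j := by rw [← hc]; abel
    have hgf : act g (f i) = f i + d • e j := by rw [← hd]; abel
    have hρj := (R.fix_e h (i := i) (j := j) (by omega) hj (by omega)).1
    have he0 := h.ne_zero hj
    have e1 : act (ρ i) (act g (f i)) = act g (act (ρ i) (f i)) := by rw [← act_mul, ← act_mul, h2 i hi]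
    rw [R.rf i (by omega), hge, hgf, act_add, R.rf i (by omega), act_smul, hρj, add_right_inj] at e1
    have e2 : act (ρ i) (act g (e i)) = act g (act (ρ i) (e i)) := by rw [← act_mul, ← act_mul, h2 i hi]
    rw [R.re i (by omega), hge, act_add, R.re i (by omega), act_add, hge, hgf, act_smul, hρj] at e2
    have e3 : d • e j = 0 := by
      have e4 : e i + f i + c • e j = e i + f i + c • e j + d • e j := e2.trans (by abel)
      rw [left_eq_add] at e4
      exact e4
    rw [hge, hgf, ← e1, e3, add_zero, add_zero]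
    exact ⟨rfl, rfl⟩

end frame

/-! ### Existence -/

omit [Fintype F] in
theorem herm_combo {m : ℕ} {e f : Fin m → Fin n → F} (a b : Fin m → F) (u : Fin n → F) :
    hermForm n F q ((∑ i, a i • e i) + ∑ i, b i • f i) u =
      ∑ i, (a i * hermForm n F q (e i) u) + ∑ i, b i * hermForm n F q (f i) u := by
  rw [herm_add_left, herm_sum_left, herm_sum_left]
  simp only [herm_smul_left]

/-- **Existence of a frame**, `n = 2 m` or `n = 2 m + 1`. -/
theorem exists_fr [CharP F 2] (hF : Fintype.card F = q ^ 2) {m : ℕ} (hn : n = 2 * m ∨ n = 2 * m + 1) :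
    ∃ e f : ℕ → Fin n → F, Fr q m e f := by
  classical
  have h2 : Fact (Nat.Prime 2) := ⟨Nat.prime_two⟩
  have build : ∀ W : Cfsg.Agent.TitsThree.UFrame.Frame F q n m,
      (∀ g : SU n F q, (∃ k : ℕ, g ^ 2 ^ k = 1) → (∀ i, act g (W.e i) = W.e i ∧ act g (W.f i) = W.f i) → g = 1) →
      ∃ e f : ℕ → Fin n → F, Fr q m e f := by
    intro W htop
    refine ⟨fun i => if hi : i < m then W.e ⟨i, hi⟩ else 0, fun i => if hi : i < m then W.f ⟨i, hi⟩ else 0,
      ⟨?_, ?_, ?_, ?_, ?_⟩⟩
    · intro i hi j hj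
      simp only [dif_pos hi, dif_pos hj, W.ee]
    · intro i hi j hj
      simp only [dif_pos hi, dif_pos hj, W.ff]
    · intro i hi j hj
      simp only [dif_pos hi, dif_pos hj, W.ef, Fin.mk.injEq]
    · intro i hi j hj
      simp only [dif_pos hi, dif_pos hj, W.fe, Fin.mk.injEq]
    · intro g hg hfix
      refine htop g hg fun i => ?_
      have := hfix i i.2
      simpa only [dif_pos i.2] using this
  rcases hn with hn | hn
  · obtain ⟨W, hW⟩ := Cfsg.Agent.TitsThree.UFrame.exists_frame_even hF hn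
    refine build W fun g _ hfix => ext_act fun v => ?_
    have hv : v ∈ Submodule.span F (Set.range W.e ∪ Set.range W.f) := hW ▸ Submodule.mem_top
    rw [act_one]
    induction hv using Submodule.span_induction with
    | mem x hx =>
      rcases hx with ⟨i, rfl⟩ | ⟨i, rfl⟩
      · exact (hfix i).1
      · exact (hfix i).2
    | zero => exact act_zero g
    | add x y _ _ hx hy => rw [act_add, hx, hy]
    | smul c x _ hx => rw [act_smul, hx]
  · obtain ⟨W, d, hdd, hde, hdf, hW⟩ := Cfsg.Agent.TitsThree.UFrame.exists_frame_odd hF hn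
    refine build W fun g hg hfix => ?_
    obtain ⟨k, hk⟩ := hg
    have hsw : ∀ u u', hermForm n F q u u' = 0 → hermForm n F q u' u = 0 := fun u u' hu => by
      rw [herm_swap hF u u', hu, zero_pow_q hF]
    -- `g d` is a multiple of `d`
    have hspan : ∀ v : Fin n → F, (∀ i, hermForm n F q v (W.e i) = 0) → (∀ i, hermForm n F q v (W.f i) = 0) →
        ∃ c : F, v = c • d := by
      intro v hve hvf
      refine ⟨hermForm n F q v d, ?_⟩
      rw [← sub_eq_zero]
      apply herm_nondeg hF
      intro w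
      have hw : w ∈ Submodule.span F (Set.range W.e ∪ Set.range W.f ∪ {d}) := hW ▸ Submodule.mem_top
      induction hw using Submodule.span_induction with
      | mem x hx =>
        rcases hx with (⟨i, rfl⟩ | ⟨i, rfl⟩) | hx
        · rw [herm_sub_left, herm_smul_left, hve, hde, mul_zero, sub_zero]
        · rw [herm_sub_left, herm_smul_left, hvf, hdf, mul_zero, sub_zero]
        · rw [Set.mem_singleton_iff] at hx
          rw [hx, herm_sub_left, herm_smul_left, hdd, mul_one, sub_self]
      | zero => exact herm_zero_right hF _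
      | add x y _ _ hx hy => rw [herm_add_right hF, hx, hy, add_zero]
      | smul c x _ hx => rw [herm_smul_right, hx, mul_zero]
    obtain ⟨c, hc⟩ := hspan (act g d)
      (fun i => by rw [← (hfix i).1, herm_act, hde]) (fun i => by rw [← (hfix i).2, herm_act, hdf])
    have hd0 : d ≠ 0 := by
      rintro rfl
      rw [herm_zero_left] at hdd
      exact zero_ne_one hdd
    have hgd : act g d = d := fix_of_pow 2 hd0 hc hk
    refine ext_act fun v => ?_
    have hv : v ∈ Submodule.span F (Set.range W.e ∪ Set.range W.f ∪ {d}) := hW ▸ Submodule.mem_top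
    rw [act_one]
    induction hv using Submodule.span_induction with
    | mem x hx =>
      rcases hx with (⟨i, rfl⟩ | ⟨i, rfl⟩) | hx
      · exact (hfix i).1
      · exact (hfix i).2
      · rw [Set.mem_singleton_iff] at hx
        rw [hx, hgd]
    | zero => exact act_zero g
    | add x y _ _ hx hy => rw [act_add, hx, hy]
    | smul c x _ hx => rw [act_smul, hx]

end Cfsg.Agent.KFacts.Unit.Flag
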