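import Mathlib
import Cfsg.Agent.LieClassical.HermGen

/-!
# The embedding of `SU m F q` into `SU (m + d) F q`

`emb : SU m F q →* SU (m + d) F q`, acting on the first `m` coordinates; its range is `fixGrp m`.
-/

set_option autoImplicit false

namespace Cfsg.Agent.KFacts.Unit

open Cfsg Cfsg.Agent.LieClassical.HermBasic Cfsg.Agent.LieClassical.HermSiegel
  Cfsg.Agent.LieClassical.HermGen Matrix

variable {F : Type*} [Field F] {q m d : ℕ}

/-- The block matrix. -/
def embM (d : ℕ) (A : Matrix (Fin m) (Fin m) F) : Matrix (Fin (m + d)) (Fin (m + d)) F :=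
  Matrix.reindexAlgEquiv F F finSumFinEquiv (Matrix.fromBlocks A 0 0 1)

theorem embM_one : embM d (1 : Matrix (Fin m) (Fin m) F) = 1 := by
  rw [embM, Matrix.fromBlocks_one, map_one]

theorem embM_mul (A B : Matrix (Fin m) (Fin m) F) : embM d (A * B) = embM d A * embM d B := by
  rw [embM, embM, embM, ← map_mul, Matrix.fromBlocks_multiply]
  congr 2 <;> simp

theorem det_embM (A : Matrix (Fin m) (Fin m) F) : (embM d A).det = A.det := by
  rw [embM, Matrix.coe_reindexAlgEquiv, Matrix.det_reindex_self, Matrix.det_fromBlocks_zero₂₁, Matrix.det_one,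
    mul_one]

theorem embM_cc (A : Matrix (Fin m) (Fin m) F) (i j : Fin m) :
    embM d A (Fin.castAdd d i) (Fin.castAdd d j) = A i j := by
  simp [embM, Matrix.coe_reindexAlgEquiv]

theorem embM_cn (A : Matrix (Fin m) (Fin m) F) (i : Fin m) (j : Fin d) :
    embM d A (Fin.castAdd d i) (Fin.natAdd m j) = 0 := by
  simp [embM, Matrix.coe_reindexAlgEquiv]

theorem embM_nc (A : Matrix (Fin m) (Fin m) F) (i : Fin d) (j : Fin m) :
    embM d A (Fin.natAdd m i) (Fin.castAdd d j) = 0 := by
  simp [embM, Matrix.coe_reindexAlgEquiv]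

theorem embM_nn (A : Matrix (Fin m) (Fin m) F) (i j : Fin d) :
    embM d A (Fin.natAdd m i) (Fin.natAdd m j) = (1 : Matrix (Fin d) (Fin d) F) i j := by
  simp [embM, Matrix.coe_reindexAlgEquiv]

theorem embM_mulVec_c (A : Matrix (Fin m) (Fin m) F) (v : Fin (m + d) → F) (i : Fin m) :
    (embM d A *ᵥ v) (Fin.castAdd d i) = (A *ᵥ fun j => v (Fin.castAdd d j)) i := by
  rw [Matrix.mulVec, Matrix.mulVec, dotProduct, dotProduct, Fin.sum_univ_add]
  simp [embM_cc, embM_cn]

theorem embM_mulVec_n (A : Matrix (Fin m) (Fin m) F) (v : Fin (m + d) → F) (i : Fin d) :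
    (embM d A *ᵥ v) (Fin.natAdd m i) = v (Fin.natAdd m i) := by
  rw [Matrix.mulVec, dotProduct, Fin.sum_univ_add]
  simp [embM_nc, embM_nn, Matrix.one_apply]

theorem herm_split (u v : Fin (m + d) → F) :
    hermForm (m + d) F q u v = hermForm m F q (fun j => u (Fin.castAdd d j)) (fun j => v (Fin.castAdd d j)) +
      ∑ j : Fin d, u (Fin.natAdd m j) * v (Fin.natAdd m j) ^ q := by
  rw [herm_def, herm_def, Fin.sum_univ_add]

/-- The embedding. -/
def emb (d : ℕ) : SU m F q →* SU (m + d) F q where
  toFun g := mkSU (embM d (mat g)) (by rw [det_embM, det_mat]) fun u v => by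
    rw [herm_split, herm_split]
    simp only [embM_mulVec_c, embM_mulVec_n]
    congr 1
    exact herm_act g _ _
  map_one' := by
    apply mat_injective
    rw [mat_mkSU, mat_one, embM_one, mat_one]
  map_mul' g h := by
    apply mat_injective
    rw [mat_mkSU, mat_mul, embM_mul, mat_mul, mat_mkSU, mat_mkSU]

theorem act_emb_c (g : SU m F q) (v : Fin (m + d) → F) (i : Fin m) :
    act (emb d g) v (Fin.castAdd d i) = act g (fun j => v (Fin.castAdd d j)) i := embM_mulVec_c _ _ _

theorem act_emb_n (g : SU m F q) (v : Fin (m + d) → F) (i : Fin d) :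
    act (emb d g) v (Fin.natAdd m i) = v (Fin.natAdd m i) := embM_mulVec_n _ _ _

omit [Field F] in
theorem ext_fin {u v : Fin (m + d) → F} (h1 : ∀ i, u (Fin.castAdd d i) = v (Fin.castAdd d i))
    (h2 : ∀ i, u (Fin.natAdd m i) = v (Fin.natAdd m i)) : u = v := by
  funext i
  exact Fin.addCases (motive := fun i => u i = v i) h1 h2 i

/-- `emb g` fixes the vectors supported on the last coordinates -/
theorem emb_fix (g : SU m F q) {v : Fin (m + d) → F} (hv : ∀ i, v (Fin.castAdd d i) = 0) :
    act (emb d g) v = v := by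
  apply ext_fin
  · intro i
    rw [act_emb_c, hv]
    have : (fun j => v (Fin.castAdd d j)) = (0 : Fin m → F) := funext hv
    rw [this, act_zero]
    rfl
  · exact act_emb_n g v

theorem emb_mem (g : SU m F q) : emb d g ∈ (fixGrp m : Subgroup (SU (m + d) F q)) := by
  intro i hi
  apply emb_fix
  intro j
  apply Pi.single_eq_of_ne
  intro h
  have := congrArg Fin.val h
  rw [Fin.val_castAdd] at this
  omega

theorem emb_injective : Function.Injective (emb (F := F) (q := q) (m := m) d) := by
  rw [injective_iff_map_eq_one]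
  intro g hg
  apply ext_act
  intro v
  rw [act_one]
  funext i
  have h1 := act_emb_c (d := d) g (Fin.append v 0) i
  rw [hg, act_one] at h1
  simp only [Fin.append_left] at h1
  exact h1.symm

variable [Fintype F]

/-- **The range of `emb`.** -/
theorem exists_emb (hF : Fintype.card F = q ^ 2) {g : SU (m + d) F q} (hg : g ∈ (fixGrp m : Subgroup (SU (m + d) F q))) :
    ∃ a : SU m F q, emb d a = g := by
  -- the matrix
  have hn : ∀ (x : Fin (m + d)) (j : Fin d), mat g x (Fin.natAdd m j) = if x = Fin.natAdd m j then 1 else 0 := by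
    intro x j
    rw [← act_single, hg _ (by simp), Pi.single_apply]
  have hc : ∀ (i : Fin d) (j : Fin m), mat g (Fin.natAdd m i) (Fin.castAdd d j) = 0 := by
    intro i j
    rw [← act_single]
    exact act_mem_coordSub hF hg (single_mem_coordSub (by simp) 1) _ (by simp)
  set A : Matrix (Fin m) (Fin m) F := (mat g).submatrix (Fin.castAdd d) (Fin.castAdd d) with hA
  have hM : embM d A = mat g := by
    ext x y
    refine Fin.addCases (fun i => ?_) (fun i => ?_) x <;> refine Fin.addCases (fun j => ?_) (fun j => ?_) y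
    · rw [embM_cc, hA, Matrix.submatrix_apply]
    · rw [embM_cn, hn, if_neg]
      intro h
      have := congrArg Fin.val h
      rw [Fin.val_castAdd, Fin.val_natAdd] at this
      omega
    · rw [embM_nc, hc]
    · rw [embM_nn, hn, Matrix.one_apply]
      simp
  have hdet : A.det = 1 := by rw [← det_embM (d := d), hM, det_mat]
  have happ : ∀ u v : Fin m → F, hermForm (m + d) F q (Fin.append u (0 : Fin d → F)) (Fin.append v (0 : Fin d → F)) =
      hermForm m F q u v := by
    intro u v
    rw [herm_split]
    simp only [Fin.append_left, Fin.append_right, Pi.zero_apply, zero_mul, Finset.sum_const_zero, add_zero]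
  have hmul : ∀ u : Fin m → F, mat g *ᵥ Fin.append u (0 : Fin d → F) = Fin.append (A *ᵥ u) (0 : Fin d → F) := by
    intro u
    rw [← hM]
    apply ext_fin
    · intro i
      rw [embM_mulVec_c, Fin.append_left]
      simp only [Fin.append_left]
    · intro i
      rw [embM_mulVec_n, Fin.append_right, Fin.append_right]
  refine ⟨mkSU A hdet fun u v => ?_, ?_⟩
  · rw [← happ, ← hmul, ← hmul, ← happ u v]
    exact herm_act g _ _
  · apply mat_injective
    exact hM

end Cfsg.Agent.KFacts.Unit
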