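import Mathlib
import Cfsg.Agent.ClassicalGeometry.PSUAutUnip

/-!
# Generation of subgroups of `SU n F q` by Siegel elements and transvections

`fixGrp_le_sGrp`: the elements of `SU n F q` fixing the basis vectors from the `k`-th on, `k ≥ 3`, are generated by the
Siegel elements with both vectors in the coordinate subspace.
`siegel_mem_tG`: in characteristic two, Siegel elements are products of transvections.
-/

set_option autoImplicit false

namespace Cfsg.Agent.KFacts.Unit

open Cfsg Cfsg.Agent.LieClassical.HermBasic Cfsg.Agent.LieClassical.HermSiegel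
  Cfsg.Agent.LieClassical.HermGen Cfsg.Agent.LieClassical.SUBasic Matrix
  Cfsg.Agent.ClassicalGeometry.PSUAutBasic

variable {F : Type*} [Field F] [Fintype F] {q n : ℕ}

/-- The subgroup generated by the Siegel elements with vectors in `W`. -/
def sG (hF : Fintype.card F = q ^ 2) (W : Submodule F (Fin n → F)) : Subgroup (SU n F q) :=
  Subgroup.closure {g | ∃ u ∈ W, ∃ w ∈ W, ∃ (μ : F) (h : IsSiegel q u w μ), g = siegel hF u w μ h}

theorem siegel_mem_sG (hF : Fintype.card F = q ^ 2) {W : Submodule F (Fin n → F)} {u w : Fin n → F} {μ : F}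
    (h : IsSiegel q u w μ) (hu : u ∈ W) (hw : w ∈ W) : siegel hF u w μ h ∈ sG hF W :=
  Subgroup.subset_closure ⟨u, hu, w, hw, μ, h, rfl⟩

theorem sG_mono (hF : Fintype.card F = q ^ 2) {W W' : Submodule F (Fin n → F)} (h : W ≤ W') :
    sG hF W ≤ sG hF W' := by
  apply Subgroup.closure_mono
  rintro _ ⟨u, hu, w, hw, μ, hs, rfl⟩
  exact ⟨u, h hu, w, h hw, μ, hs, rfl⟩

theorem sG_le_fixGrp (hF : Fintype.card F = q ^ 2) {k : ℕ} :
    sG hF (coordSub F n k) ≤ fixGrp k := by
  rw [sG, Subgroup.closure_le]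
  rintro _ ⟨u, hu, w, hw, μ, hs, rfl⟩
  exact siegel_mem_fixGrp hF hs hu hw

/-- Non-orthogonal isotropic vectors are in one orbit. -/
theorem sG_map_of_not_orth (hF : Fintype.card F = q ^ 2) {k : ℕ} (hk : 3 ≤ k) (hkn : k ≤ n)
    {u u' : Fin n → F} (hu : u ∈ coordSub F n k) (hu' : u' ∈ coordSub F n k)
    (hiu : hermForm n F q u u = 0) (hiu' : hermForm n F q u' u' = 0)
    (ht : hermForm n F q u u' ≠ 0) :
    ∃ g ∈ sG hF (coordSub F n k), act g u = u' := by
  set t := hermForm n F q u u' with htdef
  have hsw : hermForm n F q u' u = t ^ q := herm_swap hF u u'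
  have htq : t ^ q ≠ 0 := pow_ne_zero _ ht
  obtain ⟨r, hr, hru, hru', hrr⟩ := exists_perp hF hk hkn hu hu' hiu hiu' ht
    (c := -(t⁻¹ + (t ^ q)⁻¹))
    (by rw [neg_pow_q hF, add_pow_q hF, inv_pow, inv_pow, pow_q_pow_q hF, add_comm])
  -- the isotropic vector with equal products
  set z : Fin n → F := t⁻¹ • u + (t ^ q)⁻¹ • u' + r with hz
  have huz : hermForm n F q u z = 1 := by
    rw [hz]
    simp only [herm_add_right hF, herm_smul_right, hiu, herm_eq_zero_swap hF hru, ← htdef,
      inv_pow, pow_q_pow_q hF]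
    field_simp
    ring
  have hu'z : hermForm n F q u' z = 1 := by
    rw [hz]
    simp only [herm_add_right hF, herm_smul_right, hiu', herm_eq_zero_swap hF hru', hsw,
      inv_pow, pow_q_pow_q hF]
    field_simp
    ring
  have hzz : hermForm n F q z z = 0 := by
    conv_lhs => rw [hz, herm_add_left, herm_add_left, herm_smul_left, herm_smul_left, huz, hu'z]
    have : hermForm n F q r z = hermForm n F q r r := by
      rw [hz]
      simp only [herm_add_right hF, herm_smul_right, hru, hru']
      ring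
    rw [this, hrr]; ring
  have hzW : z ∈ coordSub F n k :=
    Submodule.add_mem _ (Submodule.add_mem _ (Submodule.smul_mem _ _ hu)
      (Submodule.smul_mem _ _ hu')) hr
  obtain ⟨c, μ, hs, hact⟩ := exists_siegel_map hF hzz (v := u) (v' := u') (by rw [hiu, hiu'])
    (by rw [huz, hu'z]) (by rw [huz]; exact one_ne_zero)
  exact ⟨_, siegel_mem_sG hF hs hzW
    (Submodule.smul_mem _ _ (Submodule.sub_mem _ hu' hu)), hact⟩

/-- Transitivity on nonzero isotropic vectors. -/
theorem sG_map_iso (hF : Fintype.card F = q ^ 2) {k : ℕ} (hk : 3 ≤ k) (hkn : k ≤ n)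
    {u u' : Fin n → F} (hu : u ∈ coordSub F n k) (hu' : u' ∈ coordSub F n k)
    (h0 : u ≠ 0) (h0' : u' ≠ 0)
    (hiu : hermForm n F q u u = 0) (hiu' : hermForm n F q u' u' = 0) :
    ∃ g ∈ sG hF (coordSub F n k), act g u = u' := by
  by_cases ht : hermForm n F q u u' = 0
  · obtain ⟨z, hz, hzz, huz, hu'z⟩ := exists_iso_common hF hu hu' h0 h0' hiu ht
    obtain ⟨g, hg, hgu⟩ := sG_map_of_not_orth hF hk hkn hu hz hiu hzz huz
    obtain ⟨g', hg', hgu'⟩ := sG_map_of_not_orth hF hk hkn hu' hz hiu' hzz hu'z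
    refine ⟨g'⁻¹ * g, Subgroup.mul_mem _ (Subgroup.inv_mem _ hg') hg, ?_⟩
    rw [act_mul, hgu, ← hgu', act_inv_act]
  · exact sG_map_of_not_orth hF hk hkn hu hu' hiu hiu' ht

/-- Transitivity on hyperbolic pairs. -/
theorem sG_map_hyp (hF : Fintype.card F = q ^ 2) {k : ℕ} (hk : 3 ≤ k) (hkn : k ≤ n)
    {u u' v v' : Fin n → F} (hu : u ∈ coordSub F n k) (hu' : u' ∈ coordSub F n k)
    (hv : v ∈ coordSub F n k) (hv' : v' ∈ coordSub F n k)
    (hiu : hermForm n F q u u = 0) (hiu' : hermForm n F q u' u' = 0)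
    (huu' : hermForm n F q u u' = 1)
    (hiv : hermForm n F q v v = 0) (hiv' : hermForm n F q v' v' = 0)
    (hvv' : hermForm n F q v v' = 1) :
    ∃ g ∈ sG hF (coordSub F n k), act g u = v ∧ act g u' = v' := by
  have hu0 : u ≠ 0 := by
    rintro rfl
    rw [herm_zero_left] at huu'
    exact zero_ne_one huu'
  have hv0 : v ≠ 0 := by
    rintro rfl
    rw [herm_zero_left] at hvv'
    exact zero_ne_one hvv'
  obtain ⟨g, hg, hgu⟩ := sG_map_iso hF hk hkn hu hv hu0 hv0 hiu hiv
  have h1 : hermForm n F q (act g u') v = 1 := by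
    rw [← hgu, herm_act, herm_swap hF u u', huu', one_pow]
  have h2 : hermForm n F q v' v = 1 := by
    rw [herm_swap hF v v', hvv', one_pow]
  obtain ⟨c, μ, hs, hact⟩ := exists_siegel_map hF hiv (v := act g u') (v' := v')
    (by rw [herm_act, hiu', hiv']) (by rw [h1, h2]) (by rw [h1]; exact one_ne_zero)
  have hW : c • (v' - act g u') ∈ coordSub F n k :=
    Submodule.smul_mem _ _ (Submodule.sub_mem _ hv' (act_mem_coordSub hF (sG_le_fixGrp hF hg) hu'))
  refine ⟨siegel hF v (c • (v' - act g u')) μ hs * g,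
    Subgroup.mul_mem _ (siegel_mem_sG hF hs hv hW) hg, ?_, ?_⟩
  · rw [act_mul, hgu, act_siegel_self]
  · rw [act_mul, hact]

/-- Generation: the elements fixing the basis vectors from the `k`-th on, `k ≥ 3`, are generated by the Siegel
elements with vectors in the coordinate subspace. -/
theorem fixGrp_le_sG (hF : Fintype.card F = q ^ 2) {k : ℕ} (hk : 3 ≤ k) (hkn : k ≤ n) :
    (fixGrp k : Subgroup (SU n F q)) ≤ sG hF (coordSub F n k) := by
  induction k, hk using Nat.le_induction with
  | base =>
    intro g hg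
    let i0 : Fin n := ⟨0, by omega⟩
    let i1 : Fin n := ⟨1, by omega⟩
    let i2 : Fin n := ⟨2, by omega⟩
    have h01 : i0 ≠ i1 := by simp [i0, i1]
    obtain ⟨p, p', a, b, ha, hp, hp', hpp, hp'p', hpp'⟩ := exists_hyp_pair (q := q) hF h01
    have e0 : (Pi.single i0 1 : Fin n → F) ∈ coordSub F n 3 :=
      single_mem_coordSub (by simp [i0]) 1
    have e1 : (Pi.single i1 1 : Fin n → F) ∈ coordSub F n 3 :=
      single_mem_coordSub (by simp [i1]) 1
    have hpW : p ∈ coordSub F n 3 := by
      rw [hp]; exact Submodule.add_mem _ e0 (Submodule.smul_mem _ _ e1)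
    have hp'W : p' ∈ coordSub F n 3 := by
      rw [hp']; exact Submodule.add_mem _ e0 (Submodule.smul_mem _ _ hpW)
    obtain ⟨x, hx, hxp, hxp'⟩ := sG_map_hyp hF le_rfl hkn
      (act_mem_coordSub hF hg hpW) (act_mem_coordSub hF hg hp'W) hpW hp'W
      (by rw [herm_act, hpp]) (by rw [herm_act, hp'p']) (by rw [herm_act, hpp']) hpp hp'p' hpp'
    have hy : x * g = 1 := by
      rw [← act_mul] at hxp hxp'
      have f0 : act (x * g) (Pi.single i0 1) = Pi.single i0 1 := by
        have : (Pi.single i0 1 : Fin n → F) = p' - b • p := by rw [hp', add_sub_cancel_right]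
        rw [this, act_sub, act_smul, hxp, hxp']
      have f1 : act (x * g) (Pi.single i1 1) = Pi.single i1 1 := by
        have : (Pi.single i1 1 : Fin n → F) = a⁻¹ • (p - Pi.single i0 1) := by
          rw [hp, add_sub_cancel_left, smul_smul, inv_mul_cancel₀ ha, one_smul]
        rw [this, act_smul, act_sub, hxp, f0]
      apply eq_one_of_fix hF i2
      intro j hj
      by_cases hj3 : 3 ≤ j.val
      · exact (fixGrp 3).mul_mem (sG_le_fixGrp hF hx) hg j hj3
      · have hj2 : j.val ≠ 2 := fun h => hj (Fin.ext h)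
        have : j.val = 0 ∨ j.val = 1 := by omega
        rcases this with h | h
        · have : j = i0 := Fin.ext h
          rw [this]; exact f0
        · have : j = i1 := Fin.ext h
          rw [this]; exact f1
    rw [mul_eq_one_iff_eq_inv'] at hy
    rw [hy]
    exact Subgroup.inv_mem _ hx
  | succ k hk ih =>
    intro g hg
    have ih' := ih (by omega)
    let i0 : Fin n := ⟨0, by omega⟩
    let i1 : Fin n := ⟨k, by omega⟩
    have h01 : i0 ≠ i1 := by simp [i0, i1]; omega
    obtain ⟨p, p', a, b, ha, hp, hp', hpp, hp'p', hpp'⟩ := exists_hyp_pair (q := q) hF h01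
    have e0 : (Pi.single i0 1 : Fin n → F) ∈ coordSub F n (k + 1) :=
      single_mem_coordSub (by simp [i0]) 1
    have e1 : (Pi.single i1 1 : Fin n → F) ∈ coordSub F n (k + 1) :=
      single_mem_coordSub (by simp [i1]) 1
    have hpW : p ∈ coordSub F n (k + 1) := by
      rw [hp]; exact Submodule.add_mem _ e0 (Submodule.smul_mem _ _ e1)
    have hp'W : p' ∈ coordSub F n (k + 1) := by
      rw [hp']; exact Submodule.add_mem _ e0 (Submodule.smul_mem _ _ hpW)
    obtain ⟨x, hx, hxp, hxp'⟩ := sG_map_hyp hF (by omega : 3 ≤ k + 1) hkn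
      (act_mem_coordSub hF hg hpW) (act_mem_coordSub hF hg hp'W) hpW hp'W
      (by rw [herm_act, hpp]) (by rw [herm_act, hp'p']) (by rw [herm_act, hpp']) hpp hp'p' hpp'
    have hy : x * g ∈ fixGrp k := by
      rw [← act_mul] at hxp hxp'
      have f0 : act (x * g) (Pi.single i0 1) = Pi.single i0 1 := by
        have : (Pi.single i0 1 : Fin n → F) = p' - b • p := by rw [hp', add_sub_cancel_right]
        rw [this, act_sub, act_smul, hxp, hxp']
      have f1 : act (x * g) (Pi.single i1 1) = Pi.single i1 1 := by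
        have : (Pi.single i1 1 : Fin n → F) = a⁻¹ • (p - Pi.single i0 1) := by
          rw [hp, add_sub_cancel_left, smul_smul, inv_mul_cancel₀ ha, one_smul]
        rw [this, act_smul, act_sub, hxp, f0]
      intro j hj
      by_cases hjk : j.val = k
      · have : j = i1 := Fin.ext hjk
        rw [this]; exact f1
      · exact (fixGrp (k + 1)).mul_mem (sG_le_fixGrp hF hx) hg j (by omega)
    have hmem := sG_mono hF (W := coordSub F n k) (W' := coordSub F n (k + 1))
      (fun v hv i hi => hv i (by omega)) (ih' hy)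
    have : g = x⁻¹ * (x * g) := by group
    rw [this]
    exact Subgroup.mul_mem _ (Subgroup.inv_mem _ hx) hmem

/-! ### Transvections -/

/-- The subgroup generated by the transvections with centre in `W`. -/
def tG (hF : Fintype.card F = q ^ 2) (W : Submodule F (Fin n → F)) : Subgroup (SU n F q) :=
  Subgroup.closure {g | ∃ u ∈ W, ∃ (hu : hermForm n F q u u = 0) (μ : F) (hμ : μ + μ ^ q = 0),
    g = transv hF u hu μ hμ}

theorem transv_mem_tG (hF : Fintype.card F = q ^ 2) {W : Submodule F (Fin n → F)} {u : Fin n → F} {μ : F}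
    (hu : hermForm n F q u u = 0) (hμ : μ + μ ^ q = 0) (h : u ∈ W) : transv hF u hu μ hμ ∈ tG hF W :=
  Subgroup.subset_closure ⟨u, h, hu, μ, hμ, rfl⟩

theorem tG_mono (hF : Fintype.card F = q ^ 2) {W W' : Submodule F (Fin n → F)} (h : W ≤ W') :
    tG hF W ≤ tG hF W' := by
  apply Subgroup.closure_mono
  rintro _ ⟨u, hu, hiu, μ, hs, rfl⟩
  exact ⟨u, h hu, hiu, μ, hs, rfl⟩

variable [CharP F 2]

omit [Fintype F] in
theorem add_self_pow (x : F) (hx : x ^ q = x) : x + x ^ q = 0 := by
  rw [hx, CharTwo.add_self_eq_zero]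

/-- A Siegel element with isotropic second vector is a product of three transvections. -/
theorem siegel_iso_eq (hF : Fintype.card F = q ^ 2) {s w : Fin n → F} (h : IsSiegel q s w 0)
    (hw : hermForm n F q w w = 0) (hsw : hermForm n F q (w + s) (w + s) = 0)
    (h1 : (1 : F) + 1 ^ q = 0) :
    siegel hF s w 0 h = transv hF w hw 1 h1 * transv hF (w + s) hsw 1 h1 * transv hF s h.iso 1 h1 := by
  apply ext_act
  intro v
  have h2 : hermForm n F q s w = 0 := h.orth' hF
  rw [act_mul, act_mul, act_siegel, act_transv, act_transv, act_transv]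
  simp only [herm_add_left, herm_add_right hF, herm_smul_left, h.iso, h2, hw]
  funext i
  simp only [Pi.add_apply, Pi.smul_apply, smul_eq_mul]
  have h3 : (2 : F) = 0 := CharTwo.two_eq_zero
  linear_combination (-(hermForm n F q v w * w i) - hermForm n F q v w * s i - hermForm n F q v s * s i) * h3

omit [CharP F 2] in
/-- Adding a transvection. -/
theorem siegel_mem_of_mem (hF : Fintype.card F = q ^ 2) {G0 : Subgroup (SU n F q)} {s w : Fin n → F} {μ μ' : F}
    (h : IsSiegel q s w μ) (h' : IsSiegel q s w μ')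
    (ht : ∀ (hs : hermForm n F q s s = 0) ν (hν : ν + ν ^ q = 0), transv hF s hs ν hν ∈ G0)
    (hm : siegel hF s w μ h ∈ G0) : siegel hF s w μ' h' ∈ G0 := by
  have hν : (μ' - μ) + (μ' - μ) ^ q = 0 := by
    rw [sub_pow_q hF]
    linear_combination h'.tr - h.tr
  have h1 : siegel hF s w μ' h' = transv hF s h.iso (μ' - μ) hν * siegel hF s w μ h := by
    apply ext_act
    intro v
    rw [act_mul, act_siegel, act_siegel, act_transv]
    simp only [herm_add_left, herm_smul_left, h.iso, h.orth]
    funext i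
    simp only [Pi.add_apply, Pi.smul_apply, smul_eq_mul]
    ring
  rw [h1]
  exact mul_mem (ht _ _ _) hm

/-- Siegel elements are products of transvections if there is a hyperbolic pair orthogonal to `s` in `W`. -/
theorem siegel_mem_tG (hF : Fintype.card F = q ^ 2) {W : Submodule F (Fin n → F)} {s w : Fin n → F} {μ : F}
    (h : IsSiegel q s w μ) (hs : s ∈ W) (hw : w ∈ W) {x y : Fin n → F} (hx : x ∈ W) (hy : y ∈ W)
    (hxx : hermForm n F q x x = 0) (hyy : hermForm n F q y y = 0) (hxy : hermForm n F q x y = 1)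
    (hxs : hermForm n F q x s = 0) (hys : hermForm n F q y s = 0) : siegel hF s w μ h ∈ tG hF W := by
  have h1 : (1 : F) + 1 ^ q = 0 := by rw [one_pow]; exact CharTwo.add_self_eq_zero 1
  have ht : ∀ (hs' : hermForm n F q s s = 0) ν (hν : ν + ν ^ q = 0), transv hF s hs' ν hν ∈ tG hF W :=
    fun _ _ _ => transv_mem_tG hF _ _ hs
  -- the property for the second vector
  let P : (Fin n → F) → Prop := fun w => ∃ (μ : F) (h : IsSiegel q s w μ), siegel hF s w μ h ∈ tG hF W
  have hPiso : ∀ w ∈ W, hermForm n F q w w = 0 → hermForm n F q w s = 0 → P w := by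
    intro w hw hww hws
    have hsw : hermForm n F q s w = 0 := herm_eq_zero_swap hF hws
    have hs0 : IsSiegel q s w 0 := ⟨h.iso, hws, by rw [hww, zero_pow_q hF]; ring⟩
    refine ⟨0, hs0, ?_⟩
    rw [siegel_iso_eq hF hs0 hww (by
      rw [herm_add_left, herm_add_right hF, herm_add_right hF, hww, hws, hsw, h.iso]; ring) h1]
    exact mul_mem (mul_mem (transv_mem_tG hF _ _ hw) (transv_mem_tG hF _ _ (W.add_mem hw hs)))
      (transv_mem_tG hF _ _ hs)
  have hPadd : ∀ w w', P w → P w' → P (w + w') := by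
    rintro w w' ⟨μ, h, hm⟩ ⟨μ', h', hm'⟩
    exact ⟨_, h.mul hF h', by rw [← siegel_mul hF h h']; exact mul_mem hm hm'⟩
  have hPw : P w := by
    have hws := h.orth
    by_cases hwx : hermForm n F q w x = 0
    · -- add `x`
      have hne : hermForm n F q y (w + x) ≠ 0 ∨ hermForm n F q w y ≠ 0 := by
        by_cases hwy : hermForm n F q w y = 0
        · left
          have h3 : hermForm n F q y (w + x) = 1 := by
            rw [herm_swap hF (w + x) y, herm_add_left, hwy, hxy, zero_add, one_pow]
          rw [h3]; exact one_ne_zero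
        · right; exact hwy
      rcases hne with hne | hne
      · obtain ⟨t, ht'⟩ := exists_iso_correct hF hyy hne
        have e1 : w = (w + x + t • y) + (-x) + (-(t • y)) := by abel
        rw [e1]
        refine hPadd _ _ (hPadd _ _ (hPiso _ ?_ ht' ?_) (hPiso _ (W.neg_mem hx) ?_ ?_))
          (hPiso _ (W.neg_mem (W.smul_mem _ hy)) ?_ ?_)
        · exact W.add_mem (W.add_mem hw hx) (W.smul_mem _ hy)
        · rw [herm_add_left, herm_add_left, herm_smul_left, hws, hxs, hys]; ring
        · rw [herm_neg_left, herm_neg_right hF, hxx]; ring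
        · rw [herm_neg_left, hxs, neg_zero]
        · rw [herm_neg_left, herm_neg_right hF, herm_smul_left, herm_smul_right, hyy]; ring
        · rw [herm_neg_left, herm_smul_left, hys, mul_zero, neg_zero]
      · have hne' : hermForm n F q y w ≠ 0 := fun h0 => hne (herm_eq_zero_swap hF h0)
        obtain ⟨t, ht'⟩ := exists_iso_correct hF hyy hne'
        have e1 : w = (w + t • y) + (-(t • y)) := by abel
        rw [e1]
        refine hPadd _ _ (hPiso _ ?_ ht' ?_) (hPiso _ (W.neg_mem (W.smul_mem _ hy)) ?_ ?_)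
        · exact W.add_mem hw (W.smul_mem _ hy)
        · rw [herm_add_left, herm_smul_left, hws, hys]; ring
        · rw [herm_neg_left, herm_neg_right hF, herm_smul_left, herm_smul_right, hyy]; ring
        · rw [herm_neg_left, herm_smul_left, hys, mul_zero, neg_zero]
    · have hne' : hermForm n F q x w ≠ 0 := fun h0 => hwx (herm_eq_zero_swap hF h0)
      obtain ⟨t, ht'⟩ := exists_iso_correct hF hxx hne'
      have e1 : w = (w + t • x) + (-(t • x)) := by abel
      rw [e1]
      refine hPadd _ _ (hPiso _ ?_ ht' ?_) (hPiso _ (W.neg_mem (W.smul_mem _ hx)) ?_ ?_)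
      · exact W.add_mem hw (W.smul_mem _ hx)
      · rw [herm_add_left, herm_smul_left, hws, hxs]; ring
      · rw [herm_neg_left, herm_neg_right hF, herm_smul_left, herm_smul_right, hxx]; ring
      · rw [herm_neg_left, herm_smul_left, hxs, mul_zero, neg_zero]
  obtain ⟨μ', h', hm⟩ := hPw
  exact siegel_mem_of_mem hF h' h ht hm

end Cfsg.Agent.KFacts.Unit
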