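import Mathlib
import Cfsg.Agent.KFacts.Unit.Gen
import Cfsg.Agent.KFacts.Unit.Cent
import Cfsg.Agent.LieClassical.HermSimple

/-!
# The stabiliser of an isotropic vector in `PSU n F q`, `q` even, `n ≥ 6`

`PP u` is the image of the stabiliser of the vector `u`. It is generated by transvections, perfect, contains the
2-elements centralising `RR u`; `RR u` is its centre.
-/

set_option autoImplicit false

namespace Cfsg.Agent.KFacts.Unit

open scoped commutatorElement

open Cfsg Cfsg.Agent.LieClassical.HermBasic Cfsg.Agent.LieClassical.HermSiegel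
  Cfsg.Agent.LieClassical.HermGen Cfsg.Agent.LieClassical.SUBasic Matrix
  Cfsg.Agent.ClassicalGeometry.PSUAutBasic Cfsg.Agent.ClassicalGeometry.PSUAutSylow
  Cfsg.Agent.ClassicalGeometry.PSUAutUnip Cfsg.Agent.ClassicalGeometry.PSUAutPhi

section Basic

variable {F : Type*} [Field F] {q n : ℕ}

/-- The orthogonal space of a vector. -/
def perp (q : ℕ) (u : Fin n → F) : Submodule F (Fin n → F) where
  carrier := {v | hermForm n F q v u = 0}
  zero_mem' := herm_zero_left _
  add_mem' := fun {a b} (ha : hermForm n F q a u = 0) (hb : hermForm n F q b u = 0) =>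
    show hermForm n F q (a + b) u = 0 by rw [herm_add_left, ha, hb, add_zero]
  smul_mem' := fun c a (ha : hermForm n F q a u = 0) =>
    show hermForm n F q (c • a) u = 0 by rw [herm_smul_left, ha, mul_zero]

theorem mem_perp {u v : Fin n → F} : v ∈ perp q u ↔ hermForm n F q v u = 0 := Iff.rfl

/-- The stabiliser of a vector. -/
def stabV (q : ℕ) (u : Fin n → F) : Subgroup (SU n F q) where
  carrier := {g | act g u = u}
  one_mem' := act_one _
  mul_mem' := fun {g h} hg hh => by
    change act (g * h) u = u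
    rw [act_mul, show act h u = u from hh, show act g u = u from hg]
  inv_mem' := fun {g} hg => by
    change act g⁻¹ u = u
    exact ((act_eq_iff g).1 hg).symm

theorem mem_stabV {u : Fin n → F} {g : SU n F q} : g ∈ stabV q u ↔ act g u = u := Iff.rfl

end Basic

variable {F : Type*} [Field F] [Fintype F] {q n : ℕ}

omit [Fintype F] in
theorem act_mem_perp {u v : Fin n → F} {g : SU n F q} (hg : act g u = u) (hv : v ∈ perp q u) : act g v ∈ perp q u := by
  rw [mem_perp] at hv ⊢
  rw [← hv, ← herm_act g v u, hg]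

/-- A hyperbolic pair orthogonal to a given isotropic vector of the coordinate subspace. -/
theorem exists_pair_coord (hF : Fintype.card F = q ^ 2) {k : ℕ} (hk : 4 ≤ k) (hkn : k ≤ n) {s : Fin n → F}
    (hs : s ∈ coordSub F n k) (hss : hermForm n F q s s = 0) :
    ∃ x ∈ coordSub F n k, ∃ y ∈ coordSub F n k, hermForm n F q x x = 0 ∧ hermForm n F q y y = 0 ∧
      hermForm n F q x y = 1 ∧ hermForm n F q x s = 0 ∧ hermForm n F q y s = 0 := by
  let i0 : Fin n := ⟨0, by omega⟩
  let i1 : Fin n := ⟨1, by omega⟩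
  let i2 : Fin n := ⟨2, by omega⟩
  let i3 : Fin n := ⟨3, by omega⟩
  obtain ⟨p, p', a, b, ha, hp, hp', hpp, hp'p', hpp'⟩ := exists_hyp_pair (q := q) hF (i := i0) (j := i1) (by simp [i0, i1])
  obtain ⟨x, x', c, d, hc, hx, hx', hxx, hx'x', hxx'⟩ := exists_hyp_pair (q := q) hF (i := i2) (j := i3) (by simp [i2, i3])
  have e0 : (Pi.single i0 1 : Fin n → F) ∈ coordSub F n k := single_mem_coordSub (by simp [i0]; omega) 1
  have e1 : (Pi.single i1 1 : Fin n → F) ∈ coordSub F n k := single_mem_coordSub (by simp [i1]; omega) 1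
  have e2 : (Pi.single i2 1 : Fin n → F) ∈ coordSub F n k := single_mem_coordSub (by simp [i2]; omega) 1
  have e3 : (Pi.single i3 1 : Fin n → F) ∈ coordSub F n k := single_mem_coordSub (by simp [i3]; omega) 1
  have hpW : p ∈ coordSub F n k := by
    rw [hp]; exact Submodule.add_mem _ e0 (Submodule.smul_mem _ _ e1)
  have hxW : x ∈ coordSub F n k := by
    rw [hx]; exact Submodule.add_mem _ e2 (Submodule.smul_mem _ _ e3)
  have hx'W : x' ∈ coordSub F n k := by
    rw [hx']; exact Submodule.add_mem _ e2 (Submodule.smul_mem _ _ hxW)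
  have hp0 : p ≠ 0 := by
    rintro h
    rw [h, herm_zero_left] at hpp'
    exact zero_ne_one hpp'
  have hxp : hermForm n F q x p = 0 := by
    rw [hx, hp, herm_add_right hF, herm_smul_right, herm_single_right hF, herm_single_right hF]
    simp [i0, i1, i2, i3]
  have hx'p : hermForm n F q x' p = 0 := by
    rw [hx', herm_add_left, herm_smul_left, hxp, mul_zero, add_zero, hp, herm_add_right hF, herm_smul_right,
      herm_single_right hF, herm_single_right hF]
    simp [i0, i1, i2]
  by_cases hs0 : s = 0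
  · exact ⟨x, hxW, x', hx'W, hxx, hx'x', hxx', by rw [hs0, herm_zero_right hF], by rw [hs0, herm_zero_right hF]⟩
  obtain ⟨g, hg, hgs⟩ := sG_map_iso hF (by omega) hkn hpW hs hp0 hs0 hpp hss
  have hgf := sG_le_fixGrp hF hg
  refine ⟨act g x, act_mem_coordSub hF hgf hxW, act g x', act_mem_coordSub hF hgf hx'W, ?_, ?_, ?_, ?_, ?_⟩
  · rw [herm_act, hxx]
  · rw [herm_act, hx'x']
  · rw [herm_act, hxx']
  · rw [← hgs, herm_act, hxp]
  · rw [← hgs, herm_act, hx'p]

/-- A hyperbolic pair orthogonal to two orthogonal isotropic vectors, `n ≥ 6`. -/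
theorem exists_pair_perp (hF : Fintype.card F = q ^ 2) (hn : 6 ≤ n) {u s : Fin n → F} (hu0 : u ≠ 0)
    (hu : hermForm n F q u u = 0) (hs : hermForm n F q s s = 0) (hsu : hermForm n F q s u = 0) :
    ∃ x y : Fin n → F, hermForm n F q x x = 0 ∧ hermForm n F q y y = 0 ∧
      hermForm n F q x y = 1 ∧ hermForm n F q x u = 0 ∧ hermForm n F q y u = 0 ∧ hermForm n F q x s = 0 ∧
      hermForm n F q y s = 0 := by
  obtain ⟨e, f, H⟩ := exists_frame (F := F) (q := q) (n := n) hF (by omega)
  have he0 := frame_ne_zero H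
  obtain ⟨g, -, hg⟩ := exists_map_iso hF (by omega) le_rfl (mem_coordSub_top e) (mem_coordSub_top u)
    he0 hu0 H.ee hu
  -- pull back `s`
  obtain ⟨s', hs'⟩ : ∃ s', act g s' = s := ⟨act g⁻¹ s, act_act_inv g s⟩
  have h1 : hermForm n F q s' e = 0 := by rw [← herm_act g, hs', hg, hsu]
  have h2 : hermForm n F q s' s' = 0 := by rw [← herm_act g, hs', hs]
  set r := s' - hermForm n F q s' f • e with hr
  have hrV : r ∈ coordSub F n (n - 2) := by
    rw [H.mem]
    constructor
    · rw [hr, herm_sub_left, herm_smul_left, H.ee, h1]; ring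
    · rw [hr, herm_sub_left, herm_smul_left, H.ef]; ring
  have hrr : hermForm n F q r r = 0 := by
    have h3 : hermForm n F q r e = 0 := ((H.mem r).1 hrV).1
    rw [hr] at h3 ⊢
    rw [herm_sub_right hF, herm_smul_right, h3, herm_sub_left, herm_smul_left, h2,
      herm_eq_zero_swap hF h1]
    ring
  obtain ⟨x, hx, y, hy, hxx, hyy, hxy, hxr, hyr⟩ := exists_pair_coord hF (k := n - 2) (by omega) (by omega) hrV hrr
  have hs'e : s' = r + hermForm n F q s' f • e := by rw [hr]; abel
  refine ⟨act g x, act g y, ?_, ?_, ?_, ?_, ?_, ?_, ?_⟩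
  · rw [herm_act, hxx]
  · rw [herm_act, hyy]
  · rw [herm_act, hxy]
  · rw [← hg, herm_act]; exact ((H.mem x).1 hx).1
  · rw [← hg, herm_act]; exact ((H.mem y).1 hy).1
  · rw [← hs', herm_act, hs'e, herm_add_right hF, herm_smul_right, hxr, ((H.mem x).1 hx).1]; ring
  · rw [← hs', herm_act, hs'e, herm_add_right hF, herm_smul_right, hyr, ((H.mem y).1 hy).1]; ring

/-- An element fixing both vectors of a frame. -/
theorem mem_fixGrp_of_frame (hF : Fintype.card F = q ^ 2) {e f : Fin n → F} (H : IsFrame q e f) {g : SU n F q}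
    (he : act g e = e) (hf : act g f = f) : g ∈ (fixGrp (n - 2) : Subgroup (SU n F q)) := by
  intro i hi
  have h1 : (Pi.single i 1 : Fin n → F) = hermForm n F q (Pi.single i 1) f • e +
      hermForm n F q (Pi.single i 1) e • f := by
    rw [← sub_eq_zero]
    have h2 := sub_mem_V hF H (Pi.single i 1 : Fin n → F)
    rw [sub_sub] at h2
    apply herm_nondeg hF
    intro v
    -- orthogonal to the coordinate subspace and to `e`, `f`
    set x := (Pi.single i 1 : Fin n → F) - (hermForm n F q (Pi.single i 1) f • e +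
      hermForm n F q (Pi.single i 1) e • f) with hx
    have h3 := (H.mem x).1 h2
    have h4 : ∀ w ∈ coordSub F n (n - 2), hermForm n F q x w = 0 := by
      intro w hw
      have h5 := (H.mem w).1 hw
      rw [hx, herm_sub_left, herm_add_left, herm_smul_left, herm_smul_left, herm_single_left,
        hw i hi, zero_pow_q hF, herm_eq_zero_swap hF h5.1, herm_eq_zero_swap hF h5.2]
      ring
    have h6 : v = (v - hermForm n F q v f • e - hermForm n F q v e • f) + hermForm n F q v f • e +
      hermForm n F q v e • f := by abel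
    rw [h6, herm_add_right hF, herm_add_right hF, herm_smul_right, herm_smul_right, h3.1, h3.2,
      h4 _ (sub_mem_V hF H v)]
    ring
  rw [h1, act_add, act_smul, act_smul, he, hf]

section Two

variable [CharP F 2]

theorem sG_le_tG (hF : Fintype.card F = q ^ 2) {k : ℕ} (hk : 4 ≤ k) (hkn : k ≤ n) :
    sG hF (coordSub F n k) ≤ tG hF (coordSub F n k) := by
  rw [sG, Subgroup.closure_le]
  rintro _ ⟨u, hu, w, hw, μ, hs, rfl⟩
  obtain ⟨x, hx, y, hy, hxx, hyy, hxy, hxu, hyu⟩ := exists_pair_coord hF hk hkn hu hs.iso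
  exact siegel_mem_tG hF hs hu hw hx hy hxx hyy hxy hxu hyu

theorem stabV_le_frame (hF : Fintype.card F = q ^ 2) (hn : 6 ≤ n) {e f : Fin n → F} (H : IsFrame q e f) :
    stabV q e ≤ tG hF (perp q e) := by
  intro g hg
  have hfe : hermForm n F q f e = 1 := frame_fe hF H
  have hge : act g e = e := hg
  obtain ⟨c, μ, hs, hact⟩ := exists_siegel_map hF H.ee (v := f) (v' := act g f)
    (by rw [herm_act]) (by conv_rhs => rw [← hge, herm_act]) (by rw [hfe]; exact one_ne_zero)
  set s := siegel hF e (c • (act g f - f)) μ hs with hsdef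
  obtain ⟨x, hx, y, hy, hxx, hyy, hxy, -, -⟩ := exists_pair_coord hF (k := n - 2) (by omega) (by omega)
    (Submodule.zero_mem (coordSub F n (n - 2))) (herm_zero_left (0 : Fin n → F))
  have h1 : s ∈ tG hF (perp q e) := by
    refine siegel_mem_tG hF hs ?_ ?_ (x := x) (y := y) ?_ ?_ hxx hyy hxy ?_ ?_
    · exact H.ee
    · exact hs.orth
    · exact ((H.mem x).1 hx).1
    · exact ((H.mem y).1 hy).1
    · exact ((H.mem x).1 hx).1
    · exact ((H.mem y).1 hy).1
  have hse : act s⁻¹ e = e := ((act_eq_iff s).1 (act_siegel_self hF hs)).symm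
  have h2 : s⁻¹ * g ∈ (fixGrp (n - 2) : Subgroup (SU n F q)) :=
    mem_fixGrp_of_frame hF H (by rw [act_mul, hge, hse]) (by rw [act_mul, ← hact, act_inv_act])
  have h3 := tG_mono hF (W := coordSub F n (n - 2)) (W' := perp q e) (fun v hv => ((H.mem v).1 hv).1)
    (sG_le_tG hF (by omega) (by omega) (fixGrp_le_sG hF (by omega) (by omega) h2))
  have h4 : g = s * (s⁻¹ * g) := by group
  rw [h4]
  exact mul_mem h1 h3

omit [CharP F 2] in
theorem tG_conj (hF : Fintype.card F = q ^ 2) {W W' : Submodule F (Fin n → F)} {g : SU n F q}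
    (h : ∀ v ∈ W, act g v ∈ W') {x : SU n F q} (hx : x ∈ tG hF W) : g * x * g⁻¹ ∈ tG hF W' := by
  have h1 : tG hF W ≤ (tG hF W').comap (MulAut.conj g).toMonoidHom := by
    rw [tG, Subgroup.closure_le]
    rintro _ ⟨u, hu, hiu, μ, hμ, rfl⟩
    change g * transv hF u hiu μ hμ * g⁻¹ ∈ tG hF W'
    rw [transv, conj_siegel]
    have h2 : hermForm n F q (act g u) (act g u) = 0 := by rw [herm_act]; exact hiu
    rw [siegel_congr hF _ (isSiegel_zero h2 hμ) rfl (act_zero g) rfl]
    exact transv_mem_tG hF h2 hμ (h u hu)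
  exact h1 hx

/-- **The stabiliser of an isotropic vector is generated by transvections.** -/
theorem stabV_eq (hF : Fintype.card F = q ^ 2) (hn : 6 ≤ n) {u : Fin n → F} (hu0 : u ≠ 0)
    (hu : hermForm n F q u u = 0) : stabV q u = tG hF (perp q u) := by
  apply le_antisymm
  · obtain ⟨e, f, H⟩ := exists_frame (F := F) (q := q) (n := n) hF (by omega)
    have he0 := frame_ne_zero H
    obtain ⟨g, -, hg⟩ := exists_map_iso hF (by omega) le_rfl (mem_coordSub_top e) (mem_coordSub_top u)
      he0 hu0 H.ee hu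
    intro x hx
    have h1 : g⁻¹ * x * g ∈ stabV q e := by
      rw [mem_stabV, act_mul, act_mul, hg, mem_stabV.1 hx, ← hg, act_inv_act]
    have h2 := tG_conj hF (W' := perp q u) (g := g) (fun v hv => by
      rw [mem_perp, ← hg, herm_act]; exact hv) (stabV_le_frame hF hn H h1)
    have e1 : g * (g⁻¹ * x * g) * g⁻¹ = x := by group
    rwa [e1] at h2
  · rw [tG, Subgroup.closure_le]
    rintro _ ⟨s, hs, hss, μ, hμ, rfl⟩
    change act (transv hF s hss μ hμ) u = u
    rw [act_transv, herm_eq_zero_swap hF hs, mul_zero, zero_smul, add_zero]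

omit [CharP F 2] in
theorem siegG_le_stabV (hF : Fintype.card F = q ^ 2) {u : Fin n → F} (hu : hermForm n F q u u = 0) :
    siegG hF u hu ≤ stabV q u := by
  rintro _ ⟨w, μ, h, rfl⟩
  exact act_siegel_self hF h

/-- A transvection is a commutator of Siegel elements. -/
theorem transv_eq_commutator (hF : Fintype.card F = q ^ 2) {s x y : Fin n → F} (hss : hermForm n F q s s = 0)
    {μ : F} (hμ : μ + μ ^ q = 0) (hxx : hermForm n F q x x = 0) (hyy : hermForm n F q y y = 0)
    (hxy : hermForm n F q x y = 1) (hxs : hermForm n F q x s = 0) (hys : hermForm n F q y s = 0) :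
    ∃ (ν : F) (h : IsSiegel q s (ν • x) 0) (h' : IsSiegel q s y 0),
      transv hF s hss μ hμ = ⁅siegel hF s (ν • x) 0 h, siegel hF s y 0 h'⁆ := by
  have hμq : μ ^ q = μ := by
    have h1 : (2 : F) = 0 := CharTwo.two_eq_zero
    linear_combination hμ - μ * h1
  obtain ⟨ν, hν⟩ := exists_trace_eq hF hμq
  refine ⟨ν, ⟨hss, by rw [herm_smul_left, hxs, mul_zero], ?_⟩, ⟨hss, hys, ?_⟩, ?_⟩
  · rw [herm_smul_left, herm_smul_right, hxx, zero_pow_q hF]; ring
  · rw [hyy, zero_pow_q hF]; ring
  · rw [Cfsg.Agent.LieClassical.HermSimple.commutator_siegel, transv]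
    apply siegel_congr hF _ _ rfl rfl
    have hyx : hermForm n F q y x = 1 := by rw [herm_swap hF x y, hxy, one_pow]
    rw [herm_smul_left, herm_smul_right, hxy, hyx, ← hν]
    have h1 : (2 : F) = 0 := CharTwo.two_eq_zero
    linear_combination ν ^ q * h1

/-- **The stabiliser of an isotropic vector is perfect.** -/
theorem stabV_perfect (hF : Fintype.card F = q ^ 2) (hn : 6 ≤ n) {u : Fin n → F} (hu0 : u ≠ 0)
    (hu : hermForm n F q u u = 0) : ⁅stabV q u, stabV q u⁆ = (stabV q u : Subgroup (SU n F q)) := by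
  apply le_antisymm
  · exact Subgroup.commutator_le_self _
  · conv_lhs => rw [stabV_eq hF hn hu0 hu]
    rw [tG, Subgroup.closure_le]
    rintro _ ⟨s, hs, hss, μ, hμ, rfl⟩
    obtain ⟨x, y, hxx, hyy, hxy, hxu, hyu, hxs, hys⟩ := exists_pair_perp hF hn hu0 hu hss hs
    obtain ⟨ν, h, h', e⟩ := transv_eq_commutator hF hss hμ hxx hyy hxy hxs hys
    rw [e]
    have hus : hermForm n F q u s = 0 := herm_eq_zero_swap hF hs
    refine Subgroup.commutator_mem_commutator ?_ ?_
    · rw [mem_stabV]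
      apply act_siegel_of_orth hF h hus
      rw [herm_smul_right, herm_eq_zero_swap hF hxu, mul_zero]
    · rw [mem_stabV]
      exact act_siegel_of_orth hF h' hus (herm_eq_zero_swap hF hyu)

end Two

/-! ### In `PSU` -/

/-- The image in `PSU` of the stabiliser of a vector. -/
def PP (q : ℕ) (u : Fin n → F) : Subgroup (PSU n F q) := (stabV q u).map (pr n F q)

omit [Fintype F] in
theorem mem_PP {u : Fin n → F} {x : PSU n F q} : x ∈ PP q u ↔ ∃ g : SU n F q, act g u = u ∧ pr n F q g = x := Iff.rfl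

theorem RR_le_QQ (hF : Fintype.card F = q ^ 2) {u : Fin n → F} (hu : hermForm n F q u u = 0) :
    RR hF u hu ≤ QQ hF u hu := Subgroup.map_mono (transvG_le_siegG hF hu)

theorem QQ_le_PP [CharP F 2] (hF : Fintype.card F = q ^ 2) {u : Fin n → F} (hu : hermForm n F q u u = 0) :
    QQ hF u hu ≤ PP q u := Subgroup.map_mono (siegG_le_stabV hF hu)

theorem PP_perfect [CharP F 2] (hF : Fintype.card F = q ^ 2) (hn : 6 ≤ n) {u : Fin n → F} (hu0 : u ≠ 0)
    (hu : hermForm n F q u u = 0) : ⁅PP q u, PP q u⁆ = (PP q u : Subgroup (PSU n F q)) := by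
  rw [PP, ← Subgroup.map_commutator, stabV_perfect hF hn hu0 hu]

/-- `PP u` centralises `RR u`. -/
theorem PP_comm_RR (hF : Fintype.card F = q ^ 2) {u : Fin n → F} (hu : hermForm n F q u u = 0)
    {x y : PSU n F q} (hx : x ∈ PP q u) (hy : y ∈ RR hF u hu) : x * y = y * x := by
  obtain ⟨g, hg, rfl⟩ := mem_PP.1 hx
  obtain ⟨μ, hμ, rfl⟩ := mem_RR.1 hy
  rw [← map_mul, ← map_mul]
  congr 1
  have h1 : g * transv hF u hu μ hμ * g⁻¹ = transv hF u hu μ hμ := by
    rw [transv, conj_siegel]
    exact siegel_congr hF _ _ hg (act_zero g) rfl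
  rw [← mul_inv_eq_iff_eq_mul]
  exact h1

/-- `PP u` normalises `QQ u`. -/
theorem PP_conj_QQ (hF : Fintype.card F = q ^ 2) {u : Fin n → F} (hu : hermForm n F q u u = 0)
    {x y : PSU n F q} (hx : x ∈ PP q u) (hy : y ∈ QQ hF u hu) : x * y * x⁻¹ ∈ QQ hF u hu := by
  obtain ⟨g, hg, rfl⟩ := mem_PP.1 hx
  obtain ⟨w, μ, h, rfl⟩ := mem_QQ.1 hy
  rw [← map_inv, ← map_mul, ← map_mul, conj_siegel]
  have h1 : IsSiegel q u (act g w) μ := by
    have := h.map g
    rwa [show act g u = u from hg] at this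
  exact mem_QQ.2 ⟨_, _, h1, by rw [siegel_congr hF _ h1 hg rfl rfl]⟩

omit [Fintype F] in
/-- Conjugation of `PP`. -/
theorem PP_conj {u : Fin n → F} (g : SU n F q) {x : PSU n F q} (hx : x ∈ PP q u) :
    pr n F q g * x * (pr n F q g)⁻¹ ∈ PP q (act g u) := by
  obtain ⟨a, ha, rfl⟩ := mem_PP.1 hx
  refine mem_PP.2 ⟨g * a * g⁻¹, ?_, by rw [map_mul, map_mul, map_inv]⟩
  rw [act_mul, act_mul, act_inv_act, ha]

omit [Fintype F] in
theorem PP_smul {u : Fin n → F} {c : F} (hc : c ≠ 0) : PP q (c • u) = (PP q u : Subgroup (PSU n F q)) := by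
  unfold PP
  congr 1
  ext g
  rw [mem_stabV, mem_stabV, act_smul]
  constructor
  · intro h
    have h1 := congrArg (fun v => c⁻¹ • v) h
    simpa [smul_smul, inv_mul_cancel₀ hc] using h1
  · intro h
    rw [h]

/-- **A 2-element commuting with a non-trivial element of `RR u` lies in `PP u`.** -/
theorem mem_PP_of_commute (hF : Fintype.card F = q ^ 2) (hn : 3 ≤ n) [CharP F 2] {u : Fin n → F} (hu0 : u ≠ 0)
    (hu : hermForm n F q u u = 0) {y : PSU n F q} (hy : y ∈ RR hF u hu) (hy1 : y ≠ 1) {x : PSU n F q}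
    {k : ℕ} (hx : x ^ 2 ^ k = 1) (hxy : x * y = y * x) : x ∈ PP q u := by
  have : Fact (Nat.Prime 2) := ⟨Nat.prime_two⟩
  obtain ⟨a, rfl, l, hl⟩ := exists_lift hF hn (p := 2) hx
  obtain ⟨μ, hμ, rfl⟩ := mem_RR.1 hy
  have hμ0 : μ ≠ 0 := by
    rintro rfl
    exact hy1 (by rw [transv_zero, map_one])
  have h1 : pr n F q (a * transv hF u hu μ hμ * a⁻¹) = pr n F q (transv hF u hu μ hμ) := by
    rw [map_mul, map_mul, map_inv, hxy, mul_inv_cancel_right]
  rw [transv, conj_siegel] at h1
  have h2 := siegel_pr_inj hF hn _ _ h1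
  obtain ⟨f, -, huf, hfu⟩ := exists_partner hF hu0 hu
  have h3 := congrArg (fun g => act g f) h2
  simp only [act_siegel] at h3
  rw [act_zero, smul_zero, smul_zero, herm_zero_right hF, sub_zero, sub_zero, add_zero, add_right_inj, hfu,
    mul_one] at h3
  have hne : μ * hermForm n F q f (act a u) ≠ 0 := by
    intro h0
    rw [h0, zero_smul] at h3
    rcases smul_eq_zero.1 h3.symm with h5 | h5
    · exact hμ0 h5
    · exact hu0 h5
  have h4 : act a u = ((μ * hermForm n F q f (act a u))⁻¹ * μ) • u := by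
    rw [mul_smul, ← h3, smul_smul, inv_mul_cancel₀ hne, one_smul]
  exact mem_PP.2 ⟨a, fix_of_pow 2 hu0 h4 hl, rfl⟩

end Cfsg.Agent.KFacts.Unit
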