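import Mathlib
import Cfsg.Agent.KFacts.Unit.Torus

/-!
# Extension of semi-isometries of `⟨e, f⟩^⊥`

`exists_semi_extend`: a semi-isometry `T` of the orthogonal space `N` of a hyperbolic pair `e, f` extends to the whole
space, fixing `e` and `f`.
`exists_SU_extend`: a linear isometry of `N` of 2-power order is induced by an element of `SU` fixing `e` and `f`.
-/

set_option autoImplicit false

namespace Cfsg.Agent.KFacts.Unit

open Cfsg Cfsg.Agent.LieClassical.HermBasic Cfsg.Agent.LieClassical.HermSiegel
  Cfsg.Agent.LieClassical.HermGen Cfsg.Agent.LieClassical.SUBasic Matrix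
  Cfsg.Agent.ClassicalGeometry.PSUAutBasic Cfsg.Agent.ClassicalGeometry.PSUAutSylow
  Cfsg.Agent.ClassicalGeometry.PSUAutUnip

open Cfsg.Agent.ClassicalGeometry.PSUAutCount (gm herm_gm gm_inv_mulVec gm_mulVec_inv)

variable {F : Type*} [Field F] [Fintype F] {q n : ℕ}

/-- The component orthogonal to the hyperbolic pair. -/
def prN (q : ℕ) (e f v : Fin n → F) : Fin n → F := v - hermForm n F q v f • e - hermForm n F q v e • f

omit [Fintype F] in
theorem prN_def (e f v : Fin n → F) :
    prN q e f v = v - hermForm n F q v f • e - hermForm n F q v e • f := rfl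

omit [Fintype F] in
theorem prN_add (e f v w : Fin n → F) : prN q e f (v + w) = prN q e f v + prN q e f w := by
  rw [prN, prN, prN, herm_add_left, herm_add_left, add_smul, add_smul]
  abel

omit [Fintype F] in
theorem prN_smul (e f : Fin n → F) (c : F) (v : Fin n → F) : prN q e f (c • v) = c • prN q e f v := by
  rw [prN, prN, herm_smul_left, herm_smul_left, smul_sub, smul_sub, smul_smul, smul_smul]

theorem prN_e (hF : Fintype.card F = q ^ 2) {e f : Fin n → F} (H : Hyp q e f) (v : Fin n → F) :
    hermForm n F q (prN q e f v) e = 0 := by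
  rw [prN, herm_sub_left, herm_sub_left, herm_smul_left, herm_smul_left, H.ee, H.fe hF]; ring

omit [Fintype F] in
theorem prN_f {e f : Fin n → F} (H : Hyp q e f) (v : Fin n → F) :
    hermForm n F q (prN q e f v) f = 0 := by
  rw [prN, herm_sub_left, herm_sub_left, herm_smul_left, herm_smul_left, H.ef, H.ff]; ring

omit [Fintype F] in
theorem prN_of_mem {e f v : Fin n → F} (he : hermForm n F q v e = 0) (hf : hermForm n F q v f = 0) :
    prN q e f v = v := by
  rw [prN, he, hf, zero_smul, zero_smul, sub_zero, sub_zero]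

omit [Fintype F] in
theorem eq_prN (e f v : Fin n → F) :
    v = hermForm n F q v f • e + hermForm n F q v e • f + prN q e f v := by
  rw [prN]; abel

/-- The form in terms of the decomposition. -/
theorem herm_dec (hF : Fintype.card F = q ^ 2) {e f : Fin n → F} (H : Hyp q e f) (a b c d : F)
    {w w' : Fin n → F} (hwe : hermForm n F q w e = 0) (hwf : hermForm n F q w f = 0)
    (hwe' : hermForm n F q w' e = 0) (hwf' : hermForm n F q w' f = 0) :
    hermForm n F q (a • e + b • f + w) (c • e + d • f + w') =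
      a * d ^ q + b * c ^ q + hermForm n F q w w' := by
  simp only [herm_add_left, herm_add_right hF, herm_smul_left, herm_smul_right, H.ee, H.ff, H.ef,
    H.fe hF, hwe, hwf, herm_eq_zero_swap hF hwe', herm_eq_zero_swap hF hwf']
  ring

/-- **Extension of a semi-isometry of the orthogonal space of a hyperbolic pair.** -/
theorem exists_semi_extend (hF : Fintype.card F = q ^ 2) {e f : Fin n → F} (H : Hyp q e f) (ρ : F ≃+* F)
    {T : (Fin n → F) → (Fin n → F)}
    (hTe : ∀ w, hermForm n F q w e = 0 → hermForm n F q w f = 0 → hermForm n F q (T w) e = 0)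
    (hTf : ∀ w, hermForm n F q w e = 0 → hermForm n F q w f = 0 → hermForm n F q (T w) f = 0)
    (hadd : ∀ w w', hermForm n F q w e = 0 → hermForm n F q w f = 0 → hermForm n F q w' e = 0 →
      hermForm n F q w' f = 0 → T (w + w') = T w + T w')
    (hsmul : ∀ (c : F) w, hermForm n F q w e = 0 → hermForm n F q w f = 0 → T (c • w) = ρ c • T w)
    (hherm : ∀ w w', hermForm n F q w e = 0 → hermForm n F q w f = 0 → hermForm n F q w' e = 0 →
      hermForm n F q w' f = 0 → hermForm n F q (T w) (T w') = ρ (hermForm n F q w w')) :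
    ∃ A : GU n F q, sg A ρ e = e ∧ sg A ρ f = f ∧
      (∀ w, hermForm n F q w e = 0 → hermForm n F q w f = 0 → sg A ρ w = T w) ∧
      ∀ v, sg A ρ v = ρ (hermForm n F q v f) • e + ρ (hermForm n F q v e) • f + T (prN q e f v) := by
  let g : (Fin n → F) → (Fin n → F) := fun v =>
    ρ (hermForm n F q v f) • e + ρ (hermForm n F q v e) • f + T (prN q e f v)
  have hgadd : ∀ v w, g (v + w) = g v + g w := by
    intro v w
    simp only [g]
    rw [herm_add_left, herm_add_left, map_add, map_add, prN_add, hadd _ _ (prN_e hF H v) (prN_f H v)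
      (prN_e hF H w) (prN_f H w), add_smul, add_smul]
    abel
  have hgsmul : ∀ (c : F) v, g (c • v) = ρ c • g v := by
    intro c v
    simp only [g]
    rw [herm_smul_left, herm_smul_left, map_mul, map_mul, prN_smul, hsmul _ _ (prN_e hF H v) (prN_f H v),
      smul_add, smul_add, smul_smul, smul_smul]
  have hgform : ∀ v w, hermForm n F q (g v) (g w) = ρ (hermForm n F q v w) := by
    intro v w
    have h1 : hermForm n F q v w = hermForm n F q v f * hermForm n F q w e ^ q +
        hermForm n F q v e * hermForm n F q w f ^ q +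
        hermForm n F q (prN q e f v) (prN q e f w) := by
      conv_lhs => rw [eq_prN (q := q) e f v, eq_prN (q := q) e f w]
      rw [herm_dec hF H _ _ _ _ (prN_e hF H v) (prN_f H v) (prN_e hF H w) (prN_f H w)]
    simp only [g]
    rw [herm_dec hF H _ _ _ _ (hTe _ (prN_e hF H v) (prN_f H v)) (hTf _ (prN_e hF H v) (prN_f H v))
      (hTe _ (prN_e hF H w) (prN_f H w)) (hTf _ (prN_e hF H w) (prN_f H w)),
      hherm _ _ (prN_e hF H v) (prN_f H v) (prN_e hF H w) (prN_f H w), h1, map_add, map_add, map_mul,
      map_mul, map_pow, map_pow]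
  let L : (Fin n → F) →ₗ[F] (Fin n → F) :=
    { toFun := fun x => g (fun i => ρ.symm (x i))
      map_add' := fun x y => by
        rw [← hgadd]
        congr 1
        funext i
        exact map_add _ _ _
      map_smul' := fun c x => by
        have h1 : (fun i => ρ.symm ((c • x) i)) = ρ.symm c • fun i => ρ.symm (x i) := by
          funext i
          simp
        rw [h1, hgsmul, RingEquiv.apply_symm_apply, RingHom.id_apply] }
  obtain ⟨A0, hA0, hAm⟩ := Cfsg.Agent.ClassicalGeometry.HermOrtho.exists_GU_of_isometry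
    (M := LinearMap.toMatrix' L) hF (fun u v => by
    rw [LinearMap.toMatrix'_mulVec, LinearMap.toMatrix'_mulVec]
    change hermForm n F q (g _) (g _) = _
    rw [hgform]
    have h1 := Cfsg.Agent.ClassicalGeometry.PSUAutCount.herm_map (q := q) ρ (fun i => ρ.symm (u i))
      (fun i => ρ.symm (v i))
    simp only [RingEquiv.apply_symm_apply] at h1
    exact h1.symm)
  have key : ∀ v : Fin n → F, sg (⟨A0, hA0⟩ : GU n F q) ρ v = g v := by
    intro v
    have h1 : gm (⟨A0, hA0⟩ : GU n F q) = LinearMap.toMatrix' L := hAm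
    rw [sg, h1, LinearMap.toMatrix'_mulVec]
    change g (fun i => ρ.symm (ρ (v i))) = g v
    simp only [RingEquiv.symm_apply_apply]
  have hT0 : T 0 = 0 := by
    have h1 := hsmul 0 0 (herm_zero_left _) (herm_zero_left _)
    rwa [zero_smul, map_zero, zero_smul] at h1
  refine ⟨⟨A0, hA0⟩, ?_, ?_, ?_, ?_⟩
  · rw [key]
    simp only [g]
    have h1 : prN q e f e = 0 := by
      rw [prN, H.ef, H.ee, one_smul, zero_smul, sub_self, sub_zero]
    rw [H.ef, H.ee, h1, hT0, map_one, map_zero, zero_smul, one_smul, add_zero, add_zero]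
  · rw [key]
    simp only [g]
    have h1 : prN q e f f = 0 := by
      rw [prN, H.ff, H.fe hF, one_smul, zero_smul, sub_zero, sub_self]
    rw [H.ff, H.fe hF, h1, hT0, map_one, map_zero, zero_smul, one_smul, add_zero, zero_add]
  · intro w he hf
    rw [key]
    simp only [g]
    rw [he, hf, prN_of_mem he hf, map_zero, zero_smul, zero_smul, zero_add, zero_add]
  · exact key

omit [Fintype F] in
/-- The square matrices of 2-power order over a field of characteristic two have determinant one. -/
theorem det_eq_one_of_pow [CharP F 2] {M : Matrix (Fin n) (Fin n) F} {k : ℕ} (h : M ^ 2 ^ k = 1) : M.det = 1 := by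
  have h1 : M.det ^ 2 ^ k = 1 := by rw [← Matrix.det_pow, h, Matrix.det_one]
  have h2 : (M.det - 1) ^ 2 ^ k = 0 := by
    have : Fact (Nat.Prime 2) := ⟨Nat.prime_two⟩
    rw [sub_pow_char_pow, h1, one_pow, sub_self]
  exact sub_eq_zero.1 (eq_zero_of_pow_eq_zero h2)

/-- **Linear isometries of `⟨e, f⟩^⊥` of 2-power order are induced by elements of `SU` fixing `e` and `f`.** -/
theorem exists_SU_extend [CharP F 2] (hF : Fintype.card F = q ^ 2) {e f : Fin n → F} (H : Hyp q e f)
    {T : (Fin n → F) → (Fin n → F)}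
    (hTe : ∀ w, hermForm n F q w e = 0 → hermForm n F q w f = 0 → hermForm n F q (T w) e = 0)
    (hTf : ∀ w, hermForm n F q w e = 0 → hermForm n F q w f = 0 → hermForm n F q (T w) f = 0)
    (hadd : ∀ w w', hermForm n F q w e = 0 → hermForm n F q w f = 0 → hermForm n F q w' e = 0 →
      hermForm n F q w' f = 0 → T (w + w') = T w + T w')
    (hsmul : ∀ (c : F) w, hermForm n F q w e = 0 → hermForm n F q w f = 0 → T (c • w) = c • T w)
    (hherm : ∀ w w', hermForm n F q w e = 0 → hermForm n F q w f = 0 → hermForm n F q w' e = 0 →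
      hermForm n F q w' f = 0 → hermForm n F q (T w) (T w') = hermForm n F q w w')
    {k : ℕ} (hk : ∀ w, hermForm n F q w e = 0 → hermForm n F q w f = 0 → T^[2 ^ k] w = w) :
    ∃ g : SU n F q, act g e = e ∧ act g f = f ∧
      ∀ w, hermForm n F q w e = 0 → hermForm n F q w f = 0 → act g w = T w := by
  obtain ⟨A, hAe, hAf, hAw, hA⟩ := exists_semi_extend hF H (RingEquiv.refl F) hTe hTf hadd hsmul hherm
  have hmul : ∀ v, gm A *ᵥ v = sg A (RingEquiv.refl F) v := fun v => rfl
  -- the iterates on `N`
  have hit : ∀ (m : ℕ) w, hermForm n F q w e = 0 → hermForm n F q w f = 0 →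
      hermForm n F q (T^[m] w) e = 0 ∧ hermForm n F q (T^[m] w) f = 0 ∧ (gm A ^ m) *ᵥ w = T^[m] w := by
    intro m w he hf
    induction m with
    | zero => exact ⟨he, hf, by rw [pow_zero, one_mulVec]; rfl⟩
    | succ m ih =>
      obtain ⟨h1, h2, h3⟩ := ih
      rw [Function.iterate_succ_apply']
      refine ⟨hTe _ h1 h2, hTf _ h1 h2, ?_⟩
      rw [pow_succ', ← mulVec_mulVec, h3, hmul, hAw _ h1 h2]
  have hfix : ∀ (m : ℕ), (gm A ^ m) *ᵥ e = e ∧ (gm A ^ m) *ᵥ f = f := by
    intro m
    induction m with
    | zero => exact ⟨by rw [pow_zero, one_mulVec], by rw [pow_zero, one_mulVec]⟩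
    | succ m ih =>
      rw [pow_succ', ← mulVec_mulVec, ← mulVec_mulVec, ih.1, ih.2, hmul, hmul]
      exact ⟨hAe, hAf⟩
  have hpow : gm A ^ 2 ^ k = 1 := by
    apply Matrix.ext_of_mulVec_single
    intro i
    set v : Fin n → F := Pi.single i 1
    rw [one_mulVec]
    conv_lhs => rw [eq_prN (q := q) e f v]
    rw [mulVec_add, mulVec_add, mulVec_smul, mulVec_smul, (hfix _).1, (hfix _).2,
      (hit _ _ (prN_e hF H v) (prN_f H v)).2.2, hk _ (prN_e hF H v) (prN_f H v), ← eq_prN]
  have hdet := det_eq_one_of_pow hpow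
  refine ⟨mkSU (gm A) hdet (fun u v => herm_gm A u v), hAe, hAf, hAw⟩

end Cfsg.Agent.KFacts.Unit
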