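import Cfsg.Agent.KFacts.Unit.Flag
import Cfsg.Agent.OddHalf.D7.Uni.FrameLayers

/-!
# The images in `G` of the unipotent radicals of a frame

`φ : SU n F q →* G` with central kernel. `Qj_eq`: the groups `Frame.Qj` for the images are the images of the `QS j`.
`dir_map`, `odd_relIndex`, `odd_cent`: the hypotheses of `Frame.layers` and `Lay.exists_hom`.
-/

set_option autoImplicit false

namespace Cfsg.Agent.KFacts.Unit.FlagMap

open Cfsg Cfsg.Agent.LieClassical.HermBasic Cfsg.Agent.LieClassical.HermSiegel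
  Cfsg.Agent.LieClassical.HermGen Cfsg.Agent.LieClassical.SUBasic Cfsg.Agent.ClassicalGeometry.PSUAutBasic
  Cfsg.Agent.KFacts.Unit.Flag Cfsg.Agent.OddHalf.D7.Uni Cfsg.Agent.OddHalf.D7.Uni.FrameLayers

variable {F : Type*} [Field F] [Fintype F] {q n : ℕ} {G : Type*} [Group G] {m : ℕ} {e f : ℕ → Fin n → F}
  {ρ : ℕ → SU n F q}

/-- The radicals `Q_{e_j}` in `G`. -/
def Qg (φ : SU n F q →* G) (e : ℕ → Fin n → F) (j : ℕ) : Subgroup G := (QA q (e j)).map φ

/-- The elements of order three in `G`. -/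
def rg (φ : SU n F q →* G) (ρ : ℕ → SU n F q) (j : ℕ) : G := φ (ρ j)

/-- a central element fixing a nonzero vector is trivial -/
theorem eq_one_of_center_of_fix (hF : Fintype.card F = q ^ 2) (hn : 3 ≤ n) {z : SU n F q}
    (hz : z ∈ Subgroup.center (SU n F q)) {u : Fin n → F} (hu : u ≠ 0) (h : act z u = u) : z = 1 := by
  obtain ⟨c, -, -, hc⟩ := exists_scalar_of_mem_center hF hn hz
  have h1 : (c - 1) • u = 0 := by rw [sub_smul, one_smul, ← hc, h, sub_self]
  have h2 : c = 1 := by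
    rcases smul_eq_zero.1 h1 with h3 | h3
    · exact sub_eq_zero.1 h3
    · exact absurd h3 hu
  refine ext_act fun v => ?_
  rw [hc, h2, one_smul, act_one]

theorem Qj_eq (hF : Fintype.card F = q ^ 2) (hn : 3 ≤ n) (h : Fr q m e f) (R : Rho q m e f ρ) (φ : SU n F q →* G)
    (hφ : φ.ker ≤ Subgroup.center (SU n F q)) {j : ℕ} (hj : j < m) :
    Frame.Qj (Qg φ e) (rg φ ρ) j = (QS q e f j).map φ := by
  ext x
  rw [Frame.mem_Qj]
  constructor
  · rintro ⟨⟨g, hg, rfl⟩, hx⟩
    refine ⟨g, (R.mem_QS_iff h hj).2 ⟨hg, fun i hi => ?_⟩, rfl⟩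
    have h1 : φ ((ρ i * g)⁻¹ * (g * ρ i)) = 1 := by
      rw [map_mul, map_inv, map_mul, map_mul]
      have := hx i hi
      change φ (ρ i) * φ g = φ g * φ (ρ i) at this
      rw [this, inv_mul_cancel]
    have h2 : (ρ i * g)⁻¹ * (g * ρ i) = 1 := by
      refine eq_one_of_center_of_fix hF hn (hφ h1) (h.ne_zero hj) ?_
      have h3 := (R.fix_e h (i := i) (j := j) (by omega) hj (by omega)).1
      have h4 : act (ρ i * g) (e j) = e j := by rw [act_mul, hg.1, h3]
      have h5 : act (g * ρ i) (e j) = e j := by rw [act_mul, h3, hg.1]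
      rw [act_mul, h5]
      exact ((act_eq_iff _).1 h4).symm
    exact inv_mul_eq_one.1 h2
  · rintro ⟨g, hg, rfl⟩
    obtain ⟨h1, h2⟩ := (R.mem_QS_iff h hj).1 hg
    refine ⟨⟨g, h1, rfl⟩, fun i hi => ?_⟩
    change φ (ρ i) * φ g = φ g * φ (ρ i)
    rw [← map_mul, h2 i hi, map_mul]

omit [Fintype F] in
theorem pr_map (φ : SU n F q →* G) (T : ℕ → Subgroup (SU n F q)) (j : ℕ) :
    Chain.pr (fun i => (T i).map φ) j = (Chain.pr T j).map φ := by
  induction j with
  | zero => exact (Subgroup.map_bot φ).symm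
  | succ j ih =>
    change Chain.pr _ j ⊔ _ = (Chain.pr T j ⊔ T j).map φ
    rw [ih, Subgroup.map_sup]

theorem pr_congr {T T' : ℕ → Subgroup G} {j : ℕ} (h : ∀ i < j, T i = T' i) : Chain.pr T j = Chain.pr T' j := by
  induction j with
  | zero => rfl
  | succ j ih =>
    change Chain.pr _ j ⊔ _ = Chain.pr _ j ⊔ _
    rw [ih fun i hi => h i (by omega), h j (by omega)]

theorem pr_Qj_eq (hF : Fintype.card F = q ^ 2) (hn : 3 ≤ n) (h : Fr q m e f) (R : Rho q m e f ρ) (φ : SU n F q →* G)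
    (hφ : φ.ker ≤ Subgroup.center (SU n F q)) {j : ℕ} (hj : j ≤ m) :
    Chain.pr (Frame.Qj (Qg φ e) (rg φ ρ)) j = (Chain.pr (QS q e f) j).map φ := by
  rw [← pr_map]
  exact pr_congr fun i hi => Qj_eq hF hn h R φ hφ (by omega)

/-- `φ` is injective on the product -/
theorem inj_pr [CharP F 2] (hF : Fintype.card F = q ^ 2) (hn : 3 ≤ n) (h : Fr q m e f) (φ : SU n F q →* G)
    (hφ : φ.ker ≤ Subgroup.center (SU n F q)) {a b : SU n F q} (ha : a ∈ Chain.pr (QS q e f) m)
    (hb : b ∈ Chain.pr (QS q e f) m) (hab : φ a = φ b) : a = b := by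
  have h2 : Fact (Nat.Prime 2) := ⟨Nat.prime_two⟩
  have h1 : a⁻¹ * b ∈ Subgroup.center (SU n F q) := hφ (by
    rw [MonoidHom.mem_ker, map_mul, map_inv, hab, inv_mul_cancel])
  obtain ⟨k, hk⟩ := isPGroup_pr hF h le_rfl ⟨a⁻¹ * b, mul_mem (inv_mem ha) hb⟩
  exact inv_mul_eq_one.1 (eq_one_of_center_of_pow hF hn (p := 2) h1 (k := k) (congrArg Subtype.val hk))

/-- **Directness in `G`.** -/
theorem dir_map [CharP F 2] (hF : Fintype.card F = q ^ 2) (hn : 3 ≤ n) (h : Fr q m e f) (R : Rho q m e f ρ)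
    (φ : SU n F q →* G) (hφ : φ.ker ≤ Subgroup.center (SU n F q)) :
    ∀ j < m, ∀ x ∈ Frame.Qj (Qg φ e) (rg φ ρ) j, x ∈ Chain.pr (Frame.Qj (Qg φ e) (rg φ ρ)) j → x = 1 := by
  intro j hj x hx hx'
  rw [Qj_eq hF hn h R φ hφ hj] at hx
  rw [pr_Qj_eq hF hn h R φ hφ hj.le] at hx'
  obtain ⟨a, ha, rfl⟩ := hx
  obtain ⟨b, hb, hab⟩ := hx'
  have h1 : b = a := inj_pr hF hn h φ hφ (Chain.pr_mono _ hj.le hb) (Chain.le_pr _ hj ha) hab
  rw [h1] at hb
  rw [dir h hj ha hb, map_one]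

/-- **Odd index in the image of `φ`.** -/
theorem odd_relIndex [CharP F 2] (hF : Fintype.card F = q ^ 2) (hn : 3 ≤ n) (h : Fr q m e f) (R : Rho q m e f ρ)
    (φ : SU n F q →* G) (hφ : φ.ker ≤ Subgroup.center (SU n F q)) :
    Odd ((Chain.pr (Frame.Qj (Qg φ e) (rg φ ρ)) m).relIndex φ.range) := by
  rw [pr_Qj_eq hF hn h R φ hφ le_rfl]
  have h1 : ((Chain.pr (QS q e f) m).map φ).relIndex φ.range ∣ (Chain.pr (QS q e f) m).index := by
    have e1 : ((Chain.pr (QS q e f) m).map φ).relIndex φ.range =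
        ((Chain.pr (QS q e f) m).map φ.rangeRestrict).index := by
      rw [Subgroup.relIndex]
      congr 1
      ext x
      rw [Subgroup.mem_subgroupOf]
      constructor
      · rintro ⟨a, ha, hax⟩
        exact ⟨a, ha, Subtype.ext hax⟩
      · rintro ⟨a, ha, hax⟩
        exact ⟨a, ha, congrArg Subtype.val hax⟩
    rw [e1]
    exact Subgroup.index_map_dvd _ φ.rangeRestrict_surjective
  exact (odd_index hF h).of_dvd_nat h1

omit [Fintype F] in
/-- index two -/
theorem relIndex_sup {H : Subgroup G} {t : G} (tt : t * t = 1) (ht : t ∉ H) (hH : ∀ x ∈ H, t * x = x * t) :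
    H.relIndex (H ⊔ Subgroup.zpowers t) = 2 := by
  have ti : t⁻¹ = t := inv_eq_of_mul_eq_one_left tt
  have hmem : ∀ x ∈ H ⊔ Subgroup.zpowers t, x ∈ H ∨ x * t ∈ H := by
    intro x hx
    let P : Subgroup G :=
      { carrier := {x | t * x = x * t ∧ (x ∈ H ∨ x * t ∈ H)}
        one_mem' := ⟨by rw [mul_one, one_mul], Or.inl (one_mem _)⟩
        mul_mem' := by
          rintro a b ⟨ca, ha⟩ ⟨cb, hb⟩
          refine ⟨by rw [← mul_assoc, ca, mul_assoc, cb, mul_assoc], ?_⟩
          rcases ha with ha | ha <;> rcases hb with hb | hb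
          · exact Or.inl (mul_mem ha hb)
          · exact Or.inr (by rw [mul_assoc]; exact mul_mem ha hb)
          · right
            have h1 := mul_mem ha hb
            rwa [mul_assoc, cb, ← mul_assoc] at h1
          · left
            have h1 := mul_mem ha hb
            have h2 : a * t * (b * t) = a * b := by
              rw [← cb, mul_assoc a t, ← mul_assoc t t, tt, one_mul]
            rwa [h2] at h1
        inv_mem' := by
          rintro a ⟨ca, ha⟩
          have ca' : t * a⁻¹ = a⁻¹ * t := by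
            rw [eq_inv_mul_iff_mul_eq, ← mul_assoc, ← ca, mul_inv_cancel_right]
          refine ⟨ca', ?_⟩
          rcases ha with ha | ha
          · exact Or.inl (inv_mem ha)
          · right
            have h1 := inv_mem ha
            rwa [mul_inv_rev, ti, ca'] at h1 }
    have hP : H ⊔ Subgroup.zpowers t ≤ P := sup_le (fun a ha => ⟨hH a ha, Or.inl ha⟩)
      ((Subgroup.zpowers_le).2 ⟨rfl, Or.inr (by rw [tt]; exact one_mem _)⟩)
    exact (hP hx).2
  have htm : t ∈ H ⊔ Subgroup.zpowers t := Subgroup.mem_sup_right (Subgroup.mem_zpowers t)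
  rw [Subgroup.relIndex, Subgroup.index_eq_two_iff]
  refine ⟨⟨t, htm⟩, fun b => ?_⟩
  rw [Subgroup.mem_subgroupOf, Subgroup.mem_subgroupOf]
  change Xor ((b : G) * t ∈ H) ((b : G) ∈ H)
  rcases hmem b b.2 with hb | hb
  · refine Or.inr ⟨hb, fun h1 => ht ?_⟩
    have := mul_mem (inv_mem hb) h1
    rwa [inv_mul_cancel_left] at this
  · refine Or.inl ⟨hb, fun h1 => ht ?_⟩
    have := mul_mem (inv_mem h1) hb
    rwa [inv_mul_cancel_left] at this

omit [Fintype F] in
/-- From `K` to the centraliser of `t`. -/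
theorem odd_sup [Finite G] {U K : Subgroup G} {t : G} (tt : t * t = 1) (ht : t ∉ K) (hK : ∀ x ∈ K, t * x = x * t)
    (hUK : U ≤ K) (hodd : Odd (U.relIndex K))
    (hc : Odd ((K ⊔ Subgroup.zpowers t).relIndex (Subgroup.centralizer ({t} : Set G)))) :
    Odd ((U ⊔ Subgroup.zpowers t).relIndex (Subgroup.centralizer ({t} : Set G))) := by
  have hle : K ⊔ Subgroup.zpowers t ≤ Subgroup.centralizer ({t} : Set G) := by
    refine sup_le (fun x hx => Subgroup.mem_centralizer_singleton_iff.2 (hK x hx).symm) ?_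
    rw [Subgroup.zpowers_le, Subgroup.mem_centralizer_singleton_iff]
  have h1 : U ⊔ Subgroup.zpowers t ≤ K ⊔ Subgroup.zpowers t := sup_le_sup_right hUK _
  rw [← Subgroup.relIndex_mul_relIndex _ _ _ h1 hle]
  refine Odd.mul ?_ hc
  have h2 := Subgroup.relIndex_mul_relIndex U (U ⊔ Subgroup.zpowers t) (K ⊔ Subgroup.zpowers t) le_sup_left h1
  have h3 := Subgroup.relIndex_mul_relIndex U K (K ⊔ Subgroup.zpowers t) hUK le_sup_left
  rw [relIndex_sup tt (fun h => ht (hUK h)) fun x hx => hK x (hUK hx)] at h2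
  rw [relIndex_sup tt ht hK] at h3
  have h4 : (U ⊔ Subgroup.zpowers t).relIndex (K ⊔ Subgroup.zpowers t) = U.relIndex K := by
    have : 2 * (U ⊔ Subgroup.zpowers t).relIndex (K ⊔ Subgroup.zpowers t) = U.relIndex K * 2 := h2.trans h3.symm
    omega
  rw [h4]
  exact hodd

/-- **The hypothesis of `Lay.exists_hom`.** -/
theorem odd_cent [Finite G] [CharP F 2] (hF : Fintype.card F = q ^ 2) (hn : 3 ≤ n) (h : Fr q m e f)
    (R : Rho q m e f ρ) (φ : SU n F q →* G) (hφ : φ.ker ≤ Subgroup.center (SU n F q)) {t : G} (tt : t * t = 1)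
    (ht : t ∉ φ.range) (hK : ∀ g, t * φ g = φ g * t)
    (hc : Odd ((φ.range ⊔ Subgroup.zpowers t).relIndex (Subgroup.centralizer ({t} : Set G)))) :
    Odd ((Chain.pr (Frame.Qj (Qg φ e) (rg φ ρ)) m ⊔ Subgroup.zpowers t).relIndex
      (Subgroup.centralizer ({t} : Set G))) := by
  refine odd_sup tt ht (by rintro _ ⟨g, rfl⟩; exact hK g) ?_ (odd_relIndex hF hn h R φ hφ) hc
  rw [pr_Qj_eq hF hn h R φ hφ le_rfl]
  rintro _ ⟨a, -, rfl⟩
  exact ⟨a, rfl⟩

end Cfsg.Agent.KFacts.Unit.FlagMap
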