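import Cfsg.Agent.KFacts.Unit.Flag

/-!
# The unipotent group of a flag is transitive on the frames of the flag

`SL s ρ κ`: `s` is a semilinear isometry and `κ` the automorphism `x ↦ s x s⁻¹` of `SU n F q`. `exists_move`: if `κ`
normalises the unipotent group `U = QS 0 ⋯ QS (m - 1)`, then there is `u ∈ U` such that `u s` fixes all the points
`⟨e i⟩`, `⟨f i⟩`.
-/

set_option autoImplicit false

namespace Cfsg.Agent.KFacts.Unit.FlagMove

open Cfsg Cfsg.Agent.LieClassical.HermBasic Cfsg.Agent.LieClassical.HermSiegel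
  Cfsg.Agent.LieClassical.HermGen Cfsg.Agent.LieClassical.SUBasic Cfsg.Agent.ClassicalGeometry.PSUAutBasic
  Cfsg.Agent.ClassicalGeometry.PSUAutUnip Cfsg.Agent.OddHalf.D7.Uni.Chain Cfsg.Agent.KFacts.Unit.Flag

variable {F : Type*} [Field F] [Fintype F] {q n : ℕ}

/-- A semilinear isometry and its action on `SU n F q`. -/
structure SL (s : (Fin n → F) → (Fin n → F)) (ρ : F ≃+* F) (κ : SU n F q ≃* SU n F q) : Prop where
  inj : Function.Injective s
  smul : ∀ (c : F) (v : Fin n → F), s (c • v) = ρ c • s v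
  herm : ∀ u v, hermForm n F q (s u) (s v) = ρ (hermForm n F q u v)
  ac : ∀ (g : SU n F q) (v : Fin n → F), act (κ g) (s v) = s (act g v)

variable {s : (Fin n → F) → (Fin n → F)} {ρ : F ≃+* F} {κ : SU n F q ≃* SU n F q}

omit [Fintype F] in
theorem act_inj (g : SU n F q) {v w : Fin n → F} (h : act g v = act g w) : v = w := by
  rw [← act_inv_act g v, h, act_inv_act]

omit [Fintype F] in
theorem SL.mulLeft (L : SL s ρ κ) (u : SU n F q) :
    SL (fun v => act u (s v)) ρ (κ.trans (MulAut.conj u)) where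
  inj v w h := L.inj (act_inj u h)
  smul c v := by rw [L.smul, act_smul]
  herm v w := by rw [herm_act, L.herm]
  ac g v := by
    change act (u * κ g * u⁻¹) _ = _
    rw [act_mul, act_mul, act_inv_act, L.ac]

variable {m : ℕ} {e f : ℕ → Fin n → F}

omit [Fintype F] in
theorem tl_norm {k i : ℕ} (hik : i < k) {b x : SU n F q} (hb : b ∈ tl q e f m k) (hx : x ∈ QS q e f i) :
    b * x * b⁻¹ ∈ QS q e f i := by
  have h1 : tl q e f m k ≤ Subgroup.normalizer (QS q e f i : Set (SU n F q)) := by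
    refine iSup₂_le fun j hj g hg => ?_
    rw [Subgroup.mem_normalizer_iff]
    intro r
    refine ⟨fun hr => QS_norm (by omega) hg hr, fun h1 => ?_⟩
    have h2 := QS_norm (i := i) (j := j) (by omega) (inv_mem hg) h1
    have e1 : g⁻¹ * (g * r * g⁻¹) * g⁻¹⁻¹ = r := by group
    rwa [e1] at h2
  exact (Subgroup.mem_normalizer_iff.1 (h1 hb) x).1 hx

omit [Fintype F] in
theorem pr_le_sup (k : ℕ) : pr (QS q e f) m ≤ pr (QS q e f) k ⊔ tl q e f m k := by
  refine pr_le fun i hi => ?_
  rcases Nat.lt_or_ge i k with h | h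
  · exact (le_pr _ h).trans le_sup_left
  · exact (le_tl h hi).trans le_sup_right

omit [Fintype F] in
/-- The stabiliser in `U` of `e i`, `f i`, `i < k`. -/
theorem mem_tl (h : Fr q m e f) {k : ℕ} (hk : k ≤ m) {x : SU n F q} (hx : x ∈ pr (QS q e f) m)
    (hf : x ∈ fixF q e f k) : x ∈ tl q e f m k := by
  obtain ⟨a, ha, b, hb, rfl⟩ := mem_mul_of_mem_sup
    (fun b hb a ha => conj_pr (fun i hi x hx => tl_norm hi hb hx) ha) (pr_le_sup (m := m) k hx)
  have h1 : b ∈ fixF q e f k := (iSup₂_le fun j hj => QS_le_fixF hj.1 : tl q e f m k ≤ fixF q e f k) hb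
  have h2 : a = 1 := dir_aux h k hk ha (by
    have h3 := mul_mem hf (inv_mem h1)
    rwa [mul_inv_cancel_right] at h3)
  rw [h2, one_mul]
  exact hb

/-- `u s` fixes the points `⟨e i⟩`, `⟨f i⟩`, `i < k`. -/
def Fixes (e f : ℕ → Fin n → F) (k : ℕ) (s : (Fin n → F) → (Fin n → F)) : Prop :=
  ∀ i < k, (∃ a : F, a ≠ 0 ∧ s (e i) = a • e i) ∧ ∃ b : F, b ≠ 0 ∧ s (f i) = b • f i

theorem aux [CharP F 2] (hF : Fintype.card F = q ^ 2) (h : Fr q m e f) {k : ℕ} (hk : k < m) (L : SL s ρ κ)
    (hκ : ∀ x ∈ pr (QS q e f) m, κ x ∈ pr (QS q e f) m) (hfix : Fixes e f k s) :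
    ∃ u ∈ pr (QS q e f) m, Fixes e f (k + 1) (fun v => act u (s v)) := by
  have hsw : ∀ u u', hermForm n F q u u' = 0 → hermForm n F q u' u = 0 := fun u u' hu => by
    rw [herm_swap hF u u', hu, zero_pow_q hF]
  -- `s (e k)` is perpendicular to `e i`, `f i`, `i < k`
  have hperp : ∀ v, (∀ i < k, hermForm n F q v (e i) = 0 ∧ hermForm n F q v (f i) = 0) →
      ∀ i < k, hermForm n F q (s v) (e i) = 0 ∧ hermForm n F q (s v) (f i) = 0 := by
    intro v hv i hi
    obtain ⟨⟨a, ha, hae⟩, b, hb, hbf⟩ := hfix i hi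
    have h1 := L.herm v (e i)
    have h2 := L.herm v (f i)
    rw [(hv i hi).1, map_zero, hae, herm_smul_right] at h1
    rw [(hv i hi).2, map_zero, hbf, herm_smul_right] at h2
    exact ⟨(mul_eq_zero.1 h1).resolve_left (pow_ne_zero _ ha), (mul_eq_zero.1 h2).resolve_left (pow_ne_zero _ hb)⟩
  have hperpk := hperp (e k) fun i hi => ⟨h.ee k hk i (by omega), by rw [h.ef k hk i (by omega), if_neg (by omega)]⟩
  have hperpf := hperp (f k) fun i hi => ⟨by rw [h.fe k hk i (by omega), if_neg (by omega)], h.ff k hk i (by omega)⟩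
  -- `κ⁻¹` preserves `U`
  have hκ' : ∀ x ∈ pr (QS q e f) m, ∃ y ∈ pr (QS q e f) m, κ y = x := by
    intro x hx
    have h1 : (pr (QS q e f) m).map κ.toMonoidHom = pr (QS q e f) m := by
      apply Subgroup.eq_of_le_of_card_ge
      · rintro _ ⟨y, hy, rfl⟩
        exact hκ y hy
      · rw [Subgroup.card_map_of_injective κ.injective]
    rw [← h1] at hx
    obtain ⟨y, hy, e1⟩ := hx
    exact ⟨y, hy, e1⟩
  -- `s (e k)` is fixed by `QS k`
  have hfixk : ∀ x ∈ QS q e f k, act x (s (e k)) = s (e k) := by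
    intro x hx
    obtain ⟨y, hy, rfl⟩ := hκ' x (le_pr _ hk hx)
    have h1 : y ∈ fixF q e f k := by
      intro i hi
      obtain ⟨⟨a, ha, hae⟩, b, hb, hbf⟩ := hfix i hi
      have hx' := (Subgroup.mem_inf.1 hx).2 i hi
      constructor
      · apply L.inj
        rw [← L.ac, hae, act_smul, hx'.1]
      · apply L.inj
        rw [← L.ac, hbf, act_smul, hx'.2]
    have h2 : act y (e k) = e k := tl_le_stb (mem_tl h hk.le hy h1)
    rw [L.ac, h2]
  have h1 := eq_smul_of_fixed hF h hk hfixk hperpk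
  set a := hermForm n F q (s (e k)) (f k) with ha
  have ha0 : a ≠ 0 := by
    intro h0
    rw [h0, zero_smul] at h1
    have h2 := L.herm (e k) (f k)
    rw [h1, herm_zero_left, h.ef k hk k hk, if_pos rfl, map_one] at h2
    exact zero_ne_one h2
  -- `v = a ^ q • s (f k)`, `(v, e k) = 1`
  set v := a ^ q • s (f k) with hv
  have hvv : hermForm n F q v v = 0 := by
    rw [hv, herm_smul_left, herm_smul_right, L.herm, h.ff k hk k hk, map_zero]; ring
  have hev : hermForm n F q (e k) v = 1 := by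
    have h2 := L.herm (e k) (f k)
    rw [h1, herm_smul_left, h.ef k hk k hk, if_pos rfl, map_one] at h2
    rw [hv, herm_smul_right, pow_q_pow_q hF]
    exact h2
  have hve : hermForm n F q v (e k) = 1 := by rw [herm_swap hF (e k) v, hev, one_pow]
  set w := v - f k with hw
  have hwe : hermForm n F q w (e k) = 0 := by
    rw [hw, herm_sub_left, hve, h.fe k hk k hk, if_pos rfl, sub_self]
  set μ := hermForm n F q (f k) w with hμ
  have hfw : μ = hermForm n F q (f k) v := by
    rw [hμ, hw, herm_sub_right hF, h.ff k hk k hk, sub_zero]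
  have hs : IsSiegel q (e k) w μ := by
    refine ⟨h.ee k hk k hk, hwe, ?_⟩
    rw [hfw, ← herm_swap hF (f k) v, hw, herm_sub_left, herm_sub_right hF, herm_sub_right hF, hvv, h.ff k hk k hk]
    ring
  have hwp : ∀ i < k, hermForm n F q w (e i) = 0 ∧ hermForm n F q w (f i) = 0 := by
    intro i hi
    rw [hw, herm_sub_left, herm_sub_left, hv, herm_smul_left, herm_smul_left, (hperpf i hi).1, (hperpf i hi).2,
      h.fe k hk i (by omega), if_neg (by omega), h.ff k hk i (by omega)]
    constructor <;> ring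
  have hS := siegel_mem_QS hF h hk hs hwp
  set S := siegel hF (e k) w μ hs with hSd
  have hSf : act S (f k) = v := by
    rw [hSd, act_siegel, h.fe k hk k hk, if_pos rfl, one_smul, mul_one, ← hμ, sub_self, zero_smul, add_zero, hw]
    abel
  have hSi := inv_mem hS
  refine ⟨S⁻¹, le_pr _ hk hSi, fun i hi => ?_⟩
  have h3 := Subgroup.mem_inf.1 hSi
  rcases Nat.lt_succ_iff_lt_or_eq.1 hi with hi' | rfl
  · obtain ⟨⟨a, ha, hae⟩, b, hb, hbf⟩ := hfix i hi'
    have h4 := h3.2 i hi'
    refine ⟨⟨a, ha, ?_⟩, b, hb, ?_⟩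
    · change act S⁻¹ (s (e i)) = _
      rw [hae, act_smul, h4.1]
    · change act S⁻¹ (s (f i)) = _
      rw [hbf, act_smul, h4.2]
  · refine ⟨⟨a, ha0, by change act S⁻¹ (s (e i)) = _; rw [h1, act_smul, h3.1.1]⟩, (a ^ q)⁻¹, inv_ne_zero (pow_ne_zero _ ha0), ?_⟩
    have h5 : s (f i) = (a ^ q)⁻¹ • v := by
      rw [hv, smul_smul, inv_mul_cancel₀ (pow_ne_zero _ ha0), one_smul]
    change act S⁻¹ (s (f i)) = _
    rw [h5, act_smul, ← hSf, act_inv_act]

/-- **Transitivity.** -/
theorem exists_move [CharP F 2] (hF : Fintype.card F = q ^ 2) (h : Fr q m e f) (L : SL s ρ κ)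
    (hκ : ∀ x ∈ pr (QS q e f) m, κ x ∈ pr (QS q e f) m) :
    ∃ u ∈ pr (QS q e f) m, Fixes e f m (fun v => act u (s v)) := by
  have key : ∀ k ≤ m, ∃ u ∈ pr (QS q e f) m, Fixes e f k (fun v => act u (s v)) := by
    intro k
    induction k with
    | zero => exact fun _ => ⟨1, one_mem _, fun i hi => absurd hi (by omega)⟩
    | succ k ih =>
      intro hk
      obtain ⟨u, hu, hfix⟩ := ih (by omega)
      obtain ⟨u', hu', hfix'⟩ := aux hF h (k := k) (by omega) (L.mulLeft u)
        (fun x hx => mul_mem (mul_mem hu (hκ x hx)) (inv_mem hu)) hfix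
      refine ⟨u' * u, mul_mem hu' hu, ?_⟩
      have e1 : (fun v => act (u' * u) (s v)) = fun v => act u' (act u (s v)) := by
        funext v
        rw [act_mul]
      rw [e1]
      exact hfix'
  exact key m le_rfl

end Cfsg.Agent.KFacts.Unit.FlagMove
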