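import Mathlib
import Cfsg.Agent.KFacts.Unit.Extend
import Cfsg.Agent.ClassicalGeometry.HermFrame

/-!
# Totally isotropic frames

`Frm q e f`: `e` a totally isotropic family with dual isotropic family `f`. `aEl`: the group of hermitian matrices
acting as `v ↦ v + Σ H i j h(v, e j) e i`; `exists_aEl`: an element trivial on the orthogonal space of `e` is of this
form; `conj_aEl`; `exists_GL`: `SL` acts on the frame; `autCent_frame`: an automorphism of `PSU` trivial on the image of
the pointwise stabiliser of `e` is conjugation by some `aEl H`.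
-/

set_option autoImplicit false

namespace Cfsg.Agent.KFacts.Unit

open Cfsg Cfsg.Agent.LieClassical.HermBasic Cfsg.Agent.LieClassical.HermSiegel
  Cfsg.Agent.LieClassical.HermGen Cfsg.Agent.LieClassical.SUBasic Matrix
  Cfsg.Agent.ClassicalGeometry.PSUAutBasic Cfsg.Agent.ClassicalGeometry.PSUAutSylow
  Cfsg.Agent.ClassicalGeometry.PSUAutUnip

/-- A totally isotropic family and a dual one. -/
structure Frm {F : Type*} [Field F] {n d : ℕ} (q : ℕ) (e f : Fin d → (Fin n → F)) : Prop where
  ee : ∀ i j, hermForm n F q (e i) (e j) = 0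
  ff : ∀ i j, hermForm n F q (f i) (f j) = 0
  ef : ∀ i j, hermForm n F q (e i) (f j) = if i = j then 1 else 0

variable {F : Type*} [Field F] {q n d : ℕ}

/-- The matrix with columns `e j`. -/
def colM (e : Fin d → (Fin n → F)) : Matrix (Fin n) (Fin d) F := Matrix.of fun l j => e j l

/-- The matrix of the functionals `h(·, e j)`. -/
def rowM (q : ℕ) (e : Fin d → (Fin n → F)) : Matrix (Fin d) (Fin n) F := Matrix.of fun j l => e j l ^ q

theorem colM_mulVec (e : Fin d → (Fin n → F)) (c : Fin d → F) : colM e *ᵥ c = ∑ j, c j • e j := by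
  funext l
  rw [mulVec, dotProduct, Finset.sum_apply]
  refine Finset.sum_congr rfl fun j _ => ?_
  rw [colM, of_apply, Pi.smul_apply, smul_eq_mul, mul_comm]

theorem rowM_mulVec (e : Fin d → (Fin n → F)) (v : Fin n → F) (j : Fin d) :
    (rowM q e *ᵥ v) j = hermForm n F q v (e j) := by
  rw [mulVec, dotProduct, herm_def]
  refine Finset.sum_congr rfl fun l _ => ?_
  rw [rowM, of_apply, mul_comm]

theorem rowM_mul_colM (e f : Fin d → (Fin n → F)) (i j : Fin d) :
    (rowM q f * colM e) i j = hermForm n F q (e j) (f i) := by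
  rw [mul_apply, herm_def]
  refine Finset.sum_congr rfl fun l _ => ?_
  rw [rowM, of_apply, colM, of_apply, mul_comm]

/-- The matrix `v ↦ v + Σ H i j h(v, e j) e i`. -/
def aMat (q : ℕ) (e : Fin d → (Fin n → F)) (H : Matrix (Fin d) (Fin d) F) : Matrix (Fin n) (Fin n) F :=
  1 + colM e * H * rowM q e

theorem aMat_mulVec (e : Fin d → (Fin n → F)) (H : Matrix (Fin d) (Fin d) F) (v : Fin n → F) :
    aMat q e H *ᵥ v = v + ∑ i, (∑ j, H i j * hermForm n F q v (e j)) • e i := by
  rw [aMat, add_mulVec, one_mulVec, ← mulVec_mulVec, ← mulVec_mulVec, colM_mulVec]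
  congr 1
  refine Finset.sum_congr rfl fun i _ => ?_
  congr 1
  rw [mulVec, dotProduct]
  exact Finset.sum_congr rfl fun j _ => by rw [rowM_mulVec]

variable [Fintype F]

namespace Frm

variable {e f : Fin d → (Fin n → F)}

theorem fe (H : Frm q e f) (hF : Fintype.card F = q ^ 2) (i j : Fin d) :
    hermForm n F q (f i) (e j) = if i = j then 1 else 0 := by
  rw [herm_swap hF (e j) (f i), H.ef]
  split_ifs with h1 h2 h2
  · exact one_pow q
  · exact absurd h1.symm h2
  · exact absurd h2.symm h1
  · exact zero_pow_q hF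

theorem symm (H : Frm q e f) (hF : Fintype.card F = q ^ 2) : Frm q f e := ⟨H.ff, H.ee, H.fe hF⟩

omit [Fintype F] in
theorem hyp (H : Frm q e f) (i : Fin d) : Hyp q (e i) (f i) :=
  ⟨H.ee i i, H.ff i i, by rw [H.ef, if_pos rfl]⟩

omit [Fintype F] in
/-- The coefficients of a combination of the `e j`. -/
theorem herm_sum (H : Frm q e f) (c : Fin d → F) (j : Fin d) :
    hermForm n F q (∑ i, c i • e i) (f j) = c j := by
  rw [herm_sum_left, Finset.sum_eq_single j]
  · rw [herm_smul_left, H.ef, if_pos rfl, mul_one]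
  · intro i _ hij
    rw [herm_smul_left, H.ef, if_neg hij, mul_zero]
  · intro h; exact absurd (Finset.mem_univ j) h

omit [Fintype F] in
theorem herm_sum_e (H : Frm q e f) (c : Fin d → F) (j : Fin d) :
    hermForm n F q (∑ i, c i • e i) (e j) = 0 := by
  rw [herm_sum_left]
  exact Finset.sum_eq_zero fun i _ => by rw [herm_smul_left, H.ee, mul_zero]

omit [Fintype F] in
/-- The family is independent. -/
theorem indep (H : Frm q e f) {c c' : Fin d → F} (h : ∑ i, c i • e i = ∑ i, c' i • e i) : c = c' := by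
  funext j
  rw [← H.herm_sum c j, h, H.herm_sum]

/-- The double orthogonal space. -/
theorem eq_sum_of_perp (H : Frm q e f) (hF : Fintype.card F = q ^ 2) {x : Fin n → F}
    (hx : ∀ v, (∀ j, hermForm n F q v (e j) = 0) → hermForm n F q v x = 0) :
    x = ∑ i, hermForm n F q x (f i) • e i := by
  rw [← sub_eq_zero]
  apply herm_nondeg hF
  intro v
  -- `v` minus its `f`-part is orthogonal to all `e j`
  have h1 := hx (v - ∑ i, hermForm n F q v (e i) • f i) (fun j => by
    rw [herm_sub_left, (H.symm hF).herm_sum (fun i => hermForm n F q v (e i)) j, sub_self])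
  rw [herm_sub_left, herm_sum_left] at h1
  rw [herm_sub_left, herm_sum_left, herm_swap hF v x]
  have h2 : hermForm n F q v x = ∑ i, hermForm n F q v (e i) * hermForm n F q (f i) x := by
    rw [← sub_eq_zero, ← h1]
    congr 1
    exact Finset.sum_congr rfl fun i _ => by rw [herm_smul_left]
  rw [h2, sum_pow_q hF, ← Finset.sum_sub_distrib]
  refine Finset.sum_eq_zero fun i _ => ?_
  rw [herm_smul_left, mul_pow, ← herm_swap hF v (e i), ← herm_swap hF (f i) x]
  ring

end Frm

theorem exists_Frm (hF : Fintype.card F = q ^ 2) {e : Fin d → (Fin n → F)} (he : LinearIndependent F e)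
    (hiso : ∀ i j, hermForm n F q (e i) (e j) = 0) : ∃ f, Frm q e f := by
  obtain ⟨f, h1, h2⟩ := Cfsg.Agent.ClassicalGeometry.HermFrame.exists_hyperbolic hF he hiso
  exact ⟨f, hiso, h2, h1⟩

/-- The condition on `H`. -/
def IsSkew (q : ℕ) (H : Matrix (Fin d) (Fin d) F) : Prop := ∀ i j, H i j + H j i ^ q = 0

omit [Fintype F] in
theorem aMat_det_aux {e : Fin d → (Fin n → F)} (hee : ∀ i j, hermForm n F q (e i) (e j) = 0)
    (H : Matrix (Fin d) (Fin d) F) : (aMat q e H - 1) * (aMat q e H - 1) = 0 := by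
  have h1 : rowM q e * colM e = 0 := by
    ext i j
    rw [rowM_mul_colM, hee, Matrix.zero_apply]
  rw [aMat, add_sub_cancel_left, Matrix.mul_assoc, ← Matrix.mul_assoc (rowM q e), ← Matrix.mul_assoc (rowM q e), h1,
    Matrix.zero_mul, Matrix.zero_mul, Matrix.mul_zero]

theorem aMat_herm (hF : Fintype.card F = q ^ 2) {e : Fin d → (Fin n → F)}
    (hee : ∀ i j, hermForm n F q (e i) (e j) = 0) {H : Matrix (Fin d) (Fin d) F} (hH : IsSkew q H)
    (v w : Fin n → F) : hermForm n F q (aMat q e H *ᵥ v) (aMat q e H *ᵥ w) = hermForm n F q v w := by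
  rw [aMat_mulVec, aMat_mulVec, herm_add_left, herm_add_right hF, herm_add_right hF]
  have h1 : hermForm n F q (∑ i, (∑ j, H i j * hermForm n F q v (e j)) • e i)
      (∑ i, (∑ j, H i j * hermForm n F q w (e j)) • e i) = 0 := by
    rw [herm_sum_left]
    refine Finset.sum_eq_zero fun i _ => ?_
    have h5 : hermForm n F q (e i) (∑ i, (∑ j, H i j * hermForm n F q w (e j)) • e i) = 0 := by
      rw [herm_sum_right hF]
      exact Finset.sum_eq_zero fun j _ => by rw [herm_smul_right, hee, mul_zero]
    rw [herm_smul_left, h5, mul_zero]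
  have h2 : hermForm n F q v (∑ i, (∑ j, H i j * hermForm n F q w (e j)) • e i) =
      ∑ i, ∑ j, H i j ^ q * (hermForm n F q w (e j)) ^ q * hermForm n F q v (e i) := by
    rw [herm_sum_right hF]
    refine Finset.sum_congr rfl fun i _ => ?_
    rw [herm_smul_right, sum_pow_q hF, Finset.sum_mul]
    exact Finset.sum_congr rfl fun j _ => by rw [mul_pow]
  have h3 : hermForm n F q (∑ i, (∑ j, H i j * hermForm n F q v (e j)) • e i) w =
      ∑ i, ∑ j, H j i * hermForm n F q v (e i) * (hermForm n F q w (e j)) ^ q := by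
    rw [herm_sum_left, Finset.sum_comm]
    refine Finset.sum_congr rfl fun i _ => ?_
    rw [herm_smul_left, Finset.sum_mul]
    exact Finset.sum_congr rfl fun j _ => by rw [herm_swap hF w (e i)]
  rw [h1, h2, h3, add_zero, add_assoc, ← Finset.sum_add_distrib]
  have h4 : ∑ i, (∑ j, H i j ^ q * (hermForm n F q w (e j)) ^ q * hermForm n F q v (e i) +
      ∑ j, H j i * hermForm n F q v (e i) * (hermForm n F q w (e j)) ^ q) = 0 := by
    refine Finset.sum_eq_zero fun i _ => ?_
    rw [← Finset.sum_add_distrib]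
    refine Finset.sum_eq_zero fun j _ => ?_
    linear_combination (hermForm n F q w (e j) ^ q * hermForm n F q v (e i)) * hH j i
  rw [h4, add_zero]

/-- The element `v ↦ v + Σ H i j h(v, e j) e i`. -/
def aEl (hF : Fintype.card F = q ^ 2) {e f : Fin d → (Fin n → F)} (E : Frm q e f)
    (H : Matrix (Fin d) (Fin d) F) (hH : IsSkew q H) : SU n F q :=
  mkSU (aMat q e H) (by
    have h2 := two_le hF
    exact det_eq_one_of_unipotent (by rw [hF]; nlinarith) _ (by
      rw [aMat_det_aux E.ee, Matrix.zero_mul])) (aMat_herm hF E.ee hH)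

theorem act_aEl (hF : Fintype.card F = q ^ 2) {e f : Fin d → (Fin n → F)} (E : Frm q e f)
    {H : Matrix (Fin d) (Fin d) F} (hH : IsSkew q H) (v : Fin n → F) :
    act (aEl hF E H hH) v = v + ∑ i, (∑ j, H i j * hermForm n F q v (e j)) • e i := by
  rw [act_def, aEl, mat_mkSU, aMat_mulVec]

theorem aEl_congr (hF : Fintype.card F = q ^ 2) {e f : Fin d → (Fin n → F)} (E : Frm q e f)
    {H H' : Matrix (Fin d) (Fin d) F} (hH : IsSkew q H) (hH' : IsSkew q H') (h : H = H') :
    aEl hF E H hH = aEl hF E H' hH' := by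
  subst h; rfl

omit [Fintype F] in
theorem IsSkew.zero (hq : 0 < q) : IsSkew q (0 : Matrix (Fin d) (Fin d) F) := fun i j => by
  rw [Matrix.zero_apply, Matrix.zero_apply, zero_pow hq.ne', add_zero]

theorem IsSkew.add (hF : Fintype.card F = q ^ 2) {H H' : Matrix (Fin d) (Fin d) F} (hH : IsSkew q H)
    (hH' : IsSkew q H') : IsSkew q (H + H') := fun i j => by
  rw [Matrix.add_apply, Matrix.add_apply, add_pow_q hF]
  linear_combination hH i j + hH' i j

theorem aEl_mul (hF : Fintype.card F = q ^ 2) {e f : Fin d → (Fin n → F)} (E : Frm q e f)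
    {H H' : Matrix (Fin d) (Fin d) F} (hH : IsSkew q H) (hH' : IsSkew q H') :
    aEl hF E H hH * aEl hF E H' hH' = aEl hF E (H + H') (hH.add hF hH') := by
  apply ext_act
  intro v
  rw [act_mul, act_aEl, act_aEl, act_aEl]
  have h1 : ∀ j, hermForm n F q (v + ∑ i, (∑ j, H' i j * hermForm n F q v (e j)) • e i) (e j) =
      hermForm n F q v (e j) := by
    intro j
    rw [herm_add_left, E.herm_sum_e, add_zero]
  simp only [h1]
  rw [add_assoc, ← Finset.sum_add_distrib]
  congr 1
  refine Finset.sum_congr rfl fun i _ => ?_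
  rw [← add_smul, ← Finset.sum_add_distrib]
  congr 1
  refine Finset.sum_congr rfl fun j _ => ?_
  rw [Matrix.add_apply]
  ring

theorem aEl_inj (hF : Fintype.card F = q ^ 2) {e f : Fin d → (Fin n → F)} (E : Frm q e f)
    {H H' : Matrix (Fin d) (Fin d) F} {hH : IsSkew q H} {hH' : IsSkew q H'}
    (h : aEl hF E H hH = aEl hF E H' hH') : H = H' := by
  have key : ∀ (H : Matrix (Fin d) (Fin d) F) (hH : IsSkew q H) (k : Fin d),
      act (aEl hF E H hH) (f k) = f k + ∑ i, H i k • e i := by
    intro H hH k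
    rw [act_aEl]
    congr 1
    refine Finset.sum_congr rfl fun i _ => ?_
    congr 1
    rw [Finset.sum_eq_single k]
    · rw [E.fe hF, if_pos rfl, mul_one]
    · intro j _ hj
      rw [E.fe hF, if_neg (Ne.symm hj), mul_zero]
    · intro h; exact absurd (Finset.mem_univ k) h
  ext i k
  have h1 := key H hH k
  have h2 := key H' hH' k
  rw [h, h2, add_right_inj] at h1
  exact (congrFun (E.indep h1) i).symm

/-- **An element trivial on the orthogonal space of a totally isotropic frame.** -/
theorem exists_aEl (hF : Fintype.card F = q ^ 2) {e f : Fin d → (Fin n → F)} (E : Frm q e f) {g : SU n F q}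
    (hg : ∀ v, (∀ j, hermForm n F q v (e j) = 0) → act g v = v) :
    ∃ (H : Matrix (Fin d) (Fin d) F) (hH : IsSkew q H), g = aEl hF E H hH := by
  -- `g f_j - f_j` is a combination of the `e i`
  have h1 : ∀ x, act g x - x = ∑ i, hermForm n F q (act g x - x) (f i) • e i := by
    intro x
    apply E.eq_sum_of_perp hF
    intro v hv
    have h2 := hg v hv
    have h3 : hermForm n F q v (act g x) = hermForm n F q v x := by
      conv_lhs => rw [← h2]
      rw [herm_act]
    rw [herm_sub_right hF, h3, sub_self]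
  let H : Matrix (Fin d) (Fin d) F := Matrix.of fun i j => hermForm n F q (act g (f j) - f j) (f i)
  have hH : ∀ i j, H i j = hermForm n F q (act g (f j) - f j) (f i) := fun _ _ => rfl
  have hgf : ∀ j, act g (f j) = f j + ∑ i, H i j • e i := by
    intro j
    have h2 := h1 (f j)
    rw [sub_eq_iff_eq_add] at h2
    rw [h2, add_comm]
    rfl
  have hge : ∀ j, act g (e j) = e j := fun j => hg _ (fun i => E.ee j i)
  have hsk : IsSkew q H := by
    intro i j
    have h2 : hermForm n F q (act g (f i)) (act g (f j)) = 0 := by rw [herm_act, E.ff]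
    rw [hgf, hgf, herm_add_left, herm_add_right hF, herm_add_right hF, E.ff, E.herm_sum, zero_add] at h2
    have h3 : hermForm n F q (f i) (∑ k, H k j • e k) = H i j ^ q := by
      rw [herm_swap hF (∑ k, H k j • e k) (f i), E.herm_sum (fun k => H k j) i]
    have h4 : hermForm n F q (∑ k, H k i • e k) (∑ k, H k j • e k) = 0 := by
      rw [herm_sum_right hF]
      exact Finset.sum_eq_zero fun k _ => by rw [herm_smul_right, E.herm_sum_e, mul_zero]
    rw [h3, h4, add_zero] at h2
    have h5 : (H i j ^ q + H j i) ^ q = 0 := by rw [h2, zero_pow_q hF]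
    rw [add_pow_q hF, pow_q_pow_q hF] at h5
    exact h5
  refine ⟨H, hsk, ?_⟩
  apply ext_act
  intro v
  rw [act_aEl]
  -- `v` = (orthogonal to all `e j`) + `f`-part
  have h2 := hg (v - ∑ j, hermForm n F q v (e j) • f j) (fun j => by
    rw [herm_sub_left, (E.symm hF).herm_sum (fun i => hermForm n F q v (e i)) j, sub_self])
  rw [act_sub, act_sum, sub_eq_sub_iff_add_eq_add] at h2
  have h3 : ∑ j, act g (hermForm n F q v (e j) • f j) = ∑ j, hermForm n F q v (e j) • f j +
      ∑ i, (∑ j, H i j * hermForm n F q v (e j)) • e i := by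
    have h4 : ∑ i, (∑ j, H i j * hermForm n F q v (e j)) • e i =
        ∑ j, hermForm n F q v (e j) • ∑ i, H i j • e i := by
      simp only [Finset.sum_smul, Finset.smul_sum, smul_smul]
      rw [Finset.sum_comm]
      exact Finset.sum_congr rfl fun j _ => Finset.sum_congr rfl fun i _ => by rw [mul_comm]
    rw [h4, ← Finset.sum_add_distrib]
    exact Finset.sum_congr rfl fun j _ => by rw [act_smul, hgf, smul_add]
  rw [h3] at h2
  have h5 : act g v + ∑ j, hermForm n F q v (e j) • f j =
      (v + ∑ i, (∑ j, H i j * hermForm n F q v (e j)) • e i) + ∑ j, hermForm n F q v (e j) • f j := by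
    rw [h2]; abel
  exact add_right_cancel h5

/-- Conjugation of `aEl` by an element acting on the frame by the matrix `M`. -/
theorem IsSkew.conj (hF : Fintype.card F = q ^ 2) {H : Matrix (Fin d) (Fin d) F} (hH : IsSkew q H)
    (M : Matrix (Fin d) (Fin d) F) : IsSkew q (M * H * Mᵀ.map (· ^ q)) := by
  intro i j
  rw [mul_apply, mul_apply, sum_pow_q hF]
  simp only [mul_apply, Finset.sum_mul, map_apply, transpose_apply, mul_pow, sum_pow_q hF, pow_q_pow_q hF]
  rw [Finset.sum_comm, ← Finset.sum_add_distrib]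
  refine Finset.sum_eq_zero fun k _ => ?_
  rw [← Finset.sum_add_distrib]
  refine Finset.sum_eq_zero fun l _ => ?_
  linear_combination (M i k * M j l ^ q) * hH k l

theorem conj_aEl (hF : Fintype.card F = q ^ 2) {e f : Fin d → (Fin n → F)} (E : Frm q e f)
    {H : Matrix (Fin d) (Fin d) F} (hH : IsSkew q H) {g : SU n F q} {M : Matrix (Fin d) (Fin d) F}
    (hg : ∀ j, act g (e j) = ∑ i, M i j • e i) :
    g * aEl hF E H hH * g⁻¹ = aEl hF E (M * H * Mᵀ.map (· ^ q)) (hH.conj hF M) := by
  apply ext_act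
  intro v
  rw [act_mul, act_mul, act_aEl, act_aEl, act_add, act_act_inv, act_sum]
  congr 1
  have h1 : ∀ j, hermForm n F q (act g⁻¹ v) (e j) = ∑ k, M k j ^ q * hermForm n F q v (e k) := by
    intro j
    rw [herm_act_left, inv_inv, hg, herm_sum_right hF]
    exact Finset.sum_congr rfl fun k _ => by rw [herm_smul_right]
  simp only [act_smul, hg, h1, Finset.smul_sum, smul_smul]
  rw [Finset.sum_comm]
  refine Finset.sum_congr rfl fun i _ => ?_
  rw [← Finset.sum_smul]
  congr 1
  simp only [mul_apply, Finset.sum_mul, Finset.mul_sum, map_apply, transpose_apply]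
  -- both sides are triple sums
  have e1 : ∑ k, ∑ j, ∑ l, H k j * (M l j ^ q * hermForm n F q v (e l)) * M i k =
      ∑ l, ∑ j, ∑ k, M i k * H k j * M l j ^ q * hermForm n F q v (e l) := by
    calc ∑ k, ∑ j, ∑ l, H k j * (M l j ^ q * hermForm n F q v (e l)) * M i k
        = ∑ k, ∑ l, ∑ j, H k j * (M l j ^ q * hermForm n F q v (e l)) * M i k :=
          Finset.sum_congr rfl fun k _ => Finset.sum_comm
      _ = ∑ l, ∑ k, ∑ j, H k j * (M l j ^ q * hermForm n F q v (e l)) * M i k := Finset.sum_comm
      _ = ∑ l, ∑ j, ∑ k, H k j * (M l j ^ q * hermForm n F q v (e l)) * M i k :=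
          Finset.sum_congr rfl fun l _ => Finset.sum_comm
      _ = _ := Finset.sum_congr rfl fun l _ => Finset.sum_congr rfl fun j _ =>
          Finset.sum_congr rfl fun k _ => by ring
  exact e1

/-- A transvection with centre in the frame. -/
theorem transv_eq_aEl (hF : Fintype.card F = q ^ 2) {e f : Fin d → (Fin n → F)} (E : Frm q e f) (c : Fin d → F)
    {μ : F} (hμ : μ + μ ^ q = 0) (hs : hermForm n F q (∑ i, c i • e i) (∑ i, c i • e i) = 0)
    (hH : IsSkew q (Matrix.of fun i j => μ * c i * c j ^ q)) :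
    transv hF (∑ i, c i • e i) hs μ hμ = aEl hF E (Matrix.of fun i j => μ * c i * c j ^ q) hH := by
  apply ext_act
  intro v
  rw [act_transv, act_aEl, herm_sum_right hF, Finset.smul_sum]
  congr 1
  refine Finset.sum_congr rfl fun i _ => ?_
  rw [smul_smul]
  congr 1
  rw [Finset.mul_sum, Finset.sum_mul]
  refine Finset.sum_congr rfl fun j _ => ?_
  rw [herm_smul_right, of_apply]
  ring

theorem isSkew_rankOne (hF : Fintype.card F = q ^ 2) (c : Fin d → F) {μ : F} (hμ : μ + μ ^ q = 0) :
    IsSkew q (Matrix.of fun i j => μ * c i * c j ^ q) := by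
  intro i j
  rw [of_apply, of_apply, mul_pow, mul_pow, pow_q_pow_q hF]
  linear_combination (c i * c j ^ q) * hμ

/-- **Centraliser of the pointwise stabiliser of a totally isotropic subspace in `Aut (PSU)`.** -/
theorem autCent_frame (hF : Fintype.card F = q ^ 2) (hn : 4 ≤ n) {e f : Fin d → (Fin n → F)} (E : Frm q e f)
    (hd : 2 ≤ d) (α : MulAut (PSU n F q))
    (hα : ∀ g : SU n F q, (∀ j, act g (e j) = e j) → α (pr n F q g) = pr n F q g) :
    ∃ (H : Matrix (Fin d) (Fin d) F) (hH : IsSkew q H), α = MulAut.conj (pr n F q (aEl hF E H hH)) := by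
  have hmem : ∀ s ∈ Submodule.span F (Set.range e), ∃ c : Fin d → F, s = ∑ i, c i • e i := by
    intro s hs
    obtain ⟨c, hc⟩ := (Submodule.mem_span_range_iff_exists_fun F).1 hs
    exact ⟨c, hc.symm⟩
  obtain ⟨g, hg, hconj⟩ := autCent_sub hF hn (Submodule.span F (Set.range e)) (by
      intro s hs s' hs'
      obtain ⟨c, rfl⟩ := hmem s hs
      obtain ⟨c', rfl⟩ := hmem s' hs'
      rw [herm_sum_right hF]
      exact Finset.sum_eq_zero fun j _ => by rw [herm_smul_right, E.herm_sum_e, mul_zero])
    (s₁ := e ⟨0, by omega⟩) (s₂ := e ⟨1, by omega⟩)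
    (Submodule.subset_span ⟨_, rfl⟩) (Submodule.subset_span ⟨_, rfl⟩) (by
      intro a b hab
      have h1 := congrArg (fun x => hermForm n F q x (f ⟨0, by omega⟩)) hab
      have h2 := congrArg (fun x => hermForm n F q x (f ⟨1, by omega⟩)) hab
      simp only [herm_add_left, herm_smul_left, E.ef, herm_zero_left] at h1 h2
      simp at h1 h2
      exact ⟨h1, h2⟩) α (by
      intro s hs hs0 w hw μ h
      apply hα
      intro j
      obtain ⟨c, rfl⟩ := hmem s hs
      apply act_siegel_of_orth hF h
      · exact herm_eq_zero_swap hF (E.herm_sum_e c j)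
      · exact herm_eq_zero_swap hF (hw _ (Submodule.subset_span ⟨j, rfl⟩)))
  obtain ⟨H, hH, rfl⟩ := exists_aEl hF E (fun v hv => hg v (fun s hs => by
    obtain ⟨c, rfl⟩ := hmem s hs
    rw [herm_sum_right hF]
    exact Finset.sum_eq_zero fun j _ => by rw [herm_smul_right, hv j, mul_zero]))
  exact ⟨H, hH, hconj⟩

end Cfsg.Agent.KFacts.Unit
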