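import Cfsg.Agent.KFacts.Unit.Point
import Cfsg.Agent.KFacts.Unit.Torus
import Cfsg.Agent.OddHalf.D7Out.FrGen
import Cfsg.Agent.S0283

/-!
# The facts of the front (`FrGen.KF`) for `PSU n F q`, `q` even, `n ≥ 6` (helper850)

`u` an isotropic vector, `QQ u` the unipotent radical of its stabiliser, `RR u` its transvection group. Every maximal
2-subgroup `U ≥ QQ u` lies in `PP u`, and `KF U (RR u)`.
-/

set_option autoImplicit false

namespace Cfsg.Agent.KFacts.Unit

open Cfsg Cfsg.Agent.LieClassical.HermBasic Cfsg.Agent.LieClassical.HermSiegel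
  Cfsg.Agent.LieClassical.HermGen Cfsg.Agent.LieClassical.SUBasic Matrix
  Cfsg.Agent.ClassicalGeometry.PSUAutBasic Cfsg.Agent.ClassicalGeometry.PSUAutSylow
  Cfsg.Agent.ClassicalGeometry.PSUAutUnip Cfsg.Agent.ClassicalGeometry.PSUAutPhi
  Cfsg.Agent.OddHalf.D7Out
open scoped commutatorElement

variable {F : Type*} [Field F] [Fintype F] {q n : ℕ}

/-- a non-trivial element of `RR u` -/
theorem exists_RR_ne_one (hF : Fintype.card F = q ^ 2) (hn : 3 ≤ n) {u : Fin n → F} (hu0 : u ≠ 0)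
    (hu : hermForm n F q u u = 0) : ∃ x ∈ RR hF u hu, x ≠ 1 := by
  obtain ⟨μ0, hμ0, hμ⟩ := exists_trace_zero_ne hF
  refine ⟨_, mem_RR.2 ⟨_, hμ, rfl⟩, fun h => ?_⟩
  have h2 := two_le hF
  have h0 : (0 : F) + 0 ^ q = 0 := by rw [zero_pow (by omega), add_zero]
  have h1 : pr n F q (transv hF u hu μ0 hμ) = pr n F q (transv hF u hu 0 h0) := by
    rw [h, transv_zero, map_one]
  have h3 := siegel_pr_inj hF hn _ _ h1
  obtain ⟨f, -, -, hfu⟩ := exists_partner hF hu0 hu
  have h4 := congrArg (fun g => act g f) h3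
  simp only [act_siegel] at h4
  rw [smul_zero, add_zero, herm_zero_right hF, sub_zero, sub_zero, add_right_inj, hfu, mul_one, mul_one,
    zero_smul] at h4
  rcases smul_eq_zero.1 h4 with h5 | h5
  · exact hμ0 h5
  · exact hu0 h5

theorem center_eq_bot' [CharP F 2] (hF : Fintype.card F = q ^ 2) (hn : 6 ≤ n) {u : Fin n → F} (hu0 : u ≠ 0)
    (hu : hermForm n F q u u = 0) : Subgroup.center (PSU n F q) = ⊥ := by
  have hs : IsSimpleGroup (PSU n F q) := Cfsg.Agent.S0283.result hF n (by omega) (by omega)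
  rcases hs.eq_bot_or_eq_top_of_normal (Subgroup.center (PSU n F q))
    (inferInstance : (Subgroup.center (PSU n F q)).Normal) with h | h
  · exact h
  · exfalso
    obtain ⟨x, hx, hx1⟩ := exists_RR_ne_one hF (by omega) hu0 hu
    have h1 := PP_perfect hF hn hu0 hu
    have h2 : ⁅PP q u, PP q u⁆ = (⊥ : Subgroup (PSU n F q)) := by
      rw [eq_bot_iff, Subgroup.commutator_le]
      intro a _ b _
      have hb : b ∈ Subgroup.center (PSU n F q) := by rw [h]; trivial
      rw [Subgroup.mem_bot, commutatorElement_eq_one_iff_mul_comm]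
      exact (Subgroup.mem_center_iff.1 hb a)
    rw [h2] at h1
    have h3 : x ∈ (PP q u : Subgroup (PSU n F q)) := QQ_le_PP hF hu (RR_le_QQ hF hu hx)
    rw [← h1, Subgroup.mem_bot] at h3
    exact hx1 h3

theorem isPGroup_QQ [CharP F 2] (hF : Fintype.card F = q ^ 2) {u : Fin n → F} (hu : hermForm n F q u u = 0) :
    IsPGroup 2 ↥(QQ hF u hu) := by
  have : Fact (Nat.Prime 2) := ⟨Nat.prime_two⟩
  exact (isPGroup_siegG hF 2 hu).map _

/-- **The facts of the front.** -/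
theorem kf_of_max [CharP F 2] (hF : Fintype.card F = q ^ 2) (hn : 6 ≤ n) {u : Fin n → F} (hu0 : u ≠ 0)
    (hu : hermForm n F q u u = 0) {U : Subgroup (PSU n F q)} (pU : IsPGroup 2 ↥U)
    (maxU : ∀ P : Subgroup (PSU n F q), IsPGroup 2 ↥P → U ≤ P → P ≤ U) (hQ : QQ hF u hu ≤ U) :
    U ≤ PP q u ∧ FrGen.KF U (RR hF u hu) := by
  have : Fact (Nat.Prime 2) := ⟨Nat.prime_two⟩
  obtain ⟨x₀, hx₀, hx₀1⟩ := exists_RR_ne_one hF (by omega) hu0 hu
  have hUP : U ≤ PP q u := by
    -- a central involution of `U` lies in `RR u`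
    have hne : Nontrivial ↥U := ⟨⟨⟨x₀, hQ (RR_le_QQ hF hu hx₀)⟩, 1, fun h => hx₀1 (congrArg Subtype.val h)⟩⟩
    have hc := pU.center_nontrivial
    obtain ⟨⟨z, hz⟩, hz1⟩ := exists_ne (1 : ↥(Subgroup.center ↥U))
    have hz1' : (z : PSU n F q) ≠ 1 := fun h => hz1 (Subtype.ext (Subtype.ext h))
    have hzc : ∀ y ∈ U, (z : PSU n F q) * y = y * z := fun y hy =>
      (congrArg Subtype.val (Subgroup.mem_center_iff.1 hz ⟨y, hy⟩)).symm
    obtain ⟨x, hx, hconj⟩ := autCent_point hF (by omega) hu0 hu (MulAut.conj (z : PSU n F q)) (fun y hy => by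
      rw [MulAut.conj_apply, hzc y (hQ hy), mul_inv_cancel_right])
    have hzx : (z : PSU n F q) = x := by
      have h1 : x⁻¹ * (z : PSU n F q) ∈ Subgroup.center (PSU n F q) := by
        rw [Subgroup.mem_center_iff]
        intro y
        have h2 : (z : PSU n F q) * y * (z : PSU n F q)⁻¹ = x * y * x⁻¹ := by
          have := congrArg (fun α => α y) hconj
          simpa [MulAut.conj_apply] using this
        have h3 : (z : PSU n F q) * y = x * y * x⁻¹ * z := by rw [← h2]; group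
        calc y * (x⁻¹ * (z : PSU n F q)) = x⁻¹ * (x * y * x⁻¹ * z) := by group
          _ = x⁻¹ * z * y := by rw [← h3]; group
      rw [center_eq_bot' hF hn hu0 hu, Subgroup.mem_bot] at h1
      exact (inv_mul_eq_one.1 h1).symm
    intro y hy
    obtain ⟨k, hk⟩ := pU ⟨y, hy⟩
    have hzR : (z : PSU n F q) ∈ RR hF u hu := by rw [hzx]; exact hx
    exact mem_PP_of_commute hF (by omega) hu0 hu hzR hz1' (congrArg Subtype.val hk) (hzc y hy).symm
  refine ⟨hUP, ?_⟩
  have htr : ∀ z ∈ RR hF u hu, ∀ z' ∈ RR hF u hu, z ≠ 1 → z' ≠ 1 → ∃ k : PSU n F q, k * z * k⁻¹ = z' := by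
    intro z hz z' hz' h1 h1'
    obtain ⟨f, H⟩ := exists_hyp hF hu0 hu
    obtain ⟨h, -, e⟩ := HH_trans hF H hz hz' h1 h1'
    exact ⟨h, e⟩
  refine { pU := pU, maxU := maxU, ZU := (RR_le_QQ hF hu).trans hQ, Zc := ?_, Zsq := ?_, Z1 := ?_, aut := ?_,
           P2' := ?_, trans := htr }
  · intro z hz y hy
    exact PP_comm_RR hF hu (hUP hy) hz
  · intro z hz
    obtain ⟨μ, hμ, rfl⟩ := mem_RR.1 hz
    have h2 := two_le hF
    have h0 : (0 : F) + 0 ^ q = 0 := by rw [zero_pow (by omega), add_zero]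
    rw [← map_mul, transv_mul]
    have h1 : transv hF u hu (μ + μ) (by rw [CharTwo.add_self_eq_zero]; exact h0) = 1 := by
      rw [← transv_zero hF hu h0]
      exact siegel_congr hF _ _ rfl rfl (CharTwo.add_self_eq_zero μ)
    rw [h1, map_one]
  · intro h
    rw [h, Subgroup.mem_bot] at hx₀
    exact hx₀1 hx₀
  · intro α _ hα
    obtain ⟨x, hx, e⟩ := autCent_point hF (by omega) hu0 hu α (fun y hy => hα y (hQ hy))
    exact ⟨x, hx, fun y => by rw [e, MulAut.conj_apply]⟩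
  · intro z hz
    exact ⟨PP q u, PP_perfect hF hn hu0 hu, QQ_le_PP hF hu (RR_le_QQ hF hu hz),
      fun y hy => PP_comm_RR hF hu hy hz⟩

/-- A Sylow 2-subgroup over `QQ u` with the facts of the front. -/
theorem exists_kf [CharP F 2] (hF : Fintype.card F = q ^ 2) (hn : 6 ≤ n) {u : Fin n → F} (hu0 : u ≠ 0)
    (hu : hermForm n F q u u = 0) :
    ∃ U : Subgroup (PSU n F q), QQ hF u hu ≤ U ∧ U ≤ PP q u ∧ FrGen.KF U (RR hF u hu) := by
  have : Fact (Nat.Prime 2) := ⟨Nat.prime_two⟩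
  obtain ⟨P, hP⟩ := (isPGroup_QQ hF hu).exists_le_sylow
  have maxU : ∀ P' : Subgroup (PSU n F q), IsPGroup 2 ↥P' → (P : Subgroup (PSU n F q)) ≤ P' →
      P' ≤ (P : Subgroup (PSU n F q)) := fun P' hP' hle => le_of_eq (P.is_maximal' hP' hle)
  obtain ⟨h1, h2⟩ := kf_of_max hF hn hu0 hu P.isPGroup' maxU hP
  exact ⟨P, hP, h1, h2⟩

end Cfsg.Agent.KFacts.Unit
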