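import Mathlib
import Cfsg.Agent.KFacts.Unit.Frame

/-!
# The action of `SL` on a totally isotropic frame, extension and transitivity of frames

`exists_GL`: for `Mᵀ N^σ = 1`, `det M det N = 1` some element of `SU` acts on the frame by `M`, `N`.
`exists_third`: a frame with two pairs extends to one with three pairs, `n ≥ 6`.
`exists_map_Frm`: transitivity on frames with two pairs. `iso_induction`: spaces with a hyperbolic pair are spanned by
isotropic vectors. `rho`: an element of order three at a hyperbolic pair.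
-/

set_option autoImplicit false

namespace Cfsg.Agent.KFacts.Unit

open Cfsg Cfsg.Agent.LieClassical.HermBasic Cfsg.Agent.LieClassical.HermSiegel
  Cfsg.Agent.LieClassical.HermGen Cfsg.Agent.LieClassical.SUBasic Matrix
  Cfsg.Agent.ClassicalGeometry.PSUAutBasic Cfsg.Agent.ClassicalGeometry.PSUAutSylow
  Cfsg.Agent.ClassicalGeometry.PSUAutUnip Cfsg.Agent.ClassicalGeometry.PSUAutPhi

variable {F : Type*} [Field F] [Fintype F] {q n d : ℕ}

theorem mulVec_pow_q (hF : Fintype.card F = q ^ 2) (N : Matrix (Fin d) (Fin d) F) (c : Fin d → F) (i : Fin d) :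
    (N *ᵥ c) i ^ q = (N.map (LieClassical.HermBasic.conj hF) *ᵥ fun j => c j ^ q) i := by
  rw [mulVec, mulVec, dotProduct, dotProduct, sum_pow_q hF]
  exact Finset.sum_congr rfl fun j _ => by rw [mul_pow, map_apply, LieClassical.HermBasic.conj_apply]

theorem dot_of_dual (hF : Fintype.card F = q ^ 2) {M N : Matrix (Fin d) (Fin d) F}
    (hMN : Mᵀ * N.map (LieClassical.HermBasic.conj hF) = 1) (c c' : Fin d → F) :
    ∑ i, (M *ᵥ c) i * (N *ᵥ c') i ^ q = ∑ i, c i * c' i ^ q := by
  have h1 : ∑ i, (M *ᵥ c) i * (N *ᵥ c') i ^ q =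
      (M *ᵥ c) ⬝ᵥ (N.map (LieClassical.HermBasic.conj hF) *ᵥ fun j => c' j ^ q) :=
    Finset.sum_congr rfl fun i _ => by rw [mulVec_pow_q hF]
  rw [h1, ← vecMul_transpose, ← dotProduct_mulVec, mulVec_mulVec, hMN, one_mulVec]
  rfl

theorem dual_symm (hF : Fintype.card F = q ^ 2) {M N : Matrix (Fin d) (Fin d) F}
    (hMN : Mᵀ * N.map (LieClassical.HermBasic.conj hF) = 1) : Nᵀ * M.map (LieClassical.HermBasic.conj hF) = 1 := by
  have h1 := congrArg (fun A => (Aᵀ).map (LieClassical.HermBasic.conj hF)) hMN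
  simp only [transpose_mul, transpose_transpose, transpose_one, Matrix.map_mul] at h1
  rw [Matrix.map_one _ (map_zero _) (map_one _)] at h1
  have h2 : ((N.map (LieClassical.HermBasic.conj hF))ᵀ).map (LieClassical.HermBasic.conj hF) = Nᵀ := by
    ext i j
    rw [map_apply, transpose_apply, map_apply, transpose_apply, LieClassical.HermBasic.conj_apply, LieClassical.HermBasic.conj_apply,
      pow_q_pow_q hF]
  rwa [h2] at h1

/-- The matrix acting on the frame by `M` and `N`. -/
def glMat (q : ℕ) (e f : Fin d → (Fin n → F)) (M N : Matrix (Fin d) (Fin d) F) : Matrix (Fin n) (Fin n) F :=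
  (1 + colM e * ((M - 1) * rowM q f)) * (1 + colM f * ((N - 1) * rowM q e))

omit [Fintype F] in
theorem rowM_colM_one {e f : Fin d → (Fin n → F)} (h : ∀ i j, hermForm n F q (e i) (f j) = if i = j then 1 else 0) :
    rowM q f * colM e = 1 := by
  ext i j
  rw [rowM_mul_colM, h, Matrix.one_apply]
  split_ifs with h1 h2 h2
  · rfl
  · exact absurd h1.symm h2
  · exact absurd h2.symm h1
  · rfl

omit [Fintype F] in
theorem rowM_colM_zero {e : Fin d → (Fin n → F)} (h : ∀ i j, hermForm n F q (e i) (e j) = 0) :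
    rowM q e * colM e = 0 := by
  ext i j
  rw [rowM_mul_colM, h, Matrix.zero_apply]

theorem glMat_det (hF : Fintype.card F = q ^ 2) {e f : Fin d → (Fin n → F)} (E : Frm q e f)
    (M N : Matrix (Fin d) (Fin d) F) : (glMat q e f M N).det = M.det * N.det := by
  rw [glMat, det_mul, det_one_add_mul_comm (colM e), det_one_add_mul_comm (colM f), Matrix.mul_assoc,
    rowM_colM_one E.ef, Matrix.mul_assoc, rowM_colM_one (E.fe hF), Matrix.mul_one, Matrix.mul_one, add_sub_cancel,
    add_sub_cancel]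

omit [Fintype F] in
theorem glMat_mulVec {e f : Fin d → (Fin n → F)} (E : Frm q e f) (M N : Matrix (Fin d) (Fin d) F) (v : Fin n → F) :
    glMat q e f M N *ᵥ v = v + ∑ i, (((M - 1) *ᵥ fun j => hermForm n F q v (f j)) i) • e i +
      ∑ i, (((N - 1) *ᵥ fun j => hermForm n F q v (e j)) i) • f i := by
  have h1 : glMat q e f M N = 1 + colM e * ((M - 1) * rowM q f) + colM f * ((N - 1) * rowM q e) := by
    rw [glMat, Matrix.mul_add, Matrix.mul_one, Matrix.add_mul, Matrix.one_mul]
    have h2 : colM e * ((M - 1) * rowM q f) * (colM f * ((N - 1) * rowM q e)) = 0 := by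
      rw [← Matrix.mul_assoc (colM e * ((M - 1) * rowM q f)), Matrix.mul_assoc (colM e), Matrix.mul_assoc (M - 1),
        rowM_colM_zero E.ff, Matrix.mul_zero, Matrix.mul_zero, Matrix.zero_mul]
    rw [h2, add_zero]
  have h3 : ∀ (e : Fin d → (Fin n → F)), (rowM q e *ᵥ v) = fun j => hermForm n F q v (e j) := by
    intro e
    funext j
    exact rowM_mulVec e v j
  rw [h1, add_mulVec, add_mulVec, one_mulVec, ← mulVec_mulVec, ← mulVec_mulVec, ← mulVec_mulVec, ← mulVec_mulVec,
    colM_mulVec, colM_mulVec, h3, h3]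

theorem glMat_herm (hF : Fintype.card F = q ^ 2) {e f : Fin d → (Fin n → F)} (E : Frm q e f)
    {M N : Matrix (Fin d) (Fin d) F} (hMN : Mᵀ * N.map (LieClassical.HermBasic.conj hF) = 1) (v w : Fin n → F) :
    hermForm n F q (glMat q e f M N *ᵥ v) (glMat q e f M N *ᵥ w) = hermForm n F q v w := by
  rw [glMat_mulVec E, glMat_mulVec E]
  obtain ⟨c, hc⟩ : ∃ c : Fin d → F, c = fun j => hermForm n F q v (f j) := ⟨_, rfl⟩
  obtain ⟨c', hc'⟩ : ∃ c : Fin d → F, c = fun j => hermForm n F q v (e j) := ⟨_, rfl⟩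
  obtain ⟨k, hk⟩ : ∃ c : Fin d → F, c = fun j => hermForm n F q w (f j) := ⟨_, rfl⟩
  obtain ⟨k', hk'⟩ : ∃ c : Fin d → F, c = fun j => hermForm n F q w (e j) := ⟨_, rfl⟩
  rw [← hc, ← hc', ← hk, ← hk']
  have hci : ∀ i, hermForm n F q v (f i) = c i := fun i => by rw [hc]
  have hci' : ∀ i, hermForm n F q v (e i) = c' i := fun i => by rw [hc']
  have hki : ∀ i, hermForm n F q (f i) w = k i ^ q := fun i => by rw [hk, ← herm_swap hF w (f i)]
  have hki' : ∀ i, hermForm n F q (e i) w = k' i ^ q := fun i => by rw [hk', ← herm_swap hF w (e i)]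
  obtain ⟨a, ha⟩ : ∃ a : Fin d → F, a = (M - 1) *ᵥ c := ⟨_, rfl⟩
  obtain ⟨b, hb⟩ : ∃ a : Fin d → F, a = (N - 1) *ᵥ c' := ⟨_, rfl⟩
  obtain ⟨a', ha'⟩ : ∃ a : Fin d → F, a = (M - 1) *ᵥ k := ⟨_, rfl⟩
  obtain ⟨b', hb'⟩ : ∃ a : Fin d → F, a = (N - 1) *ᵥ k' := ⟨_, rfl⟩
  rw [← ha, ← hb, ← ha', ← hb']
  have e1 : ∀ (u : Fin n → F) (x : Fin d → F), hermForm n F q u (∑ i, x i • e i) =
      ∑ i, x i ^ q * hermForm n F q u (e i) := fun u x => by
    rw [herm_sum_right hF]; exact Finset.sum_congr rfl fun i _ => by rw [herm_smul_right]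
  have e2 : ∀ (u : Fin n → F) (x : Fin d → F), hermForm n F q u (∑ i, x i • f i) =
      ∑ i, x i ^ q * hermForm n F q u (f i) := fun u x => by
    rw [herm_sum_right hF]; exact Finset.sum_congr rfl fun i _ => by rw [herm_smul_right]
  have e3 : ∀ (u : Fin n → F) (x : Fin d → F), hermForm n F q (∑ i, x i • e i) u =
      ∑ i, x i * hermForm n F q (e i) u := fun u x => by
    rw [herm_sum_left]; exact Finset.sum_congr rfl fun i _ => by rw [herm_smul_left]
  have e4 : ∀ (u : Fin n → F) (x : Fin d → F), hermForm n F q (∑ i, x i • f i) u =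
      ∑ i, x i * hermForm n F q (f i) u := fun u x => by
    rw [herm_sum_left]; exact Finset.sum_congr rfl fun i _ => by rw [herm_smul_left]
  simp only [herm_add_left, herm_add_right hF]
  rw [e1 v a', e2 v b', e3 w a, e4 w b, e1 (∑ i, a i • e i) a', e2 (∑ i, a i • e i) b',
    e1 (∑ i, b i • f i) a', e2 (∑ i, b i • f i) b']
  have z1 : ∑ i, a' i ^ q * hermForm n F q (∑ i, a i • e i) (e i) = 0 :=
    Finset.sum_eq_zero fun i _ => by rw [E.herm_sum_e, mul_zero]
  have z2 : ∑ i, b' i ^ q * hermForm n F q (∑ i, b i • f i) (f i) = 0 :=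
    Finset.sum_eq_zero fun i _ => by rw [(E.symm hF).herm_sum_e, mul_zero]
  rw [z1, z2]
  simp only [hci, hci', hki, hki', E.herm_sum, (E.symm hF).herm_sum]
  -- the two identities
  have i1 := dot_of_dual hF hMN c k'
  have i2 := dot_of_dual hF (dual_symm hF hMN) c' k
  have hai : ∀ i, (M *ᵥ c) i = a i + c i := fun i => by
    rw [ha, sub_mulVec, one_mulVec, Pi.sub_apply, sub_add_cancel]
  have hbi : ∀ i, (N *ᵥ c') i = b i + c' i := fun i => by
    rw [hb, sub_mulVec, one_mulVec, Pi.sub_apply, sub_add_cancel]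
  have hai' : ∀ i, (M *ᵥ k) i = a' i + k i := fun i => by
    rw [ha', sub_mulVec, one_mulVec, Pi.sub_apply, sub_add_cancel]
  have hbi' : ∀ i, (N *ᵥ k') i = b' i + k' i := fun i => by
    rw [hb', sub_mulVec, one_mulVec, Pi.sub_apply, sub_add_cancel]
  simp only [hai, hbi', add_pow_q hF] at i1
  simp only [hbi, hai', add_pow_q hF] at i2
  have j1 : ∑ i, (b' i ^ q * c i + a i * k' i ^ q + b' i ^ q * a i) = 0 := by
    rw [← sub_eq_zero.2 i1, ← Finset.sum_sub_distrib]
    exact Finset.sum_congr rfl fun i _ => by ring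
  have j2 : ∑ i, (a' i ^ q * c' i + b i * k i ^ q + a' i ^ q * b i) = 0 := by
    rw [← sub_eq_zero.2 i2, ← Finset.sum_sub_distrib]
    exact Finset.sum_congr rfl fun i _ => by ring
  rw [Finset.sum_add_distrib, Finset.sum_add_distrib] at j1 j2
  linear_combination j1 + j2

/-- **The action of matrices on a frame.** -/
theorem exists_GL (hF : Fintype.card F = q ^ 2) {e f : Fin d → (Fin n → F)} (E : Frm q e f)
    {M N : Matrix (Fin d) (Fin d) F} (hMN : Mᵀ * N.map (LieClassical.HermBasic.conj hF) = 1) (hdet : M.det * N.det = 1) :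
    ∃ g : SU n F q, (∀ j, act g (e j) = ∑ i, M i j • e i) ∧ (∀ j, act g (f j) = ∑ i, N i j • f i) ∧
      ∀ v, (∀ j, hermForm n F q v (e j) = 0) → (∀ j, hermForm n F q v (f j) = 0) → act g v = v := by
  refine ⟨mkSU (glMat q e f M N) (by rw [glMat_det hF E, hdet]) (glMat_herm hF E hMN), ?_, ?_, ?_⟩
  · intro j
    rw [act_def, mat_mkSU, glMat_mulVec E]
    have h1 : (fun i => hermForm n F q (e j) (f i)) = Pi.single j 1 := by
      funext i
      rw [E.ef, Pi.single_apply]
      simp only [eq_comm]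
    have h2 : (fun i => hermForm n F q (e j) (e i)) = 0 := by
      funext i
      exact E.ee j i
    rw [h1, h2, mulVec_zero, mulVec_single_one]
    simp only [Pi.zero_apply, zero_smul, Finset.sum_const_zero, add_zero, col_apply, Matrix.sub_apply, sub_smul,
      Finset.sum_sub_distrib]
    have h3 : ∑ i, (1 : Matrix (Fin d) (Fin d) F) i j • e i = e j := by
      rw [Finset.sum_eq_single j]
      · rw [Matrix.one_apply_eq, one_smul]
      · intro i _ hij
        rw [Matrix.one_apply_ne hij, zero_smul]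
      · intro h; exact absurd (Finset.mem_univ j) h
    rw [h3]; abel
  · intro j
    rw [act_def, mat_mkSU, glMat_mulVec E]
    have h1 : (fun i => hermForm n F q (f j) (e i)) = Pi.single j 1 := by
      funext i
      rw [E.fe hF, Pi.single_apply]
      simp only [eq_comm]
    have h2 : (fun i => hermForm n F q (f j) (f i)) = 0 := by
      funext i
      exact E.ff j i
    rw [h1, h2, mulVec_zero, mulVec_single_one]
    simp only [Pi.zero_apply, zero_smul, Finset.sum_const_zero, add_zero, col_apply, Matrix.sub_apply, sub_smul,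
      Finset.sum_sub_distrib]
    have h3 : ∑ i, (1 : Matrix (Fin d) (Fin d) F) i j • f i = f j := by
      rw [Finset.sum_eq_single j]
      · rw [Matrix.one_apply_eq, one_smul]
      · intro i _ hij
        rw [Matrix.one_apply_ne hij, zero_smul]
      · intro h; exact absurd (Finset.mem_univ j) h
    rw [h3]; abel
  · intro v h1 h2
    rw [act_def, mat_mkSU, glMat_mulVec E]
    have h3 : (fun j => hermForm n F q v (f j)) = 0 := funext h2
    have h4 : (fun j => hermForm n F q v (e j)) = 0 := funext h1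
    rw [h3, h4, mulVec_zero, mulVec_zero]
    simp

/-- `SL` acts on every frame. -/
theorem exists_SL (hF : Fintype.card F = q ^ 2) {e f : Fin d → (Fin n → F)} (E : Frm q e f)
    {M : Matrix (Fin d) (Fin d) F} (hdet : M.det = 1) :
    ∃ g : SU n F q, (∀ j, act g (e j) = ∑ i, M i j • e i) ∧
      ∀ v, (∀ j, hermForm n F q v (e j) = 0) → (∀ j, hermForm n F q v (f j) = 0) → act g v = v := by
  have hu : IsUnit M.det := by rw [hdet]; exact isUnit_one
  obtain ⟨g, h1, -, h3⟩ := exists_GL hF E (M := M) (N := ((M⁻¹)ᵀ).map (LieClassical.HermBasic.conj hF)) (by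
    have e1 : (((M⁻¹)ᵀ).map (LieClassical.HermBasic.conj hF)).map (LieClassical.HermBasic.conj hF) = (M⁻¹)ᵀ := by
      ext i j
      rw [map_apply, map_apply, LieClassical.HermBasic.conj_apply, LieClassical.HermBasic.conj_apply, pow_q_pow_q hF]
    rw [e1, ← transpose_mul, nonsing_inv_mul _ hu, transpose_one]) (by
    have e2 : (((M⁻¹)ᵀ).map (LieClassical.HermBasic.conj hF)).det = 1 := by
      have e3 : ((M⁻¹)ᵀ).map (LieClassical.HermBasic.conj hF) = (LieClassical.HermBasic.conj hF : F →+* F).mapMatrix (M⁻¹)ᵀ := rfl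
      rw [e3, ← RingHom.map_det, det_transpose, det_nonsing_inv, hdet, Ring.inverse_one, map_one]
    rw [hdet, e2, mul_one])
  exact ⟨g, h1, h3⟩

/-- Correction of a hyperbolic pair orthogonal to `e`. -/
theorem exists_pair_corr (hF : Fintype.card F = q ^ 2) {e f : Fin d → (Fin n → F)} (E : Frm q e f)
    {x y : Fin n → F} (hxx : hermForm n F q x x = 0) (hyy : hermForm n F q y y = 0)
    (hxy : hermForm n F q x y = 1) (hx : ∀ i, hermForm n F q x (e i) = 0) (hy : ∀ i, hermForm n F q y (e i) = 0) :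
    ∃ x' y', Hyp q x' y' ∧ (∀ i, hermForm n F q x' (e i) = 0) ∧ (∀ i, hermForm n F q y' (e i) = 0) ∧
      (∀ i, hermForm n F q x' (f i) = 0) ∧ (∀ i, hermForm n F q y' (f i) = 0) ∧
      (x' = x - ∑ i, hermForm n F q x (f i) • e i) := by
  obtain ⟨x', hx'⟩ : ∃ x', x' = x - ∑ i, hermForm n F q x (f i) • e i := ⟨_, rfl⟩
  obtain ⟨y', hy'⟩ : ∃ y', y' = y - ∑ i, hermForm n F q y (f i) • e i := ⟨_, rfl⟩
  have hxe : ∀ i, hermForm n F q x' (e i) = 0 := fun i => by rw [hx', herm_sub_left, E.herm_sum_e, hx, sub_zero]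
  have hye : ∀ i, hermForm n F q y' (e i) = 0 := fun i => by rw [hy', herm_sub_left, E.herm_sum_e, hy, sub_zero]
  have hxf : ∀ i, hermForm n F q x' (f i) = 0 := fun i => by
    rw [hx', herm_sub_left, E.herm_sum (fun i => hermForm n F q x (f i)) i, sub_self]
  have hyf : ∀ i, hermForm n F q y' (f i) = 0 := fun i => by
    rw [hy', herm_sub_left, E.herm_sum (fun i => hermForm n F q y (f i)) i, sub_self]
  have key : ∀ (u z : Fin n → F) (c : Fin d → F), (∀ i, hermForm n F q u (e i) = 0) →
      hermForm n F q u (z - ∑ i, c i • e i) = hermForm n F q u z := by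
    intro u z c hu
    rw [herm_sub_right hF, herm_sum_right hF, Finset.sum_eq_zero, sub_zero]
    intro i _
    rw [herm_smul_right, hu, mul_zero]
  have key2 : ∀ (u z : Fin n → F) (c : Fin d → F), (∀ i, hermForm n F q u (e i) = 0) →
      hermForm n F q (z - ∑ i, c i • e i) u = hermForm n F q z u := by
    intro u z c hu
    rw [herm_sub_left, herm_sum_left, Finset.sum_eq_zero, sub_zero]
    intro i _
    rw [herm_smul_left, herm_eq_zero_swap hF (hu i), mul_zero]
  have hx1 : ∀ u, (∀ i, hermForm n F q u (e i) = 0) → hermForm n F q x' u = hermForm n F q x u := fun u hu => by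
    rw [hx']; exact key2 _ _ _ hu
  have hx2 : ∀ u, (∀ i, hermForm n F q u (e i) = 0) → hermForm n F q u x' = hermForm n F q u x := fun u hu => by
    rw [hx']; exact key _ _ _ hu
  have hy1 : ∀ u, (∀ i, hermForm n F q u (e i) = 0) → hermForm n F q y' u = hermForm n F q y u := fun u hu => by
    rw [hy']; exact key2 _ _ _ hu
  have hy2 : ∀ u, (∀ i, hermForm n F q u (e i) = 0) → hermForm n F q u y' = hermForm n F q u y := fun u hu => by
    rw [hy']; exact key _ _ _ hu
  refine ⟨x', y', ⟨?_, ?_, ?_⟩, hxe, hye, hxf, hyf, hx'⟩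
  · rw [hx1 _ hxe, hx2 _ hx, hxx]
  · rw [hy1 _ hye, hy2 _ hy, hyy]
  · rw [hx1 _ hye, hy2 _ hx, hxy]

/-- Extension of a frame by a hyperbolic pair orthogonal to it. -/
theorem Frm.snoc (hF : Fintype.card F = q ^ 2) {e f : Fin d → (Fin n → F)} (E : Frm q e f) {x y : Fin n → F}
    (hxy : Hyp q x y) (hxe : ∀ i, hermForm n F q x (e i) = 0) (hye : ∀ i, hermForm n F q y (e i) = 0)
    (hxf : ∀ i, hermForm n F q x (f i) = 0) (hyf : ∀ i, hermForm n F q y (f i) = 0) :
    Frm q (Fin.snoc (α := fun _ => Fin n → F) e x : Fin (d + 1) → (Fin n → F))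
      (Fin.snoc (α := fun _ => Fin n → F) f y) := by
  refine ⟨?_, ?_, ?_⟩
  · intro i j
    refine Fin.lastCases ?_ (fun i => ?_) i <;> refine Fin.lastCases ?_ (fun j => ?_) j
    · simp only [Fin.snoc_last]; exact hxy.ee
    · simp only [Fin.snoc_last, Fin.snoc_castSucc]; exact hxe j
    · simp only [Fin.snoc_last, Fin.snoc_castSucc]; exact herm_eq_zero_swap hF (hxe i)
    · simp only [Fin.snoc_castSucc]; exact E.ee i j
  · intro i j
    refine Fin.lastCases ?_ (fun i => ?_) i <;> refine Fin.lastCases ?_ (fun j => ?_) j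
    · simp only [Fin.snoc_last]; exact hxy.ff
    · simp only [Fin.snoc_last, Fin.snoc_castSucc]; exact hyf j
    · simp only [Fin.snoc_last, Fin.snoc_castSucc]; exact herm_eq_zero_swap hF (hyf i)
    · simp only [Fin.snoc_castSucc]; exact E.ff i j
  · intro i j
    refine Fin.lastCases ?_ (fun i => ?_) i <;> refine Fin.lastCases ?_ (fun j => ?_) j
    · simp only [Fin.snoc_last, if_true]; exact hxy.ef
    · simp only [Fin.snoc_last, Fin.snoc_castSucc]
      rw [if_neg (Fin.castSucc_lt_last j).ne', hxf]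
    · simp only [Fin.snoc_last, Fin.snoc_castSucc]
      rw [if_neg (Fin.castSucc_lt_last i).ne, herm_eq_zero_swap hF (hye i)]
    · simp only [Fin.snoc_castSucc, Fin.castSucc_inj]; exact E.ef i j

/-- **Extension of a frame with two pairs to one with three pairs.** -/
theorem exists_third (hF : Fintype.card F = q ^ 2) (hn : 6 ≤ n) {e f : Fin 2 → (Fin n → F)} (E : Frm q e f) :
    ∃ x y, Hyp q x y ∧ (∀ i, hermForm n F q x (e i) = 0) ∧ (∀ i, hermForm n F q y (e i) = 0) ∧
      (∀ i, hermForm n F q x (f i) = 0) ∧ (∀ i, hermForm n F q y (f i) = 0) := by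
  obtain ⟨x, y, hxx, hyy, hxy, hx0, hy0, hx1, hy1⟩ := exists_pair_perp hF hn (u := e 0) (s := e 1)
    (E.hyp 0).ne_zero (E.ee 0 0) (E.ee 1 1) (E.ee 1 0)
  obtain ⟨x', y', h, h1, h2, h3, h4, -⟩ := exists_pair_corr hF E hxx hyy hxy
    (fun i => by fin_cases i <;> assumption) (fun i => by fin_cases i <;> assumption)
  exact ⟨x', y', h, h1, h2, h3, h4⟩

/-- **Isotropic vectors span a space containing a hyperbolic pair.** -/
theorem iso_induction (hF : Fintype.card F = q ^ 2) {W : Submodule F (Fin n → F)} {x y : Fin n → F} (hx : x ∈ W)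
    (hy : y ∈ W) (hxx : hermForm n F q x x = 0) (hyy : hermForm n F q y y = 0) (hxy : hermForm n F q x y = 1)
    {P : (Fin n → F) → Prop} (hadd : ∀ a b, a ∈ W → b ∈ W → P a → P b → P (a + b))
    (hiso : ∀ s ∈ W, hermForm n F q s s = 0 → P s) : ∀ w ∈ W, P w := by
  -- vectors not orthogonal to an isotropic vector `z`
  have key : ∀ z ∈ W, hermForm n F q z z = 0 → ∀ w ∈ W, hermForm n F q z w ≠ 0 → P w := by
    intro z hz hzz w hw hne
    obtain ⟨t, ht⟩ := exists_iso_correct hF hzz hne
    have e1 : w = (w + t • z) + (-(t • z)) := by abel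
    rw [e1]
    refine hadd _ _ (W.add_mem hw (W.smul_mem _ hz)) (W.neg_mem (W.smul_mem _ hz))
      (hiso _ (W.add_mem hw (W.smul_mem _ hz)) ht) (hiso _ (W.neg_mem (W.smul_mem _ hz)) ?_)
    rw [herm_neg_left, herm_neg_right hF, herm_smul_left, herm_smul_right, hzz]; ring
  intro w hw
  by_cases hwx : hermForm n F q x w = 0
  · by_cases hwy : hermForm n F q y w = 0
    · have e1 : w = (w + x) + (-x) := by abel
      rw [e1]
      refine hadd _ _ (W.add_mem hw hx) (W.neg_mem hx) (key y hy hyy _ (W.add_mem hw hx) ?_)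
        (hiso _ (W.neg_mem hx) ?_)
      · rw [herm_add_right hF, hwy, zero_add, herm_swap hF x y, hxy, one_pow]
        exact one_ne_zero
      · rw [herm_neg_left, herm_neg_right hF, hxx]; ring
    · exact key y hy hyy w hw hwy
  · exact key x hx hxx w hw hwx

/-- **Transitivity on frames with two pairs.** -/
theorem exists_map_Frm (hF : Fintype.card F = q ^ 2) (hn : 5 ≤ n) {e f e' f' : Fin 2 → (Fin n → F)} (E : Frm q e f)
    (E' : Frm q e' f') : ∃ g : SU n F q, (∀ i, act g (e i) = e' i) ∧ (∀ i, act g (f i) = f' i) := by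
  obtain ⟨u, v, H⟩ := exists_frame (F := F) (q := q) (n := n) hF (by omega)
  -- bring the first pair to the frame `u, v`
  have key : ∀ {e f : Fin 2 → (Fin n → F)}, Frm q e f → ∃ g : SU n F q, act g (e 0) = u ∧ act g (f 0) = v ∧
      act g (e 1) ∈ coordSub F n (n - 2) ∧ act g (f 1) ∈ coordSub F n (n - 2) := by
    intro e f E
    obtain ⟨g, -, hg, hg'⟩ := sG_map_hyp hF (by omega) le_rfl (mem_coordSub_top (e 0)) (mem_coordSub_top (f 0))
      (mem_coordSub_top u) (mem_coordSub_top v) (E.ee 0 0) (E.ff 0 0) (by rw [E.ef, if_pos rfl]) H.ee H.ff H.ef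
    refine ⟨g, hg, hg', ?_, ?_⟩
    · rw [H.mem, ← hg, ← hg', herm_act, herm_act, E.ee, E.ef]
      exact ⟨rfl, if_neg (by decide)⟩
    · rw [H.mem, ← hg, ← hg', herm_act, herm_act, E.ff, E.fe hF]
      exact ⟨if_neg (by decide), rfl⟩
  obtain ⟨g, h1, h2, h3, h4⟩ := key E
  obtain ⟨g', h1', h2', h3', h4'⟩ := key E'
  obtain ⟨x, hx, hxe, hxf⟩ := sG_map_hyp hF (k := n - 2) (by omega) (by omega) h3 h4 h3' h4'
    (by rw [herm_act, E.ee]) (by rw [herm_act, E.ff]) (by rw [herm_act, E.ef, if_pos rfl])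
    (by rw [herm_act, E'.ee]) (by rw [herm_act, E'.ff]) (by rw [herm_act, E'.ef, if_pos rfl])
  -- `x` fixes `u` and `v`
  have hxfix : ∀ z : Fin n → F, (∀ i : Fin n, i.val < n - 2 → z i = 0) → act x z = z := by
    intro z hz
    have hxg := sG_le_fixGrp hF hx
    rw [pi_eq_sum_univ' z, act_sum]
    refine Finset.sum_congr rfl fun i _ => ?_
    by_cases hi : i.val < n - 2
    · rw [hz i hi, zero_smul, act_zero]
    · rw [act_smul, hxg i (by omega)]
  have hu : ∀ i : Fin n, i.val < n - 2 → u i = 0 := by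
    intro i hi
    have h5 := ((H.mem _).1 (single_mem_coordSub (F := F) hi 1)).1
    rw [herm_single_left, one_mul] at h5
    exact (pow_q_eq_zero hF).1 h5
  have hv : ∀ i : Fin n, i.val < n - 2 → v i = 0 := by
    intro i hi
    have h5 := ((H.mem _).1 (single_mem_coordSub (F := F) hi 1)).2
    rw [herm_single_left, one_mul] at h5
    exact (pow_q_eq_zero hF).1 h5
  refine ⟨g'⁻¹ * x * g, ?_, ?_⟩
  · intro i
    fin_cases i
    · change act (g'⁻¹ * x * g) (e 0) = e' 0
      rw [act_mul, act_mul, h1, hxfix u hu, ← h1', act_inv_act]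
    · change act (g'⁻¹ * x * g) (e 1) = e' 1
      rw [act_mul, act_mul, hxe, act_inv_act]
  · intro i
    fin_cases i
    · change act (g'⁻¹ * x * g) (f 0) = f' 0
      rw [act_mul, act_mul, h2, hxfix v hv, ← h2', act_inv_act]
    · change act (g'⁻¹ * x * g) (f 1) = f' 1
      rw [act_mul, act_mul, hxf, act_inv_act]

/-! ### An element of order three -/

section Two

variable [CharP F 2]

omit [Fintype F] in
theorem one_tr : (1 : F) + 1 ^ q = 0 := by rw [one_pow]; exact CharTwo.add_self_eq_zero 1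

/-- The element `e ↦ f ↦ e + f` at a hyperbolic pair. -/
def rho (hF : Fintype.card F = q ^ 2) {e f : Fin n → F} (H : Hyp q e f) : SU n F q :=
  transv hF e H.ee 1 one_tr * transv hF f H.ff 1 one_tr

theorem act_rho (hF : Fintype.card F = q ^ 2) {e f : Fin n → F} (H : Hyp q e f) (v : Fin n → F) :
    act (rho hF H) v = v + hermForm n F q v f • f + (hermForm n F q v e + hermForm n F q v f) • e := by
  rw [rho, act_mul, act_transv, act_transv, one_mul, one_mul, herm_add_left, herm_smul_left, H.fe hF, mul_one]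

theorem act_rho_e (hF : Fintype.card F = q ^ 2) {e f : Fin n → F} (H : Hyp q e f) : act (rho hF H) e = f := by
  rw [act_rho, H.ef, H.ee, zero_add, one_smul, one_smul, add_right_comm]
  have h1 : e + e = 0 := by
    funext i
    exact CharTwo.add_self_eq_zero (e i)
  rw [h1, zero_add]

theorem act_rho_f (hF : Fintype.card F = q ^ 2) {e f : Fin n → F} (H : Hyp q e f) : act (rho hF H) f = e + f := by
  rw [act_rho, H.ff, H.fe hF, add_zero, zero_smul, add_zero, one_smul, add_comm]

theorem act_rho_of_orth (hF : Fintype.card F = q ^ 2) {e f : Fin n → F} (H : Hyp q e f) {v : Fin n → F}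
    (he : hermForm n F q v e = 0) (hf : hermForm n F q v f = 0) : act (rho hF H) v = v := by
  rw [act_rho, he, hf]; simp

theorem rho_pow_three (hF : Fintype.card F = q ^ 2) {e f : Fin n → F} (H : Hyp q e f) : rho hF H ^ 3 = 1 := by
  have h2 : ∀ x : Fin n → F, x + x = 0 := fun x => funext fun i => CharTwo.add_self_eq_zero (x i)
  have he : act (rho hF H ^ 3) e = e := by
    rw [pow_succ, pow_two, act_mul, act_mul, act_rho_e, act_rho_f, act_add, act_rho_e, act_rho_f, add_comm e f,
      ← add_assoc, h2, zero_add]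
  have hf : act (rho hF H ^ 3) f = f := by
    rw [pow_succ, pow_two, act_mul, act_mul, act_rho_f, act_add, act_rho_e, act_rho_f, add_comm e f, ← add_assoc, h2,
      zero_add, act_rho_e]
  apply ext_act
  intro v
  have h3 : act (rho hF H ^ 3) (prN q e f v) = prN q e f v := by
    rw [pow_succ, pow_two, act_mul, act_mul, act_rho_of_orth hF H (prN_e hF H v) (prN_f H v),
      act_rho_of_orth hF H (prN_e hF H v) (prN_f H v), act_rho_of_orth hF H (prN_e hF H v) (prN_f H v)]
  conv_lhs => rw [eq_prN (q := q) e f v]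
  rw [act_add, act_add, act_smul, act_smul, he, hf, h3, act_one, ← eq_prN]

end Two

end Cfsg.Agent.KFacts.Unit
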