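import Mathlib
import Cfsg.Agent.KFacts.Unit.GLAct
import Cfsg.Agent.OddHalf.D7.Uni.HeisSemi

/-!
# The Heisenberg group of an isotropic vector: instances

`N = NN q e f = ⟨e, f⟩^⊥`, `SS x a` = the Siegel element. `heis`: the structure `Heis` for `RR e ≤ QQ e`; `hasTr`, `lin'`
for `PP q e`; `exists_geo`: a basis of isotropic vectors, any two orthogonal to an independent isotropic vector.
`Heis.map`, `HasTr.map`, `Lin'.map`: transport along an injective homomorphism.
-/

set_option autoImplicit false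

namespace Cfsg.Agent.KFacts.Unit

open Cfsg Cfsg.Agent.LieClassical.HermBasic Cfsg.Agent.LieClassical.HermSiegel
  Cfsg.Agent.LieClassical.HermGen Cfsg.Agent.LieClassical.SUBasic
  Cfsg.Agent.ClassicalGeometry.PSUAutBasic Cfsg.Agent.ClassicalGeometry.PSUAutSylow
  Cfsg.Agent.ClassicalGeometry.PSUAutUnip Cfsg.Agent.ClassicalGeometry.PSUAutPhi
  Cfsg.Agent.OddHalf.D7.Uni.Ex

variable {F : Type*} [Field F]

/-- `⟨e, f⟩^⊥` -/
def NN {n : ℕ} (q : ℕ) (e f : Fin n → F) : Submodule F (Fin n → F) := perp q e ⊓ perp q f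

theorem mem_NN {q n : ℕ} {e f v : Fin n → F} :
    v ∈ NN q e f ↔ hermForm n F q v e = 0 ∧ hermForm n F q v f = 0 := Iff.rfl

/-- The form on `⟨e, f⟩^⊥`. -/
def BB {n : ℕ} (q : ℕ) (e f : Fin n → F) (x y : NN q e f) : F := hermForm n F q (x : Fin n → F) (y : Fin n → F)

variable [Fintype F] {q n : ℕ}

/-- The involution of the field. -/
def sig (hF : Fintype.card F = q ^ 2) : F →+* F := (LieClassical.HermBasic.conj hF : F ≃+* F)

theorem sig_apply (hF : Fintype.card F = q ^ 2) (x : F) : sig hF x = x ^ q := rfl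

open Classical in
/-- The Siegel element of `x ∈ ⟨e, f⟩^⊥`. -/
noncomputable def SS (hF : Fintype.card F = q ^ 2) (e f : Fin n → F) (x : NN q e f) (a : F) : PSU n F q :=
  if h : IsSiegel q e (x : Fin n → F) a then pr n F q (siegel hF e x a h) else 1

theorem SS_eq (hF : Fintype.card F = q ^ 2) {e f : Fin n → F} {x : NN q e f} {a : F}
    (h : IsSiegel q e (x : Fin n → F) a) : SS hF e f x a = pr n F q (siegel hF e x a h) := dif_pos h

variable {e f : Fin n → F}

theorem NN_prN (hF : Fintype.card F = q ^ 2) (H : Hyp q e f) (v : Fin n → F) : prN q e f v ∈ NN q e f :=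
  ⟨prN_e hF H v, prN_f H v⟩

section Two

variable [CharP F 2]

omit [Fintype F] in
theorem char_add {x : F} : x + x = 0 := CharTwo.add_self_eq_zero x

theorem form (hF : Fintype.card F = q ^ 2) (H : Hyp q e f) : Form (sig hF) (BB q e f) where
  two x := CharTwo.add_self_eq_zero x
  σσ x := by rw [sig_apply, sig_apply, pow_q_pow_q hF]
  nt := by
    obtain ⟨x, hx⟩ := exists_not_fixed hF
    exact ⟨x, hx⟩
  add_left x y z := herm_add_left _ _ _
  smul_left c x y := herm_smul_left _ _ _
  symm x y := herm_swap hF _ _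
  nondeg y hy := by
    apply Subtype.ext
    apply herm_nondeg hF
    intro v
    apply herm_eq_zero_swap hF
    conv_lhs => rw [eq_prN (q := q) e f v]
    have h1 : hermForm n F q (prN q e f v) y = 0 := hy ⟨_, NN_prN hF H v⟩
    have h2 := herm_eq_zero_swap hF y.2.1
    have h3 := herm_eq_zero_swap hF y.2.2
    rw [herm_add_left, herm_add_left, herm_smul_left, herm_smul_left, h1, h2, h3]
    ring

theorem isSiegel_of_form (hF : Fintype.card F = q ^ 2) (H : Hyp q e f) {x : NN q e f} {a : F}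
    (h : a + sig hF a = BB q e f x x) : IsSiegel q e (x : Fin n → F) a := by
  refine ⟨H.ee, x.2.1, ?_⟩
  have h1 : a + a ^ q = hermForm n F q (x : Fin n → F) x := h
  rw [h1]
  exact CharTwo.add_self_eq_zero _

theorem form_of_isSiegel (hF : Fintype.card F = q ^ 2) {x : NN q e f} {a : F}
    (h : IsSiegel q e (x : Fin n → F) a) : a + sig hF a = BB q e f x x := by
  have h1 := h.tr
  have h2 : (2 : F) = 0 := CharTwo.two_eq_zero
  change a + a ^ q = hermForm n F q (x : Fin n → F) x
  linear_combination h1 - hermForm n F q (x : Fin n → F) x * h2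

omit [CharP F 2] in
/-- Every Siegel element has its vector in `⟨e, f⟩^⊥`. -/
theorem exists_norm_siegel (hF : Fintype.card F = q ^ 2) (H : Hyp q e f) {w : Fin n → F} {μ : F}
    (h : IsSiegel q e w μ) : ∃ (a : F) (h' : IsSiegel q e (prN q e f w) a),
      siegel hF e w μ h = siegel hF e (prN q e f w) a h' := by
  obtain ⟨c, hc⟩ : ∃ c, c = hermForm n F q w f := ⟨_, rfl⟩
  have h1 : prN q e f w = w - c • e := by rw [prN_def, h.orth, zero_smul, sub_zero, hc]
  have h2 : w = prN q e f w + c • e := by rw [h1]; abel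
  have hn1 : hermForm n F q (prN q e f w) (prN q e f w) = hermForm n F q w w := by
    rw [h1, herm_sub_left, herm_sub_right hF, herm_sub_right hF, herm_smul_left, herm_smul_left, herm_smul_right,
      herm_smul_right, h.orth, h.orth' hF, h.iso]
    ring
  have h' : IsSiegel q e (prN q e f w) (μ + (c - c ^ q)) := by
    refine ⟨h.iso, prN_e hF H w, ?_⟩
    rw [hn1, add_pow_q hF, sub_pow_q hF, pow_q_pow_q hF]
    linear_combination h.tr
  refine ⟨μ + (c - c ^ q), h', ?_⟩
  apply ext_act
  intro v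
  rw [act_siegel, act_siegel]
  have h3 : hermForm n F q v w = hermForm n F q v (prN q e f w) + c ^ q * hermForm n F q v e := by
    conv_lhs => rw [h2]
    rw [herm_add_right hF, herm_smul_right]
  rw [h3]
  conv_lhs => rw [h2]
  have h4 : prN q e f (prN q e f w + c • e) = prN q e f w := by rw [← h2]
  simp only [h4]
  module

/-- **The Heisenberg structure of `QQ e`.** -/
theorem heis (hF : Fintype.card F = q ^ 2) (hn : 3 ≤ n) (H : Hyp q e f) :
    Heis (sig hF) (BB q e f) (RR hF e H.ee) (QQ hF e H.ee) (SS hF e f) where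
  toForm := form hF H
  mul x a y b ha hb := by
    have hx := isSiegel_of_form hF H ha
    have hy := isSiegel_of_form hF H hb
    have h1 := hx.mul hF hy
    have h2 : IsSiegel q e ((x + y : NN q e f) : Fin n → F) (a + b + BB q e f y x) := by
      have h3 : a + b - hermForm n F q (y : Fin n → F) x = a + b + BB q e f y x := by
        rw [CharTwo.sub_eq_add]; rfl
      rw [← h3]
      exact h1
    rw [SS_eq hF hx, SS_eq hF hy, SS_eq hF h2, ← map_mul, siegel_mul hF hx hy]
    congr 1
    exact siegel_congr hF _ _ rfl rfl (by rw [CharTwo.sub_eq_add]; rfl)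
  inj x a ha h := by
    have hx := isSiegel_of_form hF H ha
    rw [SS_eq hF hx] at h
    have h0 : IsSiegel q e 0 (0 : F) := ⟨H.ee, herm_zero_left _, by
      rw [zero_pow_q hF, herm_zero_left, add_zero, add_zero]⟩
    have h1 : pr n F q (siegel hF e (x : Fin n → F) a hx) = pr n F q (siegel hF e 0 0 h0) := by
      rw [h, siegel_zero, map_one]
    have h2 := siegel_pr_inj hF hn _ _ h1
    have h3 := congrArg (fun g => act g f) h2
    simp only [act_siegel] at h3
    rw [H.fe hF, herm_zero_right hF, herm_eq_zero_swap hF x.2.2, one_smul, mul_one, sub_zero, smul_zero, zero_mul,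
      sub_zero, zero_smul, add_zero, add_zero, add_assoc, add_eq_left] at h3
    have h4 : a = 0 := by
      have h5 := congrArg (fun v => hermForm n F q v f) h3
      have h6 : hermForm n F q (x : Fin n → F) f = 0 := x.2.2
      simp only [herm_add_left, herm_smul_left, h6, H.ef, mul_one, zero_add, herm_zero_left] at h5
      exact h5
    rw [h4, zero_smul, add_zero] at h3
    exact ⟨Subtype.ext h3, h4⟩
  memQ g := by
    constructor
    · intro hg
      obtain ⟨w, μ, hs, rfl⟩ := mem_QQ.1 hg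
      obtain ⟨a, h', he⟩ := exists_norm_siegel hF H hs
      refine ⟨⟨prN q e f w, NN_prN hF H w⟩, a, form_of_isSiegel hF h', ?_⟩
      rw [SS_eq hF h', he]
    · rintro ⟨x, a, ha, rfl⟩
      have hx := isSiegel_of_form hF H ha
      rw [SS_eq hF hx]
      exact mem_QQ.2 ⟨x, a, hx, rfl⟩
  memX g := by
    have h0 : ∀ {a : F}, a + a ^ q = 0 → IsSiegel q e ((0 : NN q e f) : Fin n → F) a := fun {a} ha =>
      ⟨H.ee, herm_zero_left _, by
        change a + a ^ q + hermForm n F q (0 : Fin n → F) 0 = 0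
        rw [ha, herm_zero_left, add_zero]⟩
    constructor
    · intro hg
      obtain ⟨μ, hμ, rfl⟩ := mem_RR.1 hg
      refine ⟨μ, fixed_of_tr hμ, ?_⟩
      rw [SS_eq hF (h0 hμ)]
      rfl
    · rintro ⟨a, ha, rfl⟩
      have ha' : a + a ^ q = 0 := by
        rw [show a ^ q = a from ha]; exact CharTwo.add_self_eq_zero a
      rw [SS_eq hF (h0 ha')]
      exact mem_RR.2 ⟨a, ha', rfl⟩

/-- Conjugation of a Siegel element by an element of `SU` fixing `e`. -/
theorem conj_SS (hF : Fintype.card F = q ^ 2) (H : Hyp q e f) {g : SU n F q} (hg : act g e = e) {x : NN q e f} {a : F}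
    (ha : a + sig hF a = BB q e f x x) : ∃ a', a' + sig hF a' =
        BB q e f ⟨prN q e f (act g x), NN_prN hF H _⟩ ⟨prN q e f (act g x), NN_prN hF H _⟩ ∧
      pr n F q g * SS hF e f x a * (pr n F q g)⁻¹ = SS hF e f ⟨prN q e f (act g x), NN_prN hF H _⟩ a' := by
  have hx := isSiegel_of_form hF H ha
  have h1 := hx.map g
  rw [hg] at h1
  obtain ⟨a', h', he⟩ := exists_norm_siegel hF H h1
  refine ⟨a', form_of_isSiegel hF h', ?_⟩
  rw [SS_eq hF hx, SS_eq hF h', ← he, ← map_inv, ← map_mul, ← map_mul, conj_siegel]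
  congr 1
  exact siegel_congr hF _ _ hg rfl rfl

/-- `PP` contains the transvections of `⟨e, f⟩^⊥`. -/
theorem hasTr (hF : Fintype.card F = q ^ 2) (H : Hyp q e f) : HasTr (sig hF) (BB q e f) (PP q e) (SS hF e f) := by
  intro s hs
  have hs' : hermForm n F q (s : Fin n → F) s = 0 := hs
  have he : act (transv hF (s : Fin n → F) hs' 1 one_tr) e = e := by
    rw [act_transv, herm_eq_zero_swap hF s.2.1, mul_zero, zero_smul, add_zero]
  refine ⟨pr n F q (transv hF (s : Fin n → F) hs' 1 one_tr), mem_PP.2 ⟨_, he, rfl⟩, ?_⟩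
  intro x a ha
  have hx := isSiegel_of_form hF H ha
  have h1 := hx.map (transv hF (s : Fin n → F) hs' 1 one_tr)
  have h2 : act (transv hF (s : Fin n → F) hs' 1 one_tr) x = ((x + BB q e f x s • s : NN q e f) : Fin n → F) := by
    rw [act_transv, one_mul]; rfl
  have h3 : IsSiegel q e ((x + BB q e f x s • s : NN q e f) : Fin n → F) a := by
    rw [he, h2] at h1; exact h1
  rw [SS_eq hF hx, SS_eq hF h3, ← map_inv, ← map_mul, ← map_mul, conj_siegel]
  congr 1
  exact siegel_congr hF _ _ he h2 rfl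

/-- `PP` acts on `⟨e, f⟩^⊥` by linear isometries. -/
theorem lin' (hF : Fintype.card F = q ^ 2) (H : Hyp q e f) : Lin' (sig hF) (BB q e f) (PP q e) (SS hF e f) := by
  intro p hp
  obtain ⟨g, hg, rfl⟩ := mem_PP.1 hp
  refine ⟨fun x => ⟨prN q e f (act g x), NN_prN hF H _⟩, ⟨?_, ?_, ?_⟩, fun x a ha => conj_SS hF H hg ha⟩
  · intro x y
    apply Subtype.ext
    change prN q e f (act g ((x : Fin n → F) + y)) = _
    rw [act_add, prN_add]
    rfl
  · intro c x
    apply Subtype.ext
    change prN q e f (act g (c • (x : Fin n → F))) = _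
    rw [act_smul, prN_smul]
    rfl
  · intro x y
    change hermForm n F q (prN q e f (act g x)) (prN q e f (act g y)) = hermForm n F q (x : Fin n → F) y
    have h1 : ∀ z : NN q e f, hermForm n F q (act g z) e = 0 := fun z => by
      rw [← z.2.1, ← herm_act g (z : Fin n → F) e, hg]
    have h2 : ∀ z : NN q e f, prN q e f (act g z) = act g z - hermForm n F q (act g z) f • e := fun z => by
      rw [prN_def, h1, zero_smul, sub_zero]
    rw [h2, h2, herm_sub_left, herm_sub_right hF, herm_sub_right hF, herm_smul_left, herm_smul_left, herm_smul_right,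
      herm_smul_right, h1, herm_eq_zero_swap hF (h1 y), H.ee, herm_act]
    ring

end Two

/-! ### A basis of isotropic vectors -/

omit [Fintype F] in
theorem ind_of_herm {e f : Fin n → F} {x z : NN q e f} {y : Fin n → F} (hx : x ≠ 0)
    (hxy : hermForm n F q (x : Fin n → F) y = 0) (hzy : hermForm n F q (z : Fin n → F) y ≠ 0) : Ind F x z := by
  intro c d h
  have h1 := congrArg (fun v : NN q e f => hermForm n F q (v : Fin n → F) y) h
  simp only [Submodule.coe_add, Submodule.coe_smul, Submodule.coe_zero, herm_add_left, herm_smul_left,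
    herm_zero_left, hxy, mul_zero, zero_add] at h1
  have hd : d = 0 := (mul_eq_zero.1 h1).resolve_right hzy
  rw [hd, zero_smul, add_zero] at h
  exact ⟨(smul_eq_zero.1 h).resolve_right hx, hd⟩

/-- A partner in `⟨e, f⟩^⊥`. -/
theorem exists_partner_NN (hF : Fintype.card F = q ^ 2) (H : Hyp q e f) {x : Fin n → F} (hx : x ∈ NN q e f)
    (hx0 : x ≠ 0) (hxx : hermForm n F q x x = 0) : ∃ y ∈ NN q e f, Hyp q x y := by
  obtain ⟨y0, hyy, hxy, -⟩ := exists_partner hF hx0 hxx
  have h1 : hermForm n F q x (prN q e f y0) = 1 := by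
    rw [prN_def, herm_sub_right hF, herm_sub_right hF, herm_smul_right, herm_smul_right, hx.1, hx.2, hxy]
    ring
  obtain ⟨c, hc⟩ := exists_iso_correct hF hxx (x := prN q e f y0) (by rw [h1]; exact one_ne_zero)
  refine ⟨prN q e f y0 + c • x, add_mem (NN_prN hF H y0) (Submodule.smul_mem _ _ hx), hxx, hc, ?_⟩
  rw [herm_add_right hF, herm_smul_right, hxx, h1, mul_zero, add_zero]

omit [Fintype F] in
theorem frm_pair (H : Hyp q e f) : Frm q (fun _ : Fin 1 => e) (fun _ => f) :=
  ⟨fun _ _ => H.ee, fun _ _ => H.ff, fun i j => by rw [if_pos (Subsingleton.elim i j)]; exact H.ef⟩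

/-- An isotropic vector of `⟨e, f⟩^⊥` orthogonal to `x`, `y` and independent of each. -/
theorem exists_com (hF : Fintype.card F = q ^ 2) (hn : 6 ≤ n) (H : Hyp q e f) {x y : NN q e f} (hx0 : x ≠ 0)
    (hy0 : y ≠ 0) (hxx : BB q e f x x = 0) (hyy : BB q e f y y = 0) :
    ∃ z, BB q e f z z = 0 ∧ BB q e f x z = 0 ∧ BB q e f y z = 0 ∧ Ind F x z ∧ Ind F y z := by
  have hxx' : hermForm n F q (x : Fin n → F) x = 0 := hxx
  have hyy' : hermForm n F q (y : Fin n → F) y = 0 := hyy
  have hx0' : (x : Fin n → F) ≠ 0 := fun h => hx0 (Subtype.ext h)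
  have hy0' : (y : Fin n → F) ≠ 0 := fun h => hy0 (Subtype.ext h)
  -- a vector orthogonal to a hyperbolic pair of `⟨e, f⟩^⊥`
  have key : ∀ x' ∈ NN q e f, ∀ y' ∈ NN q e f, Hyp q x' y' → ∃ z ∈ NN q e f, ∃ w, hermForm n F q z z = 0 ∧
      hermForm n F q z x' = 0 ∧ hermForm n F q z y' = 0 ∧ hermForm n F q z w ≠ 0 ∧ hermForm n F q x' w = 0 ∧
      hermForm n F q y' w = 0 := by
    intro x' hx' y' hy' H'
    have E := (frm_pair H).snoc hF H' (fun _ => hx'.1) (fun _ => hy'.1) (fun _ => hx'.2) (fun _ => hy'.2)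
    obtain ⟨z, w, Hz, h1, h2, h3, h4⟩ := exists_third hF hn E
    have a1 : hermForm n F q z e = 0 := h1 0
    have a2 : hermForm n F q z x' = 0 := h1 1
    have a3 : hermForm n F q z f = 0 := h3 0
    have a4 : hermForm n F q z y' = 0 := h3 1
    have a5 : hermForm n F q w x' = 0 := h2 1
    have a6 : hermForm n F q w y' = 0 := h4 1
    refine ⟨z, ⟨a1, a3⟩, w, Hz.ee, a2, a4, ?_, herm_eq_zero_swap hF a5, herm_eq_zero_swap hF a6⟩
    rw [Hz.ef]; exact one_ne_zero
  by_cases hxy : hermForm n F q (x : Fin n → F) y = 0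
  · by_cases hind : Ind F x y
    · refine ⟨x + y, ?_, ?_, ?_, ?_, ?_⟩
      · change hermForm n F q ((x : Fin n → F) + y) ((x : Fin n → F) + y) = 0
        rw [herm_add_left, herm_add_right hF, herm_add_right hF, hxx', hyy', hxy, herm_eq_zero_swap hF hxy]
        ring
      · change hermForm n F q (x : Fin n → F) ((x : Fin n → F) + y) = 0
        rw [herm_add_right hF, hxx', hxy, add_zero]
      · change hermForm n F q (y : Fin n → F) ((x : Fin n → F) + y) = 0
        rw [herm_add_right hF, hyy', herm_eq_zero_swap hF hxy, add_zero]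
      · intro c d h
        obtain ⟨h1, h2⟩ := hind (c + d) d (by rw [← h]; module)
        rw [h2, add_zero] at h1
        exact ⟨h1, h2⟩
      · intro c d h
        obtain ⟨h1, h2⟩ := hind d (c + d) (by rw [← h]; module)
        rw [h1, add_zero] at h2
        exact ⟨h2, h1⟩
    · -- dependent
      obtain ⟨c, hc0, hc⟩ : ∃ c : F, c ≠ 0 ∧ y = c • x := by
        rw [Cfsg.Agent.OddHalf.D7.Uni.Ex.Ind] at hind
        push Not at hind
        obtain ⟨c, d, hcd, hne⟩ := hind
        have hd : d ≠ 0 := by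
          rintro rfl
          rw [zero_smul, add_zero] at hcd
          exact hne ((smul_eq_zero.1 hcd).resolve_right hx0) rfl
        have h1 : y = (-(d⁻¹ * c)) • x := by
          have h7 : d • y = -(c • x) := by rw [← sub_eq_zero, sub_neg_eq_add, add_comm]; exact hcd
          calc y = d⁻¹ • d • y := by rw [smul_smul, inv_mul_cancel₀ hd, one_smul]
            _ = _ := by rw [h7]; module
        refine ⟨_, ?_, h1⟩
        intro h2
        rw [h2, zero_smul] at h1
        exact hy0 h1
      obtain ⟨y', hy', H'⟩ := exists_partner_NN hF H x.2 hx0' hxx'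
      obtain ⟨z, hz, w, h1, h2, h3, h4, h5, h6⟩ := key x x.2 y' hy' H'
      have h7 : hermForm n F q (y : Fin n → F) w = 0 := by
        rw [hc, Submodule.coe_smul, herm_smul_left, h5, mul_zero]
      refine ⟨⟨z, hz⟩, h1, herm_eq_zero_swap hF h2, ?_, ind_of_herm hx0 h5 h4, ind_of_herm hy0 h7 h4⟩
      change hermForm n F q (y : Fin n → F) z = 0
      rw [hc, Submodule.coe_smul, herm_smul_left, herm_eq_zero_swap hF h2, mul_zero]
  · -- hyperbolic
    obtain ⟨a, ha⟩ : ∃ a, a = hermForm n F q (x : Fin n → F) y := ⟨_, rfl⟩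
    rw [← ha] at hxy
    have ha' : a ^ q ≠ 0 := by rw [Ne, pow_q_eq_zero hF]; exact hxy
    obtain ⟨c, hc⟩ : ∃ c : F, c ^ q = a⁻¹ := ⟨(a⁻¹) ^ q, pow_q_pow_q hF _⟩
    have hc0 : c ≠ 0 := by
      rintro rfl
      rw [zero_pow_q hF] at hc
      exact inv_ne_zero hxy hc.symm
    have H' : Hyp q (x : Fin n → F) (c • (y : Fin n → F)) := by
      refine ⟨hxx', ?_, ?_⟩
      · rw [herm_smul_left, herm_smul_right, hyy']; ring
      · rw [herm_smul_right, ← ha, hc, inv_mul_cancel₀ hxy]
    obtain ⟨z, hz, w, h1, h2, h3, h4, h5, h6⟩ := key x x.2 _ (Submodule.smul_mem _ c y.2) H'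
    have h7 : hermForm n F q (y : Fin n → F) w = 0 := by
      rw [herm_smul_left] at h6
      exact (mul_eq_zero.1 h6).resolve_left hc0
    refine ⟨⟨z, hz⟩, h1, herm_eq_zero_swap hF h2, ?_, ind_of_herm hx0 h5 h4, ind_of_herm hy0 h7 h4⟩
    apply herm_eq_zero_swap hF
    rw [herm_smul_right] at h3
    exact (mul_eq_zero.1 h3).resolve_left (fun h8 => hc0 ((pow_q_eq_zero hF).1 h8))

/-- `⟨e, f⟩^⊥` contains a hyperbolic pair. -/
theorem exists_pair_NN (hF : Fintype.card F = q ^ 2) (hn : 6 ≤ n) (H : Hyp q e f) :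
    ∃ x ∈ NN q e f, ∃ y ∈ NN q e f, Hyp q x y := by
  obtain ⟨x, y, hxx, hyy, hxy, hxe, hye, -, -⟩ := exists_pair_perp hF hn (u := e) (s := e) H.ne_zero H.ee H.ee H.ee
  obtain ⟨x', y', H', h1, h2, h3, h4, -⟩ := exists_pair_corr hF (frm_pair H) hxx hyy hxy (fun _ => hxe) (fun _ => hye)
  exact ⟨x', ⟨h1 0, h3 0⟩, y', ⟨h2 0, h4 0⟩, H'⟩

/-- **A basis of isotropic vectors.** -/
theorem exists_geo (hF : Fintype.card F = q ^ 2) (hn : 6 ≤ n) (H : Hyp q e f) :
    ∃ (ι : Type) (_ : Fintype ι) (_ : Nonempty ι) (b : Module.Basis ι F (NN q e f)), Geo (BB q e f) b := by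
  obtain ⟨x, hx, y, hy, H'⟩ := exists_pair_NN hF hn H
  have hspan : (⊤ : Submodule F (NN q e f)) ≤ Submodule.span F {s | BB q e f s s = 0} := by
    intro w _
    have h1 : ∀ v ∈ NN q e f, ∀ hv : v ∈ NN q e f,
        (⟨v, hv⟩ : NN q e f) ∈ Submodule.span F {s | BB q e f s s = 0} := by
      refine iso_induction hF (W := NN q e f) (x := x) (y := y) hx hy H'.ee H'.ff H'.ef
        (P := fun v => ∀ hv : v ∈ NN q e f, (⟨v, hv⟩ : NN q e f) ∈ Submodule.span F {s | BB q e f s s = 0}) ?_ ?_
      · intro a b ha hb h1 h2 hab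
        have : (⟨a + b, hab⟩ : NN q e f) = ⟨a, ha⟩ + ⟨b, hb⟩ := rfl
        rw [this]
        exact add_mem (h1 ha) (h2 hb)
      · intro s hs hss hs'
        exact Submodule.subset_span hss
    exact h1 w w.2 w.2
  let b := Module.Basis.ofSpan hspan
  have hfin : Finite (NN q e f) := inferInstance
  have : Module.Finite F (NN q e f) := inferInstance
  have hfi := Module.Finite.finite_basis b
  let m := Nat.card ((linearIndepOn_empty F (id : NN q e f → NN q e f)).extend (Set.empty_subset
    {s : NN q e f | BB q e f s s = 0}))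
  let b' := b.reindex (Finite.equivFin _)
  have hiso : ∀ i, BB q e f (b' i) (b' i) = 0 := by
    intro i
    have h1 : b' i ∈ Set.range b := by
      rw [Module.Basis.reindex_apply]
      exact Set.mem_range_self _
    exact Module.Basis.ofSpan_subset hspan h1
  have hne : Nonempty (Fin m) := by
    by_contra hcon
    rw [not_nonempty_iff] at hcon
    have h1 : (⟨x, hx⟩ : NN q e f) = 0 := by
      rw [← b'.sum_repr ⟨x, hx⟩]
      exact Finset.sum_of_isEmpty _
    exact H'.ne_zero (congrArg Subtype.val h1)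
  exact ⟨Fin m, inferInstance, hne, b', hiso, fun i j =>
    exists_com hF hn H (b'.ne_zero i) (b'.ne_zero j) (hiso i) (hiso j)⟩

/-! ### Transport -/

section Map

variable {K G : Type*} [Group K] [Group G] {E : Type*} [Field E] {N : Type*} [AddCommGroup N] [Module E N]
  {σ : E →+* E} {B : N → N → E} {X Q P : Subgroup K} {S : N → E → K}

theorem heis_map (j : K →* G) (hj : Function.Injective j) (h : Heis σ B X Q S) :
    Heis σ B (X.map j) (Q.map j) (fun x a => j (S x a)) where
  toForm := h.toForm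
  mul x a y b ha hb := by rw [← map_mul, h.mul x a y b ha hb]
  inj x a ha h1 := h.inj x a ha (hj (by rw [h1, map_one]))
  memQ g := by
    constructor
    · rintro ⟨k, hk, rfl⟩
      obtain ⟨x, a, ha, rfl⟩ := (h.memQ k).1 hk
      exact ⟨x, a, ha, rfl⟩
    · rintro ⟨x, a, ha, rfl⟩
      exact ⟨_, (h.memQ _).2 ⟨x, a, ha, rfl⟩, rfl⟩
  memX g := by
    constructor
    · rintro ⟨k, hk, rfl⟩
      obtain ⟨a, ha, rfl⟩ := (h.memX k).1 hk
      exact ⟨a, ha, rfl⟩
    · rintro ⟨a, ha, rfl⟩
      exact ⟨_, (h.memX _).2 ⟨a, ha, rfl⟩, rfl⟩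

theorem hasTr_map (j : K →* G) (h : HasTr σ B P S) : HasTr σ B (P.map j) (fun x a => j (S x a)) := by
  intro e he
  obtain ⟨p, hp, h1⟩ := h e he
  refine ⟨j p, ⟨p, hp, rfl⟩, fun x a ha => ?_⟩
  rw [← map_inv, ← map_mul, ← map_mul, h1 x a ha]

theorem lin'_map (j : K →* G) (h : Lin' σ B P S) : Lin' σ B (P.map j) (fun x a => j (S x a)) := by
  rintro _ ⟨p, hp, rfl⟩
  obtain ⟨g, hg, h1⟩ := h p hp
  refine ⟨g, hg, fun x a ha => ?_⟩
  obtain ⟨a', ha', h2⟩ := h1 x a ha
  exact ⟨a', ha', by rw [← map_inv, ← map_mul, ← map_mul, h2]⟩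

end Map

end Cfsg.Agent.KFacts.Unit
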