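import Mathlib
import Cfsg.Agent.KFacts.Unit.Torus
import Cfsg.Agent.OddHalf.D7Out.FrGen

/-!
# The facts `FrGen.KF` for `PSU n F q`, `q` even, `n ≥ 6`

`exists_kf`: every Sylow 2-subgroup `U` of `PSU n F q` lies in `PP u` and contains `QQ u` for an isotropic vector `u`;
`RR u` is the group `Z` of `FrGen.KF`.
-/

set_option autoImplicit false

namespace Cfsg.Agent.KFacts.Unit.KF

open scoped commutatorElement

open Cfsg Cfsg.Agent.LieClassical.HermBasic Cfsg.Agent.LieClassical.HermSiegel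
  Cfsg.Agent.LieClassical.HermGen Cfsg.Agent.LieClassical.SUBasic Matrix
  Cfsg.Agent.ClassicalGeometry.PSUAutBasic Cfsg.Agent.ClassicalGeometry.PSUAutSylow
  Cfsg.Agent.ClassicalGeometry.PSUAutUnip Cfsg.Agent.ClassicalGeometry.PSUAutPhi

variable {F : Type*} [Field F] [Fintype F] {q n : ℕ}

/-- The transvection group is elementary abelian. -/
theorem RR_sq [CharP F 2] (hF : Fintype.card F = q ^ 2) {u : Fin n → F} (hu : hermForm n F q u u = 0)
    {x : PSU n F q} (hx : x ∈ RR hF u hu) : x * x = 1 := by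
  obtain ⟨μ, hμ, rfl⟩ := mem_RR.1 hx
  rw [← map_mul]
  have h1 : transv hF u hu μ hμ * transv hF u hu μ hμ = 1 := by
    apply ext_act
    intro v
    rw [act_mul, act_transv, act_transv, act_one, herm_add_left, herm_smul_left, hu, mul_zero, add_zero, add_assoc,
      ← add_smul, CharTwo.add_self_eq_zero, zero_smul, add_zero]
  rw [h1, map_one]

theorem RR_ne_bot (hF : Fintype.card F = q ^ 2) (hn : 3 ≤ n) {u : Fin n → F} (hu0 : u ≠ 0)
    (hu : hermForm n F q u u = 0) : RR hF u hu ≠ ⊥ := by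
  obtain ⟨μ, hμ0, hμ⟩ := exists_trace_zero_ne hF
  intro h0
  have h1 : pr n F q (transv hF u hu μ hμ) ∈ RR hF u hu := mem_RR.2 ⟨μ, hμ, rfl⟩
  rw [h0, Subgroup.mem_bot] at h1
  have h00 : (0 : F) + 0 ^ q = 0 := by
    have := two_le hF
    rw [zero_add, zero_pow (by omega)]
  have h2 : pr n F q (transv hF u hu μ hμ) = pr n F q (transv hF u hu 0 h00) := by
    rw [h1]
    symm
    have : transv hF u hu 0 h00 = 1 := by
      apply ext_act
      intro v
      rw [act_transv, act_one, zero_mul, zero_smul, add_zero]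
    rw [this, map_one]
  have h3 := siegel_pr_inj hF hn _ _ h2
  obtain ⟨f, hff, huf, hfu⟩ := exists_partner hF hu0 hu
  have h4 := congrArg (fun g => act g f) h3
  change act (transv hF u hu μ hμ) f = act (transv hF u hu 0 h00) f at h4
  rw [act_transv, act_transv, hfu, mul_one, zero_mul, zero_smul, add_zero, add_eq_left] at h4
  rcases smul_eq_zero.1 h4 with h5 | h5
  · exact hμ0 h5
  · exact hu0 h5

theorem exists_kf [CharP F 2] (hF : Fintype.card F = q ^ 2) (hn : 6 ≤ n) (U : Sylow 2 (PSU n F q)) :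
    ∃ (u : Fin n → F) (_ : u ≠ 0) (hu : hermForm n F q u u = 0),
      QQ hF u hu ≤ (U : Subgroup (PSU n F q)) ∧ (U : Subgroup (PSU n F q)) ≤ PP q u ∧
      Cfsg.Agent.OddHalf.D7Out.FrGen.KF (U : Subgroup (PSU n F q)) (RR hF u hu) := by
  have : Fact (Nat.Prime 2) := ⟨Nat.prime_two⟩
  obtain ⟨S, hS⟩ := exists_sylow_lift (F := F) (q := q) (n := n) 2 U
  obtain ⟨u, hu0, hu, hfix⟩ := exists_fixed 2 hF (by omega) S.isPGroup'
  have hQS := siegG_le_sylow 2 hF S hu hfix
  have hQU : QQ hF u hu ≤ (U : Subgroup (PSU n F q)) := by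
    rw [← hS]; exact Subgroup.map_mono hQS
  have hUP : (U : Subgroup (PSU n F q)) ≤ PP q u := by
    rw [← hS]; exact Subgroup.map_mono (fun g hg => hfix g hg)
  obtain ⟨f, H⟩ := exists_hyp hF hu0 hu
  refine ⟨u, hu0, hu, hQU, hUP, ?_⟩
  exact
    { pU := U.isPGroup'
      maxU := fun P hP hle => (U.is_maximal' hP hle).le
      ZU := (RR_le_QQ hF hu).trans hQU
      Zc := fun z hz x hx => PP_comm_RR hF hu (hUP hx) hz
      Zsq := fun z hz => RR_sq hF hu hz
      Z1 := RR_ne_bot hF (by omega) hu0 hu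
      aut := by
        intro α _ hα
        obtain ⟨z, hz, hz1⟩ := autCent_point hF (by omega) hu0 hu α (fun x hx => hα x (hQU hx))
        exact ⟨z, hz, fun x => by rw [hz1, MulAut.conj_apply]⟩
      trans := by
        intro z hz z' hz' h1 h1'
        obtain ⟨k, -, hk⟩ := HH_trans hF H hz hz' h1 h1'
        exact ⟨k, hk⟩
      P2' := fun z hz => ⟨PP q u, PP_perfect hF hn hu0 hu, QQ_le_PP hF hu (RR_le_QQ hF hu hz),
          fun y hy => PP_comm_RR hF hu hy hz⟩ }

end Cfsg.Agent.KFacts.Unit.KF
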