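import Mathlib
import Cfsg.Agent.KFacts.Unit.LineGL

/-!
# The field part of an automorphism of `PSU n F q`

`exists_fieldHom`: the homomorphism `φ : MulAut (PSU n F q) →* (F ≃+* F)`, `φ (toAut A ρ) = ρ`; it is trivial on inner
automorphisms, and an element of its kernel some power of which with exponent prime to `q + 1` is inner, is inner.
`zz_ct`: `|F| = 4`: an automorphism of odd order modulo inner ones that permutes the transvections of a totally isotropic
line acts linearly on them.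
-/

set_option autoImplicit false

namespace Cfsg.Agent.KFacts.Unit

open Cfsg Cfsg.Agent.LieClassical.HermBasic Cfsg.Agent.LieClassical.HermSiegel
  Cfsg.Agent.LieClassical.HermGen Cfsg.Agent.LieClassical.SUBasic Matrix
  Cfsg.Agent.ClassicalGeometry.PSUAutBasic Cfsg.Agent.ClassicalGeometry.PSUAutSylow
  Cfsg.Agent.ClassicalGeometry.PSUAutUnip Cfsg.Agent.ClassicalGeometry.PSUAutPhi
  Cfsg.Agent.ClassicalGeometry.PSUAutExt

open Cfsg.Agent.ClassicalGeometry.PSUAutCount (gm semiConj toAut herm_gm act_semiConj herm_semi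
  gm_inv_mulVec gm_mulVec_inv)

variable {F : Type*} [Field F] [Fintype F] {q n : ℕ}

/-- A semi-isometry is given by an element of `GU`. -/
theorem exists_GU_of_semi (hF : Fintype.card F = q ^ 2) (ρ : F ≃+* F) {T : (Fin n → F) → (Fin n → F)}
    (hadd : ∀ v w, T (v + w) = T v + T w) (hsmul : ∀ (c : F) v, T (c • v) = ρ c • T v)
    (hherm : ∀ v w, hermForm n F q (T v) (T w) = ρ (hermForm n F q v w)) :
    ∃ A : GU n F q, ∀ v, sg A ρ v = T v := by
  let L : (Fin n → F) →ₗ[F] (Fin n → F) :=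
    { toFun := fun x => T (fun i => ρ.symm (x i))
      map_add' := fun x y => by
        rw [← hadd]
        congr 1
        funext i
        exact map_add _ _ _
      map_smul' := fun c x => by
        have h1 : (fun i => ρ.symm ((c • x) i)) = ρ.symm c • fun i => ρ.symm (x i) := by
          funext i
          simp
        rw [h1, hsmul, RingEquiv.apply_symm_apply, RingHom.id_apply] }
  obtain ⟨A0, hA0, hAm⟩ := Cfsg.Agent.ClassicalGeometry.HermOrtho.exists_GU_of_isometry
    (M := LinearMap.toMatrix' L) hF (fun u v => by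
    rw [LinearMap.toMatrix'_mulVec, LinearMap.toMatrix'_mulVec]
    change hermForm n F q (T _) (T _) = _
    rw [hherm]
    have h1 := Cfsg.Agent.ClassicalGeometry.PSUAutCount.herm_map (q := q) ρ (fun i => ρ.symm (u i))
      (fun i => ρ.symm (v i))
    simp only [RingEquiv.apply_symm_apply] at h1
    exact h1.symm)
  refine ⟨⟨A0, hA0⟩, fun v => ?_⟩
  have h1 : gm (⟨A0, hA0⟩ : GU n F q) = LinearMap.toMatrix' L := hAm
  rw [sg, h1, LinearMap.toMatrix'_mulVec]
  change T (fun i => ρ.symm (ρ (v i))) = T v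
  simp only [RingEquiv.symm_apply_apply]

omit [Fintype F] in
theorem act_semiConj' (A : GU n F q) (ρ : F ≃+* F) (g : SU n F q) (v : Fin n → F) :
    act (semiConj A ρ g) (sg A ρ v) = sg A ρ (act g v) := act_semiConj A ρ g v

/-- Products of the automorphisms `toAut`. -/
theorem exists_toAut_mul (hF : Fintype.card F = q ^ 2) (A A' : GU n F q) (ρ ρ' : F ≃+* F) :
    ∃ B : GU n F q, (∀ v, sg B (ρ * ρ') v = sg A ρ (sg A' ρ' v)) ∧ toAut A ρ * toAut A' ρ' = toAut B (ρ * ρ') := by
  obtain ⟨B, hB⟩ := exists_GU_of_semi hF (ρ * ρ') (T := fun v => sg A ρ (sg A' ρ' v))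
    (fun v w => by simp only [sg_add]) (fun c v => by simp only [sg_smul]; rfl)
    (fun v w => by rw [herm_sg, herm_sg]; rfl)
  refine ⟨B, hB, ?_⟩
  ext x
  obtain ⟨g, rfl⟩ := pr_surjective x
  rw [MulAut.mul_apply, Cfsg.Agent.ClassicalGeometry.PSUAutMain.toAut_pr',
    Cfsg.Agent.ClassicalGeometry.PSUAutMain.toAut_pr', Cfsg.Agent.ClassicalGeometry.PSUAutMain.toAut_pr']
  congr 1
  apply ext_act
  intro z
  obtain ⟨y, rfl⟩ := exists_sg B (ρ * ρ') z
  rw [act_semiConj', hB, hB, act_semiConj', act_semiConj']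

/-- Inner automorphisms. -/
theorem exists_toAut_conj (hF : Fintype.card F = q ^ 2) (s : SU n F q) :
    ∃ A : GU n F q, (∀ v, sg A 1 v = act s v) ∧ MulAut.conj (pr n F q s) = toAut A 1 := by
  obtain ⟨A, hA⟩ := exists_GU_of_semi hF (1 : F ≃+* F) (T := fun v => act s v) (fun v w => act_add s v w)
    (fun c v => act_smul s c v) (fun v w => herm_act s v w)
  refine ⟨A, hA, ?_⟩
  symm
  exact toAut_eq_conj A one_ne_zero (fun v => by rw [one_smul]; exact (hA v).symm)

/-- **The field part** of an automorphism. -/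
theorem exists_fieldHom (hF : Fintype.card F = q ^ 2) (hn : 3 ≤ n) (h32 : ¬ (n = 3 ∧ q = 2)) :
    ∃ φ : MulAut (PSU n F q) →* (F ≃+* F), ∀ (A : GU n F q) ρ, φ (toAut A ρ) = ρ := by
  choose A ρ hA using Cfsg.Agent.ClassicalGeometry.PSUAutMain.exists_toAut (F := F) (q := q) (n := n) hF hn h32
  have huniq : ∀ (B : GU n F q) (τ : F ≃+* F), ρ (toAut B τ) = τ := fun B τ =>
    (Cfsg.Agent.ClassicalGeometry.PSUAutCount.eq_of_toAut_eq hF hn (hA (toAut B τ))).1
  refine ⟨MonoidHom.mk' ρ fun α β => ?_, fun B τ => huniq B τ⟩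
  obtain ⟨B, -, hB⟩ := exists_toAut_mul hF (A α) (A β) (ρ α) (ρ β)
  rw [← hA α, ← hA β] at hB
  conv_lhs => rw [hB]
  exact huniq _ _

theorem toAut_pow (hF : Fintype.card F = q ^ 2) (A : GU n F q) (k : ℕ) : toAut A 1 ^ k = toAut (A ^ k) 1 := by
  induction k with
  | zero =>
    rw [pow_zero, pow_zero]
    ext x
    obtain ⟨g, rfl⟩ := pr_surjective x
    rw [Cfsg.Agent.ClassicalGeometry.PSUAutMain.toAut_pr', MulAut.one_apply]
    congr 1
    apply ext_act
    intro z
    have h1 : ∀ v, sg (1 : GU n F q) 1 v = v := fun v => by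
      rw [sg, Cfsg.Agent.ClassicalGeometry.PSUAutCount.gm_one, one_mulVec]; rfl
    have h2 := act_semiConj' (1 : GU n F q) 1 g z
    rw [h1, h1] at h2
    exact h2.symm
  | succ k ih =>
    rw [pow_succ, ih]
    obtain ⟨B, hB, h⟩ := exists_toAut_mul hF (A ^ k) A 1 1
    rw [h, one_mul]
    congr 1
    apply Cfsg.Agent.ClassicalGeometry.PSUAutCount.gm_inj
    apply Matrix.ext_of_mulVec_single
    intro i
    have h1 := hB (Pi.single i 1)
    rw [one_mul] at h1
    have h2 : ∀ (C : GU n F q) v, sg C 1 v = gm C *ᵥ v := fun C v => rfl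
    rw [h2, h2, h2, mulVec_mulVec, ← Cfsg.Agent.ClassicalGeometry.PSUAutCount.gm_mul, ← pow_succ] at h1
    exact h1

omit [Fintype F] in
/-- Elements of `GU` of determinant one induce inner automorphisms. -/
theorem toAut_inner_of_det {A : GU n F q} (h : (gm A).det = 1) :
    ∃ s : SU n F q, toAut A 1 = MulAut.conj (pr n F q s) := by
  refine ⟨mkSU (gm A) h (herm_gm A), ?_⟩
  exact toAut_eq_conj A one_ne_zero (fun v => by rw [one_smul, act_def, mat_mkSU]; rfl)

theorem det_pow_GU (hF : Fintype.card F = q ^ 2) (A : GU n F q) : (gm A).det ^ (q + 1) = 1 := by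
  have h1 : ∀ u v : Fin n → F, hermForm n F q (gm A *ᵥ u) (gm A *ᵥ v) = hermForm n F q u v := herm_gm A
  have h2 : (gm A)ᵀ * (gm A).map (LieClassical.HermBasic.conj hF) = 1 := by
    ext i j
    have h3 := h1 (Pi.single i 1) (Pi.single j 1)
    rw [herm_single_left, one_mul, herm_def] at h3
    rw [Matrix.mul_apply]
    have h4 : ∀ k, (gm A)ᵀ i k * ((gm A).map (LieClassical.HermBasic.conj hF)) k j =
        (gm A *ᵥ Pi.single i 1) k * (gm A *ᵥ Pi.single j 1) k ^ q := by
      intro k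
      rw [transpose_apply, map_apply, mulVec_single_one, mulVec_single_one, LieClassical.HermBasic.conj_apply]
      rfl
    rw [Finset.sum_congr rfl fun k _ => h4 k, h3, Matrix.one_apply, Pi.single_apply]
    split_ifs with h5
    · rw [one_pow]
    · rw [zero_pow_q hF]
  have h3 := congrArg Matrix.det h2
  have h4 : (gm A).map (LieClassical.HermBasic.conj hF) =
      (LieClassical.HermBasic.conj hF : F →+* F).mapMatrix (gm A) := rfl
  rw [det_mul, det_transpose, det_one, h4, ← RingHom.map_det] at h3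
  have h5 : (LieClassical.HermBasic.conj hF : F →+* F) (gm A).det = (gm A).det ^ q := rfl
  rw [h5] at h3
  rw [pow_succ', h3]

/-- The group of inner-diagonal automorphisms has exponent dividing `q + 1` modulo inner automorphisms. -/
theorem toAut_pow_inner (hF : Fintype.card F = q ^ 2) (A : GU n F q) :
    ∃ s : SU n F q, toAut A 1 ^ (q + 1) = MulAut.conj (pr n F q s) := by
  rw [toAut_pow hF]
  apply toAut_inner_of_det
  have h1 : ∀ k : ℕ, gm (A ^ k) = gm A ^ k := by
    intro k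
    induction k with
    | zero => rfl
    | succ k ih => rw [pow_succ, pow_succ, Cfsg.Agent.ClassicalGeometry.PSUAutCount.gm_mul, ih]
  rw [h1, det_pow, det_pow_GU hF]

/-- **The field part, with its kernel.** -/
theorem exists_fieldHom' (hF : Fintype.card F = q ^ 2) (hn : 3 ≤ n) (h32 : ¬ (n = 3 ∧ q = 2)) :
    ∃ φ : MulAut (PSU n F q) →* (F ≃+* F), (∀ (A : GU n F q) ρ, φ (toAut A ρ) = ρ) ∧
      (∀ x, φ (MulAut.conj x) = 1) ∧
      ∀ (α : MulAut (PSU n F q)) (k : ℕ), φ α = 1 → Nat.Coprime k (q + 1) → (∃ x, α ^ k = MulAut.conj x) →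
        ∃ x, α = MulAut.conj x := by
  obtain ⟨φ, hφ⟩ := exists_fieldHom (F := F) (q := q) (n := n) hF hn h32
  refine ⟨φ, hφ, ?_, ?_⟩
  · intro x
    obtain ⟨s, rfl⟩ := pr_surjective x
    obtain ⟨A, -, hA⟩ := exists_toAut_conj hF s
    rw [hA, hφ]
  · rintro α k h1 hk ⟨x, hx⟩
    obtain ⟨A, ρ, hα⟩ := Cfsg.Agent.ClassicalGeometry.PSUAutMain.exists_toAut (F := F) (q := q) (n := n) hF hn h32 α
    rw [hα, hφ] at h1
    subst h1
    obtain ⟨s, hs⟩ := toAut_pow_inner hF A
    rw [← hα] at hs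
    have h3 : α ^ k ∈ (MulAut.conj : PSU n F q →* MulAut (PSU n F q)).range := ⟨x, hx.symm⟩
    have h4 : α ^ (q + 1) ∈ (MulAut.conj : PSU n F q →* MulAut (PSU n F q)).range := ⟨_, hs.symm⟩
    have h5 := Nat.gcd_eq_gcd_ab k (q + 1)
    rw [hk] at h5
    have h6 : α = (α ^ k) ^ (Nat.gcdA k (q + 1)) * (α ^ (q + 1)) ^ (Nat.gcdB k (q + 1)) := by
      rw [← zpow_natCast, ← _root_.zpow_mul, ← zpow_natCast, ← _root_.zpow_mul, ← _root_.zpow_add, ← h5,
        Nat.cast_one, _root_.zpow_one]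
    have h7 : α ∈ (MulAut.conj : PSU n F q →* MulAut (PSU n F q)).range := by
      rw [h6]
      exact mul_mem (zpow_mem h3 _) (zpow_mem h4 _)
    obtain ⟨y, hy⟩ := h7
    exact ⟨y, hy.symm⟩

/-! ### `|F| = 4` -/

theorem ringEquiv_sq (h4 : Fintype.card F = 4) (ρ : F ≃+* F) : ρ ^ 2 = 1 := by
  ext x
  have h1 : x ^ 4 = x := by rw [← h4]; exact FiniteField.pow_card x
  change ρ (ρ x) = x
  by_cases hx : x ^ 2 = x
  · have h2 : x = 0 ∨ x = 1 := by
      have h3 : x * (x - 1) = 0 := by linear_combination hx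
      rcases mul_eq_zero.1 h3 with h | h
      · exact Or.inl h
      · exact Or.inr (sub_eq_zero.1 h)
    rcases h2 with rfl | rfl
    · rw [map_zero, map_zero]
    · rw [map_one, map_one]
  · have h2 := omega_sum h4 hx
    have h3 : 1 + ρ x + (ρ x) ^ 2 = 0 := by
      have h5 := congrArg ρ h2
      rwa [map_add, map_add, map_one, map_pow, map_zero] at h5
    have h5 : (ρ x - x) * (ρ x - x ^ 2) = 0 := by
      have h6 : x ^ 3 = 1 := by linear_combination (x - 1) * h2
      linear_combination h3 - ρ x * h2 + h6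
    rcases mul_eq_zero.1 h5 with h | h
    · rw [sub_eq_zero.1 h, sub_eq_zero.1 h]
    · rw [sub_eq_zero.1 h, map_pow, sub_eq_zero.1 h]
      linear_combination h1

section Two

variable [CharP F 2]

/-- **Automorphisms of odd order permuting the transvections of a line act linearly.** -/
theorem zz_ct (hF : Fintype.card F = q ^ 2) (hq : q = 2) (hn : 4 ≤ n) {e f : Fin 2 → (Fin n → F)} (E : Frm q e f)
    {α : MulAut (PSU n F q)} {k : ℕ} (hk : Odd k) (hα : ∃ x, α ^ k = MulAut.conj x)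
    (hperm : ∀ p, p ≠ 0 → ∃ p', p' ≠ 0 ∧ α (zz hF E p) = zz hF E p') :
    ∃ A : (F × F) ≃ₗ[F] (F × F), ∀ p, p ≠ 0 → α (zz hF E p) = zz hF E (A p) := by
  have h32 : ¬ (n = 3 ∧ q = 2) := by omega
  obtain ⟨φ, hφ, hφ1, -⟩ := exists_fieldHom' (F := F) (q := q) (n := n) hF (by omega) h32
  obtain ⟨B, ρ, hB⟩ := Cfsg.Agent.ClassicalGeometry.PSUAutMain.exists_toAut (F := F) (q := q) (n := n) hF (by omega)
    h32 α
  have hρ : ρ = 1 := by
    obtain ⟨x, hx⟩ := hα
    have h1 := congrArg φ hx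
    rw [map_pow, hφ1, hB, hφ] at h1
    have h2 := ringEquiv_sq (by rw [hF, hq]; norm_num) ρ
    obtain ⟨m, rfl⟩ := hk
    rw [pow_succ, pow_mul, h2, one_pow, one_mul] at h1
    exact h1
  subst hρ
  have hsg : ∀ v, sg B 1 v = gm B *ᵥ v := fun v => rfl
  -- the image of a transvection
  have himg : ∀ p : F × F, ∃ h : hermForm n F q (gm B *ᵥ (p.1 • e 0 + p.2 • e 1)) (gm B *ᵥ (p.1 • e 0 + p.2 • e 1)) = 0,
      α (zz hF E p) = pr n F q (transv hF (gm B *ᵥ (p.1 • e 0 + p.2 • e 1)) h 1 one_tr) := by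
    intro p
    refine ⟨by rw [herm_gm]; exact E.iso2 hF p p, ?_⟩
    rw [hB, zz, Cfsg.Agent.ClassicalGeometry.PSUAutMain.toAut_pr', transv, semiConj_siegel]
    congr 1
    refine siegel_congr hF _ _ ?_ ?_ ?_
    · exact hsg _
    · exact (hsg 0).trans (mulVec_zero _)
    · rfl
  -- the line is invariant
  have hline : ∀ p : F × F, ∃ p' : F × F, gm B *ᵥ (p.1 • e 0 + p.2 • e 1) = p'.1 • e 0 + p'.2 • e 1 := by
    intro p
    by_cases hp : p = 0
    · refine ⟨0, ?_⟩
      rw [hp]
      simp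
    · obtain ⟨p', -, h1⟩ := hperm p hp
      obtain ⟨h2, h3⟩ := himg p
      rw [h3] at h1
      have h0 : gm B *ᵥ (p.1 • e 0 + p.2 • e 1) ≠ 0 := by
        intro h4
        have h5 := sg_eq_zero B 1 (v := p.1 • e 0 + p.2 • e 1) h4
        obtain ⟨h6, h7⟩ := E.ind2 h5
        exact hp (Prod.ext h6 h7)
      obtain ⟨c, hc⟩ := transv_pr_eq hF (by omega) h2 (E.iso2 hF p' p') h0 h1
      refine ⟨c • p', ?_⟩
      rw [hc, smul_add, smul_smul, smul_smul]
      rfl
  choose g hg using hline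
  have hinj2 : ∀ p p' : F × F, p.1 • e 0 + p.2 • e 1 = p'.1 • e 0 + p'.2 • e 1 → p = p' := by
    intro p p' h
    obtain ⟨h1, h2⟩ := E.ind2 (a := p.1 - p'.1) (b := p.2 - p'.2) (by
      rw [← sub_eq_zero.2 h]; module)
    exact Prod.ext (sub_eq_zero.1 h1) (sub_eq_zero.1 h2)
  let L : (F × F) →ₗ[F] (F × F) :=
    { toFun := g
      map_add' := fun p p' => by
        apply hinj2
        rw [← hg]
        have e1 : (p + p').1 • e 0 + (p + p').2 • e 1 = (p.1 • e 0 + p.2 • e 1) + (p'.1 • e 0 + p'.2 • e 1) := by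
          rw [Prod.fst_add, Prod.snd_add]; module
        rw [e1, mulVec_add, hg, hg, Prod.fst_add, Prod.snd_add]
        module
      map_smul' := fun c p => by
        apply hinj2
        rw [← hg]
        have e1 : (c • p).1 • e 0 + (c • p).2 • e 1 = c • (p.1 • e 0 + p.2 • e 1) := by
          rw [Prod.smul_fst, Prod.smul_snd, smul_eq_mul, smul_eq_mul]; module
        rw [e1, mulVec_smul, hg, RingHom.id_apply, Prod.smul_fst, Prod.smul_snd, smul_eq_mul, smul_eq_mul]
        module }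
  have hLinj : Function.Injective L := by
    rw [← LinearMap.ker_eq_bot, LinearMap.ker_eq_bot']
    intro p hp
    have h1 := hg p
    have h2 : g p = 0 := hp
    rw [h2, Prod.fst_zero, Prod.snd_zero, zero_smul, zero_smul, add_zero] at h1
    have h5 := sg_eq_zero B 1 (v := p.1 • e 0 + p.2 • e 1) h1
    obtain ⟨h6, h7⟩ := E.ind2 h5
    exact Prod.ext h6 h7
  refine ⟨LinearEquiv.ofInjectiveEndo L hLinj, fun p _ => ?_⟩
  obtain ⟨h2, h3⟩ := himg p
  rw [h3, zz]
  congr 1
  exact siegel_congr hF _ _ (hg p) rfl rfl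

end Two

end Cfsg.Agent.KFacts.Unit
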