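import Mathlib
import Cfsg.Agent.KFacts.Unit.GLAct

/-!
# Overgroups of the stabiliser of an isotropic vector; normal subgroups of `PP u`

* `eq_top_of_stabV` : a subgroup of `SU n F q` containing all stabilisers of isotropic vectors is everything;
* `over_stabV` : a subgroup containing the stabiliser of `u` and an element moving the point `⟨u⟩` is everything;
* `over_PP` : the same in `PSU n F q`;
* `exists_short` : a subgroup of `QQ u` normalised by `PP u` and not contained in `RR u` contains an involution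
  `siegel u w 0` commuting with an element which moves `⟨u⟩`.
-/

set_option autoImplicit false

namespace Cfsg.Agent.KFacts.Unit

open Cfsg Cfsg.Agent.LieClassical.HermBasic Cfsg.Agent.LieClassical.HermSiegel
  Cfsg.Agent.LieClassical.HermGen Cfsg.Agent.LieClassical.SUBasic Matrix
  Cfsg.Agent.ClassicalGeometry.PSUAutBasic Cfsg.Agent.ClassicalGeometry.PSUAutSylow
  Cfsg.Agent.ClassicalGeometry.PSUAutUnip Cfsg.Agent.ClassicalGeometry.PSUAutPhi

variable {F : Type*} [Field F] [Fintype F] {q n : ℕ}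

/-- A subgroup containing all stabilisers of isotropic vectors. -/
theorem eq_top_of_stabV (hF : Fintype.card F = q ^ 2) (hn : 3 ≤ n) {H : Subgroup (SU n F q)}
    (h : ∀ u : Fin n → F, u ≠ 0 → hermForm n F q u u = 0 → stabV q u ≤ H) : H = ⊤ := by
  rw [eq_top_iff]
  have h1 : sG hF (coordSub F n n) ≤ H := by
    rw [sG, Subgroup.closure_le]
    rintro _ ⟨u, -, w, -, μ, hs, rfl⟩
    by_cases hu : u = 0
    · have h2 : siegel hF u w μ hs = 1 := by
        apply ext_act
        intro v
        rw [act_siegel, act_one, hu, herm_zero_right hF, zero_smul, add_zero, smul_zero, add_zero]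
      rw [h2]
      exact one_mem H
    · exact h u hu hs.iso (act_siegel_self hF hs)
  intro g _
  exact h1 (fixGrp_le_sG hF hn le_rfl (mem_fixGrp_top g))

omit [Fintype F] in
theorem stabV_le_of_act {H : Subgroup (SU n F q)} {u : Fin n → F} (h : stabV q u ≤ H) {g : SU n F q}
    (hg : g ∈ H) : stabV q (act g u) ≤ H := by
  intro x hx
  have h1 : g⁻¹ * x * g ∈ stabV q u := by
    show act (g⁻¹ * x * g) u = u
    rw [act_mul, act_mul, show act x (act g u) = act g u from hx, act_inv_act]
  have h2 := mul_mem (mul_mem hg (h h1)) (inv_mem hg)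
  have e : g * (g⁻¹ * x * g) * g⁻¹ = x := by group
  rwa [e] at h2

omit [Fintype F] in
theorem stabV_smul {u : Fin n → F} {c : F} (hc : c ≠ 0) : stabV q (c • u) = stabV q u := by
  ext g
  rw [mem_stabV, mem_stabV, act_smul]
  constructor
  · intro h
    have h2 := congrArg (fun x => c⁻¹ • x) h
    simpa [smul_smul, inv_mul_cancel₀ hc] using h2
  · intro h; rw [h]

/-- A vector orthogonal to everything orthogonal to the isotropic vector `w`. -/
theorem eq_smul_of_perp (hF : Fintype.card F = q ^ 2) {u w : Fin n → F} (hw0 : w ≠ 0)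
    (hw : hermForm n F q w w = 0) (h : ∀ z, hermForm n F q z w = 0 → hermForm n F q z u = 0) :
    ∃ c : F, u = c • w := by
  obtain ⟨w', -, -, hw'w⟩ := exists_partner hF hw0 hw
  refine ⟨hermForm n F q w' u ^ q, ?_⟩
  rw [← sub_eq_zero]
  apply herm_nondeg hF
  intro v
  apply herm_eq_zero_swap hF
  have h1 := h (v - hermForm n F q v w • w') (by rw [herm_sub_left, herm_smul_left, hw'w, mul_one, sub_self])
  rw [herm_sub_left, herm_smul_left] at h1
  rw [herm_sub_right hF, herm_smul_right, pow_q_pow_q hF]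
  linear_combination h1

/-- **Maximality of the stabiliser of an isotropic point** -/
theorem over_stabV (hF : Fintype.card F = q ^ 2) (hn : 3 ≤ n) {u : Fin n → F} (hu0 : u ≠ 0)
    (hu : hermForm n F q u u = 0) {H : Subgroup (SU n F q)} (h : stabV q u ≤ H) {g : SU n F q} (hg : g ∈ H)
    (hgu : ¬ ∃ c : F, act g u = c • u) : H = ⊤ := by
  -- an element of `H` moving `u` to a vector not orthogonal to `u`
  obtain ⟨k, hk, hku⟩ : ∃ k ∈ H, hermForm n F q (act k u) u ≠ 0 := by
    by_cases h1 : hermForm n F q (act g u) u = 0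
    swap
    · exact ⟨g, hg, h1⟩
    obtain ⟨w, hw⟩ : ∃ w, w = act g u := ⟨_, rfl⟩
    have hww : hermForm n F q w w = 0 := by rw [hw, herm_act, hu]
    have hw0 : w ≠ 0 := fun h0 => hu0 ((act_eq_zero g).1 (by rw [← hw, h0]))
    rw [← hw] at h1
    have hPw : stabV q w ≤ H := by rw [hw]; exact stabV_le_of_act h hg
    obtain ⟨z, hzw, hzu⟩ : ∃ z, hermForm n F q z w = 0 ∧ hermForm n F q z u ≠ 0 := by
      by_contra hcon
      push Not at hcon
      obtain ⟨c, hc⟩ := eq_smul_of_perp hF hw0 hww hcon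
      apply hgu
      have hc0 : c ≠ 0 := by
        rintro rfl
        rw [zero_smul] at hc
        exact hu0 hc
      refine ⟨c⁻¹, ?_⟩
      rw [← hw]
      conv_rhs => rw [hc]
      rw [smul_smul, inv_mul_cancel₀ hc0, one_smul]
    have huz : hermForm n F q u z ≠ 0 := fun h0 => hzu (herm_eq_zero_swap hF h0)
    obtain ⟨t, ht⟩ := exists_iso_correct hF hu huz
    obtain ⟨s, hs⟩ : ∃ s, s = z + t • u := ⟨_, rfl⟩
    rw [← hs] at ht
    have hsw : hermForm n F q s w = 0 := by
      rw [hs, herm_add_left, herm_smul_left, hzw, herm_eq_zero_swap hF h1, mul_zero, add_zero]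
    have hsu : hermForm n F q s u ≠ 0 := by
      rw [hs, herm_add_left, herm_smul_left, hu, mul_zero, add_zero]
      exact hzu
    have hus : hermForm n F q u s ≠ 0 := fun h0 => hsu (herm_eq_zero_swap hF h0)
    obtain ⟨ν, hν0, hν⟩ := exists_trace_zero_ne hF
    refine ⟨transv hF s ht ν hν, hPw ?_, ?_⟩
    · show act (transv hF s ht ν hν) w = w
      rw [act_transv, herm_eq_zero_swap hF hsw, mul_zero, zero_smul, add_zero]
    · rw [act_transv, herm_add_left, herm_smul_left, hu, zero_add]
      exact mul_ne_zero (mul_ne_zero hν0 hus) hsu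
  have hPk := stabV_le_of_act h hk
  have hkk : hermForm n F q (act k u) (act k u) = 0 := by rw [herm_act, hu]
  -- the move
  have move : ∀ a b c : Fin n → F, hermForm n F q a a = 0 → hermForm n F q b b = 0 → hermForm n F q c c = 0 →
      hermForm n F q b a ≠ 0 → hermForm n F q c a ≠ 0 → stabV q a ≤ H → stabV q b ≤ H → stabV q c ≤ H := by
    intro a b c ha hb hc hba hca hPa hPb
    obtain ⟨d, hd⟩ : ∃ d, d = hermForm n F q b a / hermForm n F q c a := ⟨_, rfl⟩
    have hd0 : d ≠ 0 := by rw [hd]; exact div_ne_zero hba hca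
    obtain ⟨m, μ, hs, hact⟩ := exists_siegel_map hF ha (v := b) (v' := d • c)
      (by rw [hb, herm_smul_left, herm_smul_right, hc, mul_zero, mul_zero])
      (by rw [herm_smul_left, hd, div_mul_cancel₀ _ hca]) hba
    have h1 := stabV_le_of_act hPb (hPa (act_siegel_self hF hs))
    rwa [hact, stabV_smul hd0] at h1
  apply eq_top_of_stabV hF hn
  intro x hx0 hx
  by_cases hxu : hermForm n F q x u = 0
  · obtain ⟨z, -, hzz, huz, hxz⟩ := exists_iso_common hF (mem_coordSub_top u) (mem_coordSub_top x) hu0 hx0 hu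
      (herm_eq_zero_swap hF hxu)
    have hzu : hermForm n F q z u ≠ 0 := fun h0 => huz (herm_eq_zero_swap hF h0)
    have h1 := move u (act k u) z hu hkk hzz hku hzu h hPk
    exact move z u x hzz hu hx huz hxz h1 h
  · exact move u (act k u) x hu hkk hx hku hxu h hPk

/-- **Maximality of the stabiliser of an isotropic point**, in `PSU`. -/
theorem over_PP (hF : Fintype.card F = q ^ 2) (hn : 3 ≤ n) {u : Fin n → F} (hu0 : u ≠ 0)
    (hu : hermForm n F q u u = 0) {H : Subgroup (PSU n F q)} (h : PP q u ≤ H) {g : SU n F q}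
    (hg : pr n F q g ∈ H) (hgu : ¬ ∃ c : F, act g u = c • u) : H = ⊤ := by
  have h1 : H.comap (pr n F q) = ⊤ := by
    apply over_stabV hF hn hu0 hu (g := g) _ hg hgu
    intro x hx
    exact h ⟨x, hx, rfl⟩
  rw [eq_top_iff]
  intro x _
  obtain ⟨y, rfl⟩ := pr_surjective x
  have h2 : y ∈ H.comap (pr n F q) := by rw [h1]; trivial
  exact h2

section Two

/-- The swap of two members of a frame. -/
theorem exists_swap (hF : Fintype.card F = q ^ 2) {u w : Fin n → F} (hu : hermForm n F q u u = 0)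
    (hw : hermForm n F q w w = 0) (hwu : hermForm n F q w u = 0)
    (hi : LinearIndependent F ![u, w]) : ∃ g : SU n F q, act g u = w ∧ act g w = u := by
  obtain ⟨f, E⟩ := exists_Frm (e := ![u, w]) hF hi (by
    intro i j
    fin_cases i <;> fin_cases j
    · exact hu
    · exact herm_eq_zero_swap hF hwu
    · exact hwu
    · exact hw)
  have h1 : ((!![0, 1; 1, 0] : Matrix (Fin 2) (Fin 2) F)).map (LieClassical.HermBasic.conj hF) =
      (!![0, 1; 1, 0] : Matrix (Fin 2) (Fin 2) F) := by
    ext i j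
    fin_cases i <;> fin_cases j <;> simp
  obtain ⟨g, hg, -⟩ := exists_GL hF E (M := !![0, 1; 1, 0]) (N := !![0, 1; 1, 0]) (by
    rw [h1]
    ext i j
    fin_cases i <;> fin_cases j <;> simp [Matrix.mul_apply, Fin.sum_univ_two]) (by
    rw [Matrix.det_fin_two_of]; ring)
  refine ⟨g, ?_, ?_⟩
  · have h2 := hg 0
    rw [Fin.sum_univ_two] at h2
    simpa using h2
  · have h2 := hg 1
    rw [Fin.sum_univ_two] at h2
    simpa using h2

variable [CharP F 2]

/-- `siegel u w 0` is symmetric in `u` and `w`, in characteristic 2. -/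
theorem siegel_swap (hF : Fintype.card F = q ^ 2) {u w : Fin n → F} (h : IsSiegel q u w 0) (h' : IsSiegel q w u 0) :
    siegel hF u w 0 h = siegel hF w u 0 h' := by
  apply ext_act
  intro v
  rw [act_siegel, act_siegel, zero_mul, zero_mul, zero_sub, zero_sub, CharTwo.neg_eq, CharTwo.neg_eq]
  abel

theorem siegel_sq (hF : Fintype.card F = q ^ 2) {u w : Fin n → F} (h : IsSiegel q u w 0)
    (hw : hermForm n F q w w = 0) : siegel hF u w 0 h * siegel hF u w 0 h = 1 := by
  have h0 : w + w = 0 := by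
    funext i
    exact CharTwo.add_self_eq_zero (w i)
  have hz : IsSiegel q u 0 (0 : F) := IsSiegel.zero hF h.iso
  rw [siegel_mul, siegel_congr hF _ hz rfl h0 (by rw [hw]; ring), siegel_zero]

/-- **Short root involutions in normal subgroups**: `A ≤ QQ u` normalised by `PP u` and not contained in `RR u`. -/
theorem exists_short (hF : Fintype.card F = q ^ 2) (hn : 4 ≤ n) {u : Fin n → F} (hu0 : u ≠ 0)
    (hu : hermForm n F q u u = 0) {A : Subgroup (PSU n F q)} (hA : A ≤ QQ hF u hu)
    (hn' : ∀ y ∈ PP q u, ∀ a ∈ A, y * a * y⁻¹ ∈ A) (hne : ¬ A ≤ RR hF u hu) :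
    ∃ x ∈ A, x ≠ 1 ∧ x * x = 1 ∧ ∃ g : SU n F q, pr n F q g * x = x * pr n F q g ∧
      (¬ ∃ c : F, act g u = c • u) ∧ x ∉ RR hF u hu := by
  -- a vector of `A` outside `F u`
  obtain ⟨x0, hx0, hx0R⟩ : ∃ x ∈ A, x ∉ RR hF u hu := by
    by_contra hcon
    push Not at hcon
    exact hne hcon
  obtain ⟨w, μ, hs, rfl⟩ := mem_QQ.1 (hA hx0)
  have hwu : hermForm n F q w u = 0 := hs.orth
  have hw1 : ¬ ∃ c : F, w = c • u := by
    rintro ⟨c, rfl⟩
    apply hx0R
    have htr := hs.tr
    rw [herm_smul_left, herm_smul_right, hu, mul_zero, mul_zero, add_zero] at htr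
    have hν : (μ + c - c ^ q) + (μ + c - c ^ q) ^ q = 0 := by
      rw [sub_pow_q hF, add_pow_q hF, pow_q_pow_q hF]
      linear_combination htr
    refine mem_RR.2 ⟨μ + c - c ^ q, hν, ?_⟩
    congr 1
    apply ext_act
    intro v
    rw [act_siegel, act_transv, herm_smul_right, smul_smul, add_assoc, ← add_smul]
    congr 2
    ring
  -- an isotropic vector of `u^⊥` not orthogonal to `w`
  obtain ⟨x, y, hxu, hyu, hxx, hyy, hxy⟩ := exists_pair_of_iso hF hn hu0 hu
  obtain ⟨s, hsu, hss, hws⟩ : ∃ s, hermForm n F q s u = 0 ∧ hermForm n F q s s = 0 ∧ hermForm n F q w s ≠ 0 := by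
    by_contra hcon
    push Not at hcon
    apply hw1
    apply eq_smul_of_perp hF hu0 hu
    intro z hz
    apply herm_eq_zero_swap hF
    refine iso_induction hF (W := perp q u) (x := x) (y := y) hxu hyu hxx hyy hxy
      (P := fun z => hermForm n F q w z = 0) ?_ ?_ z hz
    · intro a b _ _ ha hb
      rw [herm_add_right hF, ha, hb, add_zero]
    · intro s hsu hss
      exact hcon s hsu hss
  obtain ⟨ν, hν0, hν⟩ := exists_trace_zero_ne hF
  have hus : hermForm n F q u s = 0 := herm_eq_zero_swap hF hsu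
  have hfix : act (transv hF s hss ν hν) u = u := by
    rw [act_transv, hus, mul_zero, zero_smul, add_zero]
  have h1 := hn' _ (mem_PP.2 ⟨_, hfix, rfl⟩) _ hx0
  rw [← map_inv, ← map_mul, ← map_mul, conj_siegel] at h1
  have hact : act (transv hF s hss ν hν) w = w + (ν * hermForm n F q w s) • s := act_transv hF hss hν w
  obtain ⟨w1, hw1def⟩ : ∃ w1, w1 = (ν * hermForm n F q w s) • s := ⟨_, rfl⟩
  rw [← hw1def] at hact
  have hw1w1 : hermForm n F q w1 w1 = 0 := by
    rw [hw1def, herm_smul_left, herm_smul_right, hss, mul_zero, mul_zero]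
  have hw1u : hermForm n F q w1 u = 0 := by rw [hw1def, herm_smul_left, hsu, mul_zero]
  have hw1w : hermForm n F q w w1 ≠ 0 := by
    rw [hw1def, herm_smul_right]
    exact mul_ne_zero (pow_ne_zero _ (mul_ne_zero hν0 hws)) hws
  have hs2 : IsSiegel q u (w + w1) μ := by
    have h2 := hs.map (transv hF s hss ν hν)
    rwa [hfix, hact] at h2
  rw [siegel_congr hF _ hs2 hfix hact rfl] at h1
  -- the quotient
  have h3 := mul_mem h1 (inv_mem hx0)
  rw [← map_inv, ← map_mul, siegel_inv, siegel_mul] at h3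
  have e1 : w + w1 + -w = w1 := by abel
  obtain ⟨μ1, hμ1⟩ : ∃ μ1, μ1 = μ + μ ^ q - hermForm n F q (-w) (w + w1) := ⟨_, rfl⟩
  have hs3 : IsSiegel q u w1 μ1 := by
    have h2 := hs2.mul hF (hs.inv hF)
    rwa [e1, ← hμ1] at h2
  rw [siegel_congr hF _ hs3 rfl e1 hμ1.symm] at h3
  -- correct `μ1`
  have htr := hs3.tr
  rw [hw1w1, add_zero] at htr
  obtain ⟨c, hc⟩ := exists_trace_eq hF (c := μ1) (fixed_of_tr htr)
  obtain ⟨w2, hw2⟩ : ∃ w2, w2 = w1 + c • u := ⟨_, rfl⟩
  have huw1 : hermForm n F q u w1 = 0 := herm_eq_zero_swap hF hw1u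
  have hw2w2 : hermForm n F q w2 w2 = 0 := by
    rw [hw2, herm_add_left, herm_add_right hF, herm_add_right hF, herm_smul_left, herm_smul_left, herm_smul_right,
      herm_smul_right, hw1w1, hw1u, huw1, hu]
    ring
  have hw2u : hermForm n F q w2 u = 0 := by
    rw [hw2, herm_add_left, herm_smul_left, hw1u, hu]; ring
  have huw2 : hermForm n F q u w2 = 0 := herm_eq_zero_swap hF hw2u
  have hq0 : (0 : F) ^ q = 0 := zero_pow_q hF
  have hs4 : IsSiegel q u w2 0 := ⟨hu, hw2u, by rw [hq0, hw2w2, add_zero, add_zero]⟩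
  have hs5 : IsSiegel q w2 u 0 := ⟨hw2w2, huw2, by rw [hq0, hu, add_zero, add_zero]⟩
  have h4 : siegel hF u w1 μ1 hs3 = siegel hF u w2 0 hs4 := by
    apply ext_act
    intro v
    have h2F : (2 : F) = 0 := CharTwo.two_eq_zero
    rw [act_siegel, act_siegel, hw2, herm_add_right hF, herm_smul_right]
    funext i
    simp only [Pi.add_apply, Pi.smul_apply, smul_eq_mul]
    linear_combination (-(hermForm n F q v u * u i)) * hc + (c ^ q * hermForm n F q v u * u i) * h2F
  rw [h4] at h3
  -- independence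
  have hw2n : ¬ ∃ d : F, w2 = d • u := by
    rintro ⟨d, hd⟩
    apply hw1w
    have h5 : w1 = (d - c) • u := by
      rw [hw2] at hd
      rw [sub_smul, ← hd]
      abel
    rw [h5, herm_smul_right, hwu, mul_zero]
  have hi : LinearIndependent F ![u, w2] := by
    rw [LinearIndependent.pair_iff]
    intro a b hab
    have hb : b = 0 := by
      by_contra hb
      apply hw2n
      refine ⟨-(b⁻¹ * a), ?_⟩
      have h5 : b • w2 = (-a) • u := by
        rw [neg_smul, eq_neg_iff_add_eq_zero, add_comm]; exact hab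
      rw [neg_mul_eq_mul_neg, mul_smul, ← h5, smul_smul, inv_mul_cancel₀ hb, one_smul]
    refine ⟨?_, hb⟩
    rw [hb, zero_smul, add_zero] at hab
    rcases smul_eq_zero.1 hab with h5 | h5
    · exact h5
    · exact absurd h5 hu0
  obtain ⟨g, hgu, hgw⟩ := exists_swap hF hu hw2w2 hw2u hi
  have hnR : pr n F q (siegel hF u w2 0 hs4) ∉ RR hF u hu := by
    intro h5
    obtain ⟨κ, hκ, h6⟩ := mem_RR.1 h5
    have h7 := siegel_pr_inj hF (by omega) _ _ h6
    obtain ⟨f, -, -, hfu⟩ := exists_partner hF hu0 hu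
    have h8 := congrArg (fun g => act g f) h7
    change act (siegel hF u w2 0 hs4) f = act (transv hF u hu κ hκ) f at h8
    rw [act_siegel, act_transv, hfu, one_smul, add_assoc, add_right_inj] at h8
    apply hw2n
    refine ⟨κ * 1 - (0 * 1 - hermForm n F q f w2), ?_⟩
    rw [sub_smul, ← h8, add_sub_cancel_right]
  refine ⟨_, h3, ?_, ?_, g, ?_, ?_, hnR⟩
  · intro h5
    apply hnR
    rw [h5]
    exact one_mem _
  · rw [← map_mul, siegel_sq hF hs4 hw2w2, map_one]
  · rw [← map_mul, ← map_mul]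
    congr 1
    have h5 := conj_siegel hF hs4 g
    rw [siegel_congr hF _ hs5 hgu hgw rfl, ← siegel_swap hF hs4 hs5] at h5
    calc g * siegel hF u w2 0 hs4 = g * siegel hF u w2 0 hs4 * g⁻¹ * g := by group
      _ = siegel hF u w2 0 hs4 * g := by rw [h5]
  · rintro ⟨d, hd⟩
    apply hw2n
    exact ⟨d, by rw [← hd, hgu]⟩

end Two

end Cfsg.Agent.KFacts.Unit
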