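import Mathlib
import Cfsg.Agent.KFacts.Unit.Point

/-!
# Schur's lemma for the transvections of the coordinate subspace (characteristic 2)

An additive map of `coordSub F n k`, `4 ≤ k ≤ n`, that commutes with all transvections `w ↦ w + (w, s) s`, `s` isotropic
in `coordSub F n k`, is a scalar.
-/

set_option autoImplicit false

namespace Cfsg.Agent.KFacts.Unit

open Cfsg Matrix Cfsg.Agent.LieClassical.HermBasic Cfsg.Agent.LieClassical.HermSiegel
  Cfsg.Agent.LieClassical.HermGen Cfsg.Agent.LieClassical.SUBasic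
  Cfsg.Agent.ClassicalGeometry.PSUAutBasic Cfsg.Agent.ClassicalGeometry.PSUAutSylow

variable {F : Type*} [Field F] [Fintype F] {q n k : ℕ}

/-- A partner inside the coordinate subspace. -/
theorem exists_partner_coord (hF : Fintype.card F = q ^ 2) {s : Fin n → F} (hs : s ∈ coordSub F n k) (hs0 : s ≠ 0)
    (hss : hermForm n F q s s = 0) :
    ∃ t ∈ coordSub F n k, hermForm n F q t t = 0 ∧ hermForm n F q t s = 1 := by
  obtain ⟨i, hi⟩ : ∃ i, s i ≠ 0 := by
    by_contra h
    exact hs0 (funext fun i => by_contra fun hi => h ⟨i, hi⟩)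
  have hik : i.val < k := by
    by_contra h
    exact hi (hs i (by omega))
  have h1 : hermForm n F q s (Pi.single i 1) ≠ 0 := by
    rw [herm_single_right hF, one_pow, mul_one]; exact hi
  obtain ⟨c, hc⟩ := exists_iso_correct hF hss h1
  set y : Fin n → F := Pi.single i 1 + c • s with hy
  have hyk : y ∈ coordSub F n k := add_mem (single_mem_coordSub hik 1) (Submodule.smul_mem _ _ hs)
  have hys : hermForm n F q y s ≠ 0 := by
    rw [hy, herm_add_left, herm_smul_left, hss, mul_zero, add_zero]
    intro h2
    exact h1 (herm_eq_zero_swap hF h2)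
  refine ⟨(hermForm n F q y s)⁻¹ • y, Submodule.smul_mem _ _ hyk, ?_, ?_⟩
  · rw [herm_smul_left, herm_smul_right, hc]; ring
  · rw [herm_smul_left, inv_mul_cancel₀ hys]

omit [Fintype F] in
/-- Two isotropic vectors of the coordinate subspace, orthogonal to `s`, forming a hyperbolic pair: the first is
independent of `s`. -/
theorem indep_of_pair {s x y : Fin n → F} (hs0 : s ≠ 0) (hxy : hermForm n F q x y = 1) (hys : hermForm n F q s y = 0)
    {a b : F} (h : a • s + b • x = 0) : a = 0 ∧ b = 0 := by
  have h1 := congrArg (fun v => hermForm n F q v y) h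
  simp only [herm_add_left, herm_smul_left, herm_zero_left, hys, hxy, mul_zero, zero_add, mul_one] at h1
  subst h1
  rw [zero_smul, add_zero] at h
  exact ⟨(smul_eq_zero.1 h).resolve_right hs0, rfl⟩

theorem schur_coord (hF : Fintype.card F = q ^ 2) (hk : 4 ≤ k) (hkn : k ≤ n)
    (T : coordSub F n k →+ coordSub F n k)
    (hT : ∀ s : coordSub F n k, hermForm n F q (s : Fin n → F) s = 0 → ∀ w : coordSub F n k,
      T (hermForm n F q (w : Fin n → F) s • s) = hermForm n F q (T w : Fin n → F) s • s) :
    ∃ c : F, ∀ w, T w = c • w := by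
  -- eigenvalues
  have h1 : ∀ s : coordSub F n k, s ≠ 0 → hermForm n F q (s : Fin n → F) s = 0 → ∃ c : F, T s = c • s := by
    intro s hs0 hss
    obtain ⟨t, ht, -, hts⟩ := exists_partner_coord (q := q) hF s.2 (fun h => hs0 (Subtype.ext h)) hss
    have h2 := hT s hss ⟨t, ht⟩
    rw [hts, one_smul] at h2
    exact ⟨_, h2⟩
  -- orthogonal independent vectors
  have h3 : ∀ s x : coordSub F n k, hermForm n F q (s : Fin n → F) s = 0 → hermForm n F q (x : Fin n → F) x = 0 →
      hermForm n F q (s : Fin n → F) x = 0 → (∀ a b : F, a • s + b • x = 0 → a = 0 ∧ b = 0) →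
      ∀ c : F, T s = c • s → T x = c • x := by
    intro s x hss hxx hsx hind c hc
    have hx0 : x ≠ 0 := by
      rintro rfl
      exact one_ne_zero (hind 0 1 (by simp)).2
    have hsx0 : s + x ≠ 0 := by
      intro h
      exact one_ne_zero (hind 1 1 (by simpa using h)).1
    have hiso : hermForm n F q ((s + x : coordSub F n k) : Fin n → F) ((s + x : coordSub F n k) : Fin n → F) = 0 := by
      rw [Submodule.coe_add, herm_add_left, herm_add_right hF, herm_add_right hF, hss, hxx, hsx,
        herm_eq_zero_swap hF hsx]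
      ring
    obtain ⟨d, hd⟩ := h1 x hx0 hxx
    obtain ⟨e, he⟩ := h1 (s + x) hsx0 hiso
    rw [map_add, hc, hd, smul_add] at he
    have h4 := hind (c - e) (d - e) (by
      rw [← sub_eq_zero.2 he]
      module)
    rw [hd, sub_eq_zero.1 h4.2, ← sub_eq_zero.1 h4.1]
  -- a reference vector
  have h5 : ∀ s : coordSub F n k, s ≠ 0 → hermForm n F q (s : Fin n → F) s = 0 → ∀ c : F, T s = c • s →
      ∀ l : F, T (l • s) = c • l • s := by
    intro s hs0 hss c hc l
    by_cases hl : l = 0
    · rw [hl, zero_smul, smul_zero, map_zero]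
    obtain ⟨x, hx, y, hy, hxx, hyy, hxy, hxs, hys⟩ := exists_pair_coord hF hk hkn s.2 hss
    have hs0' : (s : Fin n → F) ≠ 0 := fun h => hs0 (Subtype.ext h)
    have hsy : hermForm n F q (s : Fin n → F) y = 0 := herm_eq_zero_swap hF hys
    have hsx : hermForm n F q (s : Fin n → F) x = 0 := herm_eq_zero_swap hF hxs
    have h6 := h3 s ⟨x, hx⟩ hss hxx hsx (fun a b hab => indep_of_pair (q := q) hs0' hxy hsy (by
      have := congrArg (fun v : coordSub F n k => (v : Fin n → F)) hab
      simpa using this)) c hc
    refine h3 ⟨x, hx⟩ (l • s) hxx ?_ ?_ ?_ c h6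
    · rw [Submodule.coe_smul, herm_smul_left, herm_smul_right, hss]; ring
    · rw [Submodule.coe_smul, herm_smul_right]
      change l ^ q * hermForm n F q x s = 0
      rw [hxs, mul_zero]
    · intro a b hab
      have h7 := indep_of_pair (q := q) (a := b * l) (b := a) hs0' hxy hsy (by
        have := congrArg (fun v : coordSub F n k => (v : Fin n → F)) hab
        simp only [Submodule.coe_add, Submodule.coe_smul, Submodule.coe_zero] at this
        rw [← this, smul_smul, add_comm])
      exact ⟨h7.2, (mul_eq_zero.1 h7.1).resolve_right hl⟩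
  -- all eigenvalues agree
  have h6 : ∀ s x : coordSub F n k, s ≠ 0 → x ≠ 0 → hermForm n F q (s : Fin n → F) s = 0 →
      hermForm n F q (x : Fin n → F) x = 0 → ∀ c : F, T s = c • s → T x = c • x := by
    intro s x hs0 hx0 hss hxx c hc
    by_cases hsx : hermForm n F q (s : Fin n → F) x = 0
    · by_cases hind : ∀ a b : F, a • s + b • x = 0 → a = 0 ∧ b = 0
      · exact h3 s x hss hxx hsx hind c hc
      · push Not at hind
        obtain ⟨a, b, hab, hne⟩ := hind
        have hb : b ≠ 0 := by
          rintro rfl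
          rw [zero_smul, add_zero] at hab
          exact hne ((smul_eq_zero.1 hab).resolve_right hs0) rfl
        have e1 : x = (-(b⁻¹ * a)) • s := by
          have h7 : b • x = -(a • s) := by rw [← sub_eq_zero, sub_neg_eq_add, add_comm]; exact hab
          calc x = b⁻¹ • b • x := by rw [smul_smul, inv_mul_cancel₀ hb, one_smul]
            _ = _ := by rw [h7]; module
        rw [e1]
        exact h5 s hs0 hss c hc _
    · -- rescale
      set a := hermForm n F q (s : Fin n → F) x with ha
      have h7 := hT x hxx s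
      rw [← ha, hc] at h7
      have h8 : T (a • x) = c • a • x := by
        rw [h7, Submodule.coe_smul, herm_smul_left, ← ha, smul_smul]
      have h9 := h5 (a • x) (smul_ne_zero hsx hx0)
        (by rw [Submodule.coe_smul, herm_smul_left, herm_smul_right, hxx]; ring) c h8 a⁻¹
      rwa [smul_smul, inv_mul_cancel₀ hsx, one_smul] at h9
  -- a first isotropic vector
  let i0 : Fin n := ⟨0, by omega⟩
  obtain ⟨x, hx, y, hy, hxx, hyy, hxy, -, -⟩ := exists_pair_coord hF hk hkn
    (Submodule.zero_mem (coordSub F n k)) (herm_zero_left (0 : Fin n → F))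
  have hx0 : (⟨x, hx⟩ : coordSub F n k) ≠ 0 := by
    intro h
    have h7 := congrArg (fun v : coordSub F n k => (v : Fin n → F)) h
    simp only [Submodule.coe_zero] at h7
    rw [h7, herm_zero_left] at hxy
    exact zero_ne_one hxy
  obtain ⟨c, hc⟩ := h1 ⟨x, hx⟩ hx0 hxx
  have h10 : ∀ s : coordSub F n k, hermForm n F q (s : Fin n → F) s = 0 → T s = c • s := by
    intro s hss
    by_cases hs0 : s = 0
    · rw [hs0, map_zero, smul_zero]
    · exact h6 ⟨x, hx⟩ s hx0 hs0 hxx hss c hc
  refine ⟨c, fun w => ?_⟩
  -- the additive subgroup of good vectors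
  have h11 : ∀ i : Fin n, ∀ hi : i.val < k, ∀ l : F, T (l • ⟨Pi.single i 1, single_mem_coordSub hi 1⟩) =
      c • l • ⟨Pi.single i 1, single_mem_coordSub hi 1⟩ := by
    intro i hi l
    obtain ⟨j, hij, hj⟩ : ∃ j : Fin n, i ≠ j ∧ j.val < k := by
      by_cases h0 : i = i0
      · exact ⟨⟨1, by omega⟩, by rw [h0]; simp [i0], by simp; omega⟩
      · exact ⟨i0, h0, by simp [i0]; omega⟩
    obtain ⟨p, p', a, b, ha, hp, hp', hpp, hp'p', hpp'⟩ := exists_hyp_pair (q := q) hF hij
    have hpk : p ∈ coordSub F n k := by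
      rw [hp]; exact add_mem (single_mem_coordSub hi 1) (Submodule.smul_mem _ _ (single_mem_coordSub hj 1))
    have hp'k : p' ∈ coordSub F n k := by
      rw [hp']; exact add_mem (single_mem_coordSub hi 1) (Submodule.smul_mem _ _ hpk)
    have e1 : (⟨Pi.single i 1, single_mem_coordSub hi 1⟩ : coordSub F n k) = ⟨p', hp'k⟩ + (-b) • ⟨p, hpk⟩ := by
      apply Subtype.ext
      change (Pi.single i 1 : Fin n → F) = p' + (-b) • p
      rw [hp']; module
    have e2 : l • (⟨Pi.single i 1, single_mem_coordSub hi 1⟩ : coordSub F n k) =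
        l • ⟨p', hp'k⟩ + (l * (-b)) • ⟨p, hpk⟩ := by
      rw [e1]; module
    rw [e2, map_add, h10 (l • ⟨p', hp'k⟩) (by
        rw [Submodule.coe_smul, herm_smul_left, herm_smul_right]; change l * (l ^ q * hermForm n F q p' p') = 0
        rw [hp'p']; ring),
      h10 ((l * (-b)) • ⟨p, hpk⟩) (by
        rw [Submodule.coe_smul, herm_smul_left, herm_smul_right]
        change (l * (-b)) * ((l * (-b)) ^ q * hermForm n F q p p) = 0
        rw [hpp]; ring), smul_add]
  have e3 : w = ∑ i : Fin n, if h : i.val < k then (w : Fin n → F) i • (⟨Pi.single i 1, single_mem_coordSub h 1⟩ :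
      coordSub F n k) else 0 := by
    apply Subtype.ext
    rw [Submodule.coe_sum]
    funext j
    rw [Finset.sum_apply, Finset.sum_eq_single j]
    · by_cases h : j.val < k
      · rw [dif_pos h, Submodule.coe_smul, Pi.smul_apply]
        change (w : Fin n → F) j = (w : Fin n → F) j * (Pi.single j 1 : Fin n → F) j
        rw [Pi.single_eq_same, mul_one]
      · rw [dif_neg h, w.2 j (by omega)]; rfl
    · intro i _ hij
      by_cases h : i.val < k
      · rw [dif_pos h, Submodule.coe_smul, Pi.smul_apply]
        change (w : Fin n → F) i * (Pi.single i 1 : Fin n → F) j = 0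
        rw [Pi.single_eq_of_ne (Ne.symm hij), mul_zero]
      · rw [dif_neg h]; rfl
    · intro h; exact absurd (Finset.mem_univ j) h
  conv_lhs => rw [e3]
  conv_rhs => rw [e3]
  rw [map_sum, Finset.smul_sum]
  refine Finset.sum_congr rfl fun i _ => ?_
  by_cases h : i.val < k
  · rw [dif_pos h, h11 i h]
  · rw [dif_neg h, map_zero, smul_zero]

end Cfsg.Agent.KFacts.Unit
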