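import Mathlib
import Cfsg.Agent.KFacts.Unit.PentExt
import Cfsg.Agent.LieClassical.HermSimple

/-!
# An automorphism of `PP 2 e` preserving `QQ` extends to `PSU n F 2`
-/

set_option autoImplicit false

namespace Cfsg.Agent.KFacts.Unit

open Cfsg Matrix Cfsg.Agent.LieClassical.HermBasic Cfsg.Agent.LieClassical.HermSiegel
  Cfsg.Agent.LieClassical.HermGen Cfsg.Agent.LieClassical.SUBasic
  Cfsg.Agent.ClassicalGeometry.PSUAutBasic Cfsg.Agent.ClassicalGeometry.PSUAutSylow
  Cfsg.Agent.ClassicalGeometry.PSUAutUnip Cfsg.Agent.ClassicalGeometry.PSUAutPhi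
  Cfsg.Agent.ClassicalGeometry.PSUAutExt Cfsg.Agent.ClassicalGeometry.PSUAutSemi

open Cfsg.Agent.ClassicalGeometry.PSUAutCount (gm semiConj toAut herm_gm act_semiConj herm_semi
  gm_inv_mulVec gm_mulVec_inv)

open scoped commutatorElement

variable {F : Type*} [Field F] [Fintype F] {q n : ℕ}

/-- A semilinear map preserving the symmetry of the form is a semisimilarity. -/
theorem exists_scale_of_symm {hF : Fintype.card F = q ^ 2} (hn : 3 ≤ n)
    {φ : coordSub F n (n - 2) ≃+ coordSub F n (n - 2)}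
    (hsymm : ∀ w w' : coordSub F n (n - 2), hermForm n F q (w : Fin n → F) w' = hermForm n F q (w' : Fin n → F) w →
      hermForm n F q (φ w : Fin n → F) (φ w') = hermForm n F q (φ w' : Fin n → F) (φ w))
    {ρ : F ≃+* F} (hρ : ∀ (c : F) (w : coordSub F n (n - 2)), φ (c • w) = ρ c • φ w) :
    ∃ κ : F, κ ≠ 0 ∧ κ ^ q = κ ∧ ∀ w w' : coordSub F n (n - 2),
      hermForm n F q (φ w : Fin n → F) (φ w') = κ * ρ (hermForm n F q (w : Fin n → F) w') := by
  have hperp : ∀ w w' : coordSub F n (n - 2), hermForm n F q (w : Fin n → F) w' = 0 →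
      hermForm n F q (φ w : Fin n → F) (φ w') = 0 := by
    intro w w' hw
    apply eq_zero_of_forall_fixed hF
    intro d
    have h1 := hsymm (ρ.symm d • w) w' (by
      rw [Submodule.coe_smul, herm_smul_left, herm_smul_right, hw, herm_eq_zero_swap hF hw]
      ring)
    rw [hρ, RingEquiv.apply_symm_apply, Submodule.coe_smul, herm_smul_left, herm_smul_right] at h1
    rw [mul_pow, ← herm_swap hF]
    exact h1.symm
  let i0 : Fin n := ⟨0, by omega⟩
  have hi0 : i0.val < n - 2 := by simp [i0]; omega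
  set κ := hermForm n F q (φ (bas F n i0) : Fin n → F) (φ (bas F n i0)) with hκ
  have hκi : ∀ i : Fin n, i.val < n - 2 →
      hermForm n F q (φ (bas F n i) : Fin n → F) (φ (bas F n i)) = κ := by
    intro i hi
    by_cases h0 : i = i0
    · rw [h0]
    · have h1 := hperp (bas F n i + bas F n i0) (bas F n i - bas F n i0) (by
        rw [Submodule.coe_add, Submodule.coe_sub, herm_add_left, herm_sub_right hF,
          herm_sub_right hF, herm_bas hF hi, herm_bas hF hi0, herm_bas_ne hF h0,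
          herm_bas_ne hF (Ne.symm h0)]
        ring)
      rw [map_add, map_sub, Submodule.coe_add, Submodule.coe_sub, herm_add_left,
        herm_sub_right hF, herm_sub_right hF, hperp _ _ (herm_bas_ne hF h0),
        hperp _ _ (herm_bas_ne hF (Ne.symm h0)), ← hκ] at h1
      linear_combination h1
  have hform : ∀ w w' : coordSub F n (n - 2),
      hermForm n F q (φ w : Fin n → F) (φ w') = κ * ρ (hermForm n F q (w : Fin n → F) w') := by
    intro w w'
    have e1 : ∀ w : coordSub F n (n - 2), (φ w : Fin n → F) =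
        ∑ i, ρ ((w : Fin n → F) i) • (φ (bas F n i) : Fin n → F) := by
      intro w
      conv_lhs => rw [eq_sum_bas w]
      rw [map_sum, Submodule.coe_sum]
      exact Finset.sum_congr rfl fun i _ => by rw [hρ, Submodule.coe_smul]
    rw [e1 w, e1 w', herm_sum_left, herm_def (w : Fin n → F), map_sum, Finset.mul_sum]
    refine Finset.sum_congr rfl fun i _ => ?_
    rw [herm_smul_left, herm_sum_right hF, Finset.sum_eq_single i]
    · rw [herm_smul_right, map_mul, map_pow]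
      by_cases hi : i.val < n - 2
      · rw [hκi i hi]; ring
      · rw [w.2 i (by omega), map_zero]; ring
    · intro j _ hji
      rw [herm_smul_right, hperp _ _ (herm_bas_ne hF (Ne.symm hji)), mul_zero]
    · intro h; exact absurd (Finset.mem_univ i) h
  refine ⟨κ, ?_, herm_self_pow hF _, hform⟩
  intro h0
  have h1 := hform (φ.symm (bas F n i0)) (φ.symm (bas F n i0))
  rw [AddEquiv.apply_symm_apply, h0, zero_mul, herm_bas hF hi0] at h1
  exact one_ne_zero h1

variable {e f : Fin n → F}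

/-- An automorphism of `PSU` inducing the same map on `V₁`. -/
theorem IndP.exists_toAut {hF : Fintype.card F = q ^ 2} [CharP F 2] (hn : 6 ≤ n) (H : IsFrame q e f)
    {β : MulAut ↥(PP q e : Subgroup (PSU n F q))} {φ : coordSub F n (n - 2) ≃+ coordSub F n (n - 2)}
    (hφ : IndP hF β φ) : ∃ γ : MulAut (PSU n F q), Ind hF e γ φ ∧ (∀ x ∈ PP q e, γ x ∈ PP q e) := by
  obtain ⟨ρ, hρ⟩ := hφ.exists_semilinear hn H
  obtain ⟨κ, hκ0, hκq, hform⟩ := exists_scale_of_symm (hF := hF) (by omega)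
    (fun w w' hw => IndP.herm_symm (by omega) H hφ hw) hρ
  obtain ⟨A, t, ht0, ht, hAe, hAf, hAw⟩ := exists_GU hF H φ ρ hρ hκ0 hκq hform
  have htq : t ^ q ≠ 0 := pow_ne_zero _ ht0
  have hc : t⁻¹ * κ = t ^ q := by rw [← ht, inv_mul_cancel_left₀ ht0]
  rw [hc] at hAe
  refine ⟨toAut A ρ, ?_, ?_⟩
  · intro w μ h
    have h1 : IsSiegel q (t ^ q • e) (t⁻¹ • (φ w : Fin n → F)) (ρ μ) := by
      have := isSiegel_semi A ρ h
      rwa [hAe, hAw] at this
    have h2 : (t ^ q) ^ q • t⁻¹ • (φ w : Fin n → F) = φ w := by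
      rw [pow_q_pow_q hF, smul_smul, mul_inv_cancel₀ ht0, one_smul]
    have h3 : IsSiegel q e (φ w : Fin n → F) (t ^ q * (t ^ q) ^ q * ρ μ) := by
      refine ⟨H.ee, ((H.mem _).1 (φ w).2).1, ?_⟩
      have h4 := h1.tr
      have h5 : hermForm n F q (φ w : Fin n → F) (φ w) =
          (t * t ^ q) * hermForm n F q (t⁻¹ • (φ w : Fin n → F)) (t⁻¹ • (φ w : Fin n → F)) := by
        rw [herm_smul_left, herm_smul_right, inv_pow]
        field_simp
      rw [h5, pow_q_pow_q hF, mul_pow, mul_pow, pow_q_pow_q hF]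
      linear_combination (t * t ^ q) * h4
    refine ⟨_, h3, ?_⟩
    rw [Cfsg.Agent.ClassicalGeometry.PSUAutMain.toAut_pr', semiConj_siegel]
    congr 1
    have h6 := siegel_smul hF (u := e) (c := t ^ q) (w := t⁻¹ • (φ w : Fin n → F)) (μ := ρ μ)
      ⟨H.ee, by
        have := h1.orth
        rw [herm_smul_right] at this
        exact (mul_eq_zero.1 this).resolve_left (by rw [pow_q_pow_q hF]; exact ht0), h1.tr⟩
    rw [siegel_congr hF _ h1 hAe (hAw w) rfl, h6]
    exact siegel_congr hF _ _ rfl h2 rfl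
  · intro x hx
    obtain ⟨l, hl, rfl⟩ := mem_PP.1 hx
    rw [Cfsg.Agent.ClassicalGeometry.PSUAutMain.toAut_pr']
    refine mem_PP.2 ⟨_, ?_, rfl⟩
    have h1 := act_semiConj A ρ l e
    rw [hl, hAe, act_smul] at h1
    exact smul_right_injective _ htq h1

/-- The elements of the field with four elements. -/
theorem exists_omega (hF : Fintype.card F = 2 ^ 2) [CharP F 2] :
    ∃ ω : F, ω ^ 2 = ω + 1 ∧ ∀ x : F, x = 0 ∨ x = 1 ∨ x = ω ∨ x = ω + 1 := by
  classical
  obtain ⟨ω, hω⟩ : ∃ ω : F, ω ∉ ({0, 1} : Finset F) := by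
    by_contra h
    push Not at h
    have h1 : Fintype.card F ≤ ({0, 1} : Finset F).card := by
      rw [← Finset.card_univ]
      exact Finset.card_le_card fun x _ => h x
    have h2 : ({0, 1} : Finset F).card ≤ 2 := Finset.card_le_two
    omega
  simp only [Finset.mem_insert, Finset.mem_singleton, not_or] at hω
  have h2 : (2 : F) = 0 := CharTwo.two_eq_zero
  have h4 : ω ^ 4 = ω := by
    have := FiniteField.pow_card ω
    rwa [hF] at this
  have h3 : ω ^ 2 = ω + 1 := by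
    have h5 : ω * (ω - 1) * (ω ^ 2 + ω + 1) = 0 := by linear_combination h4
    rcases mul_eq_zero.1 h5 with h6 | h6
    · rcases mul_eq_zero.1 h6 with h7 | h7
      · exact absurd h7 hω.1
      · exact absurd (sub_eq_zero.1 h7) hω.2
    · linear_combination h6 - (ω + 1) * h2
  refine ⟨ω, h3, fun x => ?_⟩
  have hx : x ^ 4 = x := by
    have := FiniteField.pow_card x
    rwa [hF] at this
  have h5 : x * (x - 1) * ((x - ω) * (x - (ω + 1))) = 0 := by
    have e : (x - ω) * (x - (ω + 1)) = x ^ 2 + x + 1 := by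
      linear_combination h3 - x * h2 * (ω + 1) + h2 * (ω)
    rw [e]
    linear_combination hx
  rcases mul_eq_zero.1 h5 with h6 | h6
  · rcases mul_eq_zero.1 h6 with h7 | h7
    · exact Or.inl h7
    · exact Or.inr (Or.inl (sub_eq_zero.1 h7))
  · rcases mul_eq_zero.1 h6 with h7 | h7
    · exact Or.inr (Or.inr (Or.inl (sub_eq_zero.1 h7)))
    · exact Or.inr (Or.inr (Or.inr (sub_eq_zero.1 h7)))

/-- An additive map `F → {0, 1}` is `x ↦ Tr (x a²)`. -/
theorem exists_trace_rep (hF : Fintype.card F = 2 ^ 2) [CharP F 2] (c : F →+ F) (hc : ∀ x, c x = 0 ∨ c x = 1) :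
    ∃ a : F, ∀ x, c x = x * a ^ 2 - a * x ^ 2 := by
  obtain ⟨ω, h3, hall⟩ := exists_omega hF
  have h2 : (2 : F) = 0 := CharTwo.two_eq_zero
  have sq : ∀ x, c x ^ 2 = c x := by
    intro x
    rcases hc x with h | h <;> rw [h] <;> ring
  refine ⟨c ω + c 1 * ω, fun x => ?_⟩
  have s1 := sq 1
  have s2 := sq ω
  have key : ∀ x y : F, c x = x * (c ω + c 1 * ω) ^ 2 - (c ω + c 1 * ω) * x ^ 2 →
      c y = y * (c ω + c 1 * ω) ^ 2 - (c ω + c 1 * ω) * y ^ 2 →
      c (x + y) = (x + y) * (c ω + c 1 * ω) ^ 2 - (c ω + c 1 * ω) * (x + y) ^ 2 := by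
    intro x y hx hy
    rw [map_add, hx, hy]
    linear_combination (c ω + c 1 * ω) * x * y * h2
  have e1 : c 1 = 1 * (c ω + c 1 * ω) ^ 2 - (c ω + c 1 * ω) * 1 ^ 2 := by
    linear_combination -s2 - c 1 * c ω * ω * h2 - s1 * ω ^ 2 - c 1 * h3
  have e2 : c ω = ω * (c ω + c 1 * ω) ^ 2 - (c ω + c 1 * ω) * ω ^ 2 := by
    have h4 : ω ^ 3 = 1 := by linear_combination (ω + 1) * h3 + ω * h2
    linear_combination -ω * s2 - c 1 * c ω * ω ^ 2 * h2 - s1 * ω ^ 3 + c ω * h3 + c ω * h2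
  rcases hall x with h | h | h | h
  · rw [h, map_zero]; ring
  · rw [h]; exact e1
  · rw [h]; exact e2
  · rw [h]; exact key _ _ e2 e1

/-- An additive map `V₁ → {0, 1}` is `w ↦ (w, w₀) - (w₀, w)`. -/
theorem exists_form_rep (hF : Fintype.card F = 2 ^ 2) [CharP F 2] (c : coordSub F n (n - 2) →+ F)
    (hc : ∀ x, c x = 0 ∨ c x = 1) :
    ∃ w0 : coordSub F n (n - 2), ∀ w : coordSub F n (n - 2),
      c w = hermForm n F 2 (w : Fin n → F) w0 - hermForm n F 2 (w0 : Fin n → F) w := by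
  have key : ∀ i : Fin n, ∃ a : F, ∀ x : F, c (x • bas F n i) = x * a ^ 2 - a * x ^ 2 := by
    intro i
    let ci : F →+ F :=
      { toFun := fun x => c (x • bas F n i)
        map_zero' := by rw [zero_smul, map_zero]
        map_add' := fun x y => by rw [add_smul, map_add] }
    exact exists_trace_rep hF ci (fun x => hc _)
  choose a ha using key
  refine ⟨∑ i, a i • bas F n i, fun w => ?_⟩
  have e0 : c w = ∑ i, ((w : Fin n → F) i * (a i) ^ 2 - a i * (w : Fin n → F) i ^ 2) := by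
    conv_lhs => rw [eq_sum_bas w]
    rw [map_sum]
    exact Finset.sum_congr rfl fun i _ => ha i _
  have e1 : hermForm n F 2 (w : Fin n → F) ((∑ i, a i • bas F n i : coordSub F n (n - 2)) : Fin n → F) =
      ∑ i, (w : Fin n → F) i * (a i) ^ 2 := by
    rw [Submodule.coe_sum, herm_sum_right hF]
    refine Finset.sum_congr rfl fun i _ => ?_
    rw [Submodule.coe_smul, herm_smul_right]
    by_cases hi : i.val < n - 2
    · rw [bas_pos hi, herm_single_right hF, one_pow]; ring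
    · rw [w.2 i (by omega), bas_neg hi]
      change a i ^ 2 * hermForm n F 2 w 0 = 0 * a i ^ 2
      rw [herm_zero_right hF]; ring
  have e2 : hermForm n F 2 ((∑ i, a i • bas F n i : coordSub F n (n - 2)) : Fin n → F) (w : Fin n → F) =
      ∑ i, a i * (w : Fin n → F) i ^ 2 := by
    rw [herm_swap hF, e1, sum_pow_q hF]
    refine Finset.sum_congr rfl fun i _ => ?_
    rw [mul_pow, pow_q_pow_q hF]; ring
  rw [e0, e1, e2, ← Finset.sum_sub_distrib]

omit [Fintype F] in
/-- `x = 0` or `x = 1` for trace zero elements, `q = 2`. -/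
theorem zero_or_one_of_trace {x : F} (h : x + x ^ 2 = 0) [CharP F 2] : x = 0 ∨ x = 1 := by
  have h2 : (2 : F) = 0 := CharTwo.two_eq_zero
  have h1 : x * (x - 1) = 0 := by linear_combination h - x * h2
  rcases mul_eq_zero.1 h1 with h3 | h3
  · exact Or.inl h3
  · exact Or.inr (sub_eq_zero.1 h3)

/-- A homomorphism from a perfect subgroup that is the identity modulo a central subgroup is the identity. -/
theorem eq_of_perfect {A : Type*} [Group A] {P R : Subgroup A} (hP : ⁅P, P⁆ = P) (hRP : R ≤ P)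
    (hR : ∀ p ∈ P, ∀ r ∈ R, p * r = r * p) (Δ : ↥P →* A) (h : ∀ x : ↥P, (x : A)⁻¹ * Δ x ∈ R) (x : ↥P) : Δ x = x := by
  have hcomm : ∀ x y : ↥P, Δ ⁅x, y⁆ = (⁅x, y⁆ : ↥P) := by
    intro x y
    set a := (x : A)⁻¹ * Δ x with ha
    set b := (y : A)⁻¹ * Δ y with hb
    have ea : Δ x = x * a := by rw [ha]; group
    have eb : Δ y = y * b := by rw [hb]; group
    have ca : ∀ p ∈ P, p * a = a * p := fun p hp => hR p hp _ (h x)
    have cb : ∀ p ∈ P, p * b = b * p := fun p hp => hR p hp _ (h y)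
    rw [commutatorElement_def, map_mul, map_mul, map_mul, map_inv, map_inv, ea, eb]
    simp only [Subgroup.coe_mul, Subgroup.coe_inv]
    have hbP : b ∈ P := hRP (h y)
    calc (x : A) * a * (y * b) * (x * a)⁻¹ * (y * b)⁻¹
        = x * (a * (y * b)) * (a⁻¹ * (x : A)⁻¹) * (b⁻¹ * (y : A)⁻¹) := by group
      _ = x * ((y * b) * a) * (a⁻¹ * (x : A)⁻¹) * (b⁻¹ * (y : A)⁻¹) := by rw [← ca _ (mul_mem y.2 hbP)]
      _ = x * y * (b * (x : A)⁻¹) * b⁻¹ * (y : A)⁻¹ := by group
      _ = x * y * ((x : A)⁻¹ * b) * b⁻¹ * (y : A)⁻¹ := by rw [← cb _ (inv_mem x.2)]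
      _ = _ := by group
  let M : Subgroup ↥P :=
    { carrier := {x | Δ x = x}
      one_mem' := by change Δ 1 = _; rw [map_one]; rfl
      mul_mem' := by
        intro a b ha hb
        change Δ (a * b) = ((a * b : ↥P) : A)
        rw [map_mul, show Δ a = a from ha, show Δ b = b from hb]; rfl
      inv_mem' := by
        intro a ha
        change Δ a⁻¹ = ((a⁻¹ : ↥P) : A)
        rw [map_inv, show Δ a = a from ha]; rfl }
  have hmain : ⁅P, P⁆ ≤ M.map P.subtype := by
    rw [Subgroup.commutator_le]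
    intro a ha b hb
    exact ⟨⁅(⟨a, ha⟩ : ↥P), (⟨b, hb⟩ : ↥P)⁆, hcomm ⟨a, ha⟩ ⟨b, hb⟩, rfl⟩
  obtain ⟨x', hx', hxx⟩ := hmain (by rw [hP]; exact x.2)
  have : x' = x := Subtype.ext hxx
  rw [← this]
  exact hx'

set_option maxHeartbeats 1000000 in
/-- **An automorphism of `PP 2 e` preserving `QQ` is the restriction of an automorphism of `PSU n F 2`** (frame form). -/
theorem ext_frame [CharP F 2] (hF : Fintype.card F = 2 ^ 2) (hn : 6 ≤ n) (H : IsFrame 2 e f)
    {β : MulAut ↥(PP 2 e : Subgroup (PSU n F 2))} (hβ : PresQ hF H.ee β) :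
    ∃ α : MulAut (PSU n F 2), ∀ x : ↥(PP 2 e : Subgroup (PSU n F 2)), (β x : PSU n F 2) = α x := by
  have he0 := frame_ne_zero H
  have h2 : (2 : F) = 0 := CharTwo.two_eq_zero
  obtain ⟨φ, hφ, -⟩ := exists_indP_equiv hF (by omega) H hβ
  obtain ⟨γ, hγ, hγP⟩ := hφ.exists_toAut hn H
  -- `γ` is onto on `PP`
  have hγ' : ∀ y ∈ PP 2 e, γ⁻¹ y ∈ PP 2 e := by
    have hle : (PP 2 e : Subgroup (PSU n F 2)).map (γ : PSU n F 2 →* PSU n F 2) ≤ PP 2 e := by
      rintro _ ⟨x, hx, rfl⟩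
      exact hγP x hx
    have hcard : Nat.card ((PP 2 e : Subgroup (PSU n F 2)).map (γ : PSU n F 2 →* PSU n F 2)) =
        Nat.card (PP 2 e : Subgroup (PSU n F 2)) :=
      (Nat.card_congr (Subgroup.equivMapOfInjective _ _ γ.injective).toEquiv).symm
    have heq := Subgroup.eq_of_le_of_card_ge hle hcard.ge
    intro y hy
    rw [← heq] at hy
    obtain ⟨x, hx, rfl⟩ := hy
    have : γ⁻¹ ((γ : PSU n F 2 →* PSU n F 2) x) = x := MulAut.inv_apply_self _ γ x
    rw [this]
    exact hx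
  -- the map `δ = γ⁻¹ β`
  let δ : ↥(PP 2 e : Subgroup (PSU n F 2)) →* PSU n F 2 :=
    ((γ⁻¹ : MulAut (PSU n F 2)) : PSU n F 2 →* PSU n F 2).comp ((PP 2 e : Subgroup (PSU n F 2)).subtype.comp
      (β : ↥(PP 2 e : Subgroup (PSU n F 2)) →* ↥(PP 2 e : Subgroup (PSU n F 2))))
  have hδ : ∀ x, δ x = γ⁻¹ (β x : PSU n F 2) := fun _ => rfl
  have hγδ : ∀ x, γ (δ x) = β x := fun x => by rw [hδ, MulAut.apply_inv_self]
  have hδP : ∀ x, δ x ∈ PP 2 e := fun x => hγ' _ (β x).2
  -- `γ` on transvections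
  have h11 : (1 : F) + 1 ^ 2 = 0 := by rw [one_pow]; exact CharTwo.add_self_eq_zero 1
  have hRR : ∀ x ∈ RR hF e H.ee, x = 1 ∨ x = pr n F 2 (transv hF e H.ee 1 h11) := by
    intro x hx
    obtain ⟨μ, hμ, rfl⟩ := mem_RR.1 hx
    rcases zero_or_one_of_trace hμ with rfl | rfl
    · left; rw [transv_zero, map_one]
    · right; rfl
  set z := pr n F 2 (transv hF e H.ee 1 h11) with hz
  have hzR : z ∈ RR hF e H.ee := mem_RR.2 ⟨_, _, rfl⟩
  have hzP : z ∈ PP 2 e := QQ_le_PP hF H.ee (RR_le_QQ hF H.ee hzR)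
  have hz1 : z ≠ 1 := by
    intro h0
    have h3 : IsSiegel 2 e 0 (0 : F) := isSiegel_zero H.ee (by ring)
    have h4 : pr n F 2 (siegel hF e 0 1 (isSiegel_zero H.ee h11)) = pr n F 2 (siegel hF e 0 0 h3) := by
      rw [siegel_zero, map_one]
      exact h0
    exact one_ne_zero (pr_siegel_inj hF (by omega) H (Submodule.zero_mem _) (Submodule.zero_mem _) _ _ h4).2
  have hγz : γ z = z := by
    obtain ⟨μ', h', e1⟩ := hγ 0 1 (by exact isSiegel_zero H.ee h11)
    have h3 : γ z ∈ RR hF e H.ee := by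
      have h4 : IsSiegel 2 e 0 μ' := by
        rw [map_zero] at h'
        exact h'
      refine mem_RR.2 ⟨μ', by have := h4.tr; rwa [herm_zero_left, add_zero] at this, ?_⟩
      refine Eq.trans e1 ?_
      congr 1
      exact siegel_congr hF _ _ rfl (by rw [map_zero]; rfl) rfl
    rcases hRR _ h3 with h4 | h4
    · exact absurd ((MulEquiv.map_eq_one_iff γ).1 h4) hz1
    · exact h4
  have hδz : ∀ x : ↥(PP 2 e : Subgroup (PSU n F 2)), (x : PSU n F 2) ∈ RR hF e H.ee → δ x = x := by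
    intro x hx
    have h3 : (β x : PSU n F 2) = x := by
      rcases hRR _ hx with h4 | h4
      · have h5 : x = 1 := Subtype.ext h4
        rw [h5, map_one]
      · rcases hRR _ (hβ.map_RR (by omega) he0 hx) with h5 | h5
        · exfalso
          have h6 : β x = 1 := Subtype.ext h5
          have h7 := (MulEquiv.map_eq_one_iff β).1 h6
          rw [h7] at h4
          exact hz1 h4.symm
        · rw [h5, h4]
    rw [hδ, h3]
    have h4 : γ (x : PSU n F 2) = x := by
      rcases hRR _ hx with h4 | h4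
      · rw [h4, map_one]
      · rw [h4, hγz]
    have h5 := congrArg (fun y => γ⁻¹ y) h4
    simp only [MulAut.inv_apply_self] at h5
    exact h5.symm
  -- `δ` on Siegel elements of `V₁`
  have hδs : ∀ w : coordSub F n (n - 2), ∃ c : F, (c = 0 ∨ c = 1) ∧ ∀ (μ : F) (h : IsSiegel 2 e (w : Fin n → F) μ),
      ∃ h' : IsSiegel 2 e (w : Fin n → F) (μ + c),
        δ ⟨_, siegel_mem_PP hF h⟩ = pr n F 2 (siegel hF e w (μ + c) h') := by
    intro w
    have hadd : ∀ (μ : F), IsSiegel 2 e (w : Fin n → F) μ → ∀ c, c + c ^ 2 = 0 →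
        IsSiegel 2 e (w : Fin n → F) (μ + c) := by
      intro μ h c hc
      refine ⟨h.iso, h.orth, ?_⟩
      rw [add_pow_q hF]
      linear_combination h.tr + hc
    have hmul : ∀ (μ : F) (h : IsSiegel 2 e (w : Fin n → F) μ) (c : F) (hc : c + c ^ 2 = 0),
        siegel hF e w (μ + c) (hadd μ h c hc) = siegel hF e w μ h * transv hF e H.ee c hc := by
      intro μ h c hc
      rw [transv, siegel_mul]
      exact siegel_congr hF _ _ rfl (add_zero _).symm (by rw [herm_zero_left, sub_zero])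
    obtain ⟨μ0, h0⟩ := exists_isSiegel hF H w.2
    obtain ⟨μ1, h1, e1⟩ := hφ w μ0 h0
    obtain ⟨μ2, h3, e2⟩ := hγ w μ0 h0
    set c := μ1 - μ2 with hc
    have hct : c + c ^ 2 = 0 := by
      have t1 := h1.tr
      have t2 := h3.tr
      rw [hc, sub_pow_q hF]
      linear_combination t1 - t2
    have hc01 := zero_or_one_of_trace hct
    have hcz : γ (pr n F 2 (transv hF e H.ee c hct)) = pr n F 2 (transv hF e H.ee c hct) := by
      rcases hRR _ (mem_RR.2 ⟨c, hct, rfl⟩) with h4 | h4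
      · rw [h4, map_one]
      · rw [h4, hγz]
    have e3 : δ ⟨_, siegel_mem_PP hF h0⟩ = pr n F 2 (siegel hF e w (μ0 + c) (hadd μ0 h0 c hct)) := by
      apply γ.injective
      rw [hγδ, e1, hmul μ0 h0 c hct, map_mul, map_mul, e2, hcz, ← map_mul, transv, siegel_mul]
      congr 1
      exact siegel_congr hF _ _ rfl (add_zero _).symm (by rw [herm_zero_left, hc]; ring)
    refine ⟨c, hc01, fun μ h => ⟨hadd μ h c hct, ?_⟩⟩
    have hν : (μ - μ0) + (μ - μ0) ^ 2 = 0 := by
      have t1 := h.tr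
      have t2 := h0.tr
      rw [sub_pow_q hF]
      linear_combination t1 - t2
    have hm : pr n F 2 (transv hF e H.ee (μ - μ0) hν) ∈ RR hF e H.ee := mem_RR.2 ⟨_, _, rfl⟩
    have e4 : (⟨_, siegel_mem_PP hF h⟩ : ↥(PP 2 e : Subgroup (PSU n F 2))) =
        ⟨_, siegel_mem_PP hF h0⟩ * ⟨_, QQ_le_PP hF H.ee (RR_le_QQ hF H.ee hm)⟩ := by
      apply Subtype.ext
      rw [Subgroup.coe_mul]
      change pr n F 2 _ = pr n F 2 _ * pr n F 2 _
      rw [← map_mul, ← hmul μ0 h0]
      congr 1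
      exact siegel_congr hF _ _ rfl rfl (by ring)
    rw [e4, map_mul, e3, hδz _ hm, ← map_mul, transv, siegel_mul]
    congr 1
    exact siegel_congr hF _ _ rfl (add_zero _) (by rw [herm_zero_left]; ring)
  choose c hc01 hc using hδs
  have hcadd : ∀ w w' : coordSub F n (n - 2), c (w + w') = c w + c w' := by
    intro w w'
    obtain ⟨μ, h⟩ := exists_isSiegel hF H w.2
    obtain ⟨μ', h'⟩ := exists_isSiegel hF H w'.2
    obtain ⟨h1, e1⟩ := hc w μ h
    obtain ⟨h1', e1'⟩ := hc w' μ' h'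
    have h3 := h.mul hF h'
    obtain ⟨h4, e4⟩ := hc (w + w') _ h3
    have e5 : (⟨_, siegel_mem_PP hF h3⟩ : ↥(PP 2 e : Subgroup (PSU n F 2))) =
        ⟨_, siegel_mem_PP hF h⟩ * ⟨_, siegel_mem_PP hF h'⟩ := by
      apply Subtype.ext
      rw [Subgroup.coe_mul]
      change pr n F 2 _ = pr n F 2 _ * pr n F 2 _
      rw [← map_mul, siegel_mul]
    have e6 : pr n F 2 (siegel hF e ((w + w' : coordSub F n (n - 2)) : Fin n → F) _ h4) =
        pr n F 2 (siegel hF e _ _ (h1.mul hF h1')) := by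
      rw [← e4, ← siegel_mul hF h1 h1', map_mul, ← e1, ← e1', ← map_mul, ← e5]
      rfl
    have e7 := (pr_siegel_inj hF (by omega) H (w + w').2 (w + w').2 h4 (h1.mul hF h1') e6).2
    linear_combination e7
  obtain ⟨w0, hw0⟩ := exists_form_rep (n := n) hF
    { toFun := c, map_zero' := by have := hcadd 0 0; rw [add_zero] at this; exact left_eq_add.1 this,
      map_add' := hcadd } hc01
  obtain ⟨μ0, h0⟩ := exists_isSiegel hF H w0.2
  set s0 := pr n F 2 (siegel hF e w0 μ0 h0) with hs0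
  -- `δ` is conjugation by `s0` on `QQ`
  have hδQ : ∀ x : ↥(PP 2 e : Subgroup (PSU n F 2)), (x : PSU n F 2) ∈ QQ hF e H.ee → δ x = s0 * x * s0⁻¹ := by
    rintro ⟨x, hxP⟩ hx
    obtain ⟨w1, μ1, h1, rfl⟩ := mem_QQ.1 hx
    obtain ⟨w, hw, μ, h, e1⟩ := exists_normal hF H h1
    have e2 : (⟨pr n F 2 (siegel hF e w1 μ1 h1), hxP⟩ : ↥(PP 2 e : Subgroup (PSU n F 2))) =
        ⟨_, siegel_mem_PP hF h⟩ := Subtype.ext (congrArg (pr n F 2) e1)
    obtain ⟨h3, e3⟩ := hc ⟨w, hw⟩ μ h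
    rw [e2]
    refine e3.trans ?_
    change _ = pr n F 2 _ * pr n F 2 _ * (pr n F 2 _)⁻¹
    rw [← map_mul, ← map_inv, ← map_mul]
    congr 1
    have h5 := LieClassical.HermSimple.commutator_siegel hF h0 h
    have h6 : siegel hF e w0 μ0 h0 * siegel hF e w μ h * (siegel hF e w0 μ0 h0)⁻¹ =
        ⁅siegel hF e w0 μ0 h0, siegel hF e w μ h⁆ * siegel hF e w μ h := by
      rw [commutatorElement_def]; group
    rw [h6, h5, siegel_mul]
    refine siegel_congr hF _ _ rfl (zero_add _).symm ?_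
    have h7 := hw0 ⟨w, hw⟩
    change c ⟨w, hw⟩ = _ at h7
    rw [h7, herm_zero_right hF, sub_zero]
    linear_combination (hermForm n F 2 w w0 - hermForm n F 2 w0 w) * h2
  -- `δ` is conjugation by `s0` everywhere
  have hs0Q : s0 ∈ QQ hF e H.ee := mem_QQ.2 ⟨_, _, h0, rfl⟩
  have hs0P : s0 ∈ PP 2 e := QQ_le_PP hF H.ee hs0Q
  have hR : ∀ x : ↥(PP 2 e : Subgroup (PSU n F 2)), (x : PSU n F 2)⁻¹ * (s0⁻¹ * δ x * s0) ∈ RR hF e H.ee := by
    intro x
    refine mem_RR_of_comm hF (by omega) he0 H.ee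
      (mul_mem (inv_mem x.2) (mul_mem (mul_mem (inv_mem hs0P) (hδP x)) hs0P)) fun s hs => ?_
    have hsP := QQ_le_PP hF H.ee hs
    have e1 := hδQ ⟨s, hsP⟩ hs
    have hxs : (x : PSU n F 2) * s * (x : PSU n F 2)⁻¹ ∈ QQ hF e H.ee := PP_conj_QQ hF H.ee x.2 hs
    have e2 := hδQ (x * ⟨s, hsP⟩ * x⁻¹) hxs
    rw [map_mul, map_mul, map_inv, e1] at e2
    simp only [Subgroup.coe_mul, Subgroup.coe_inv] at e2
    -- `e2 : δ x * (s0 * s * s0⁻¹) * (δ x)⁻¹ = s0 * (x * s * x⁻¹) * s0⁻¹`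
    have e3 : s0⁻¹ * δ x * s0 * s * (s0⁻¹ * δ x * s0)⁻¹ = (x : PSU n F 2) * s * (x : PSU n F 2)⁻¹ := by
      have e4 : s0⁻¹ * δ x * s0 * s * (s0⁻¹ * δ x * s0)⁻¹ = s0⁻¹ * (δ x * (s0 * s * s0⁻¹) * (δ x)⁻¹) * s0 := by group
      rw [e4, e2]; group
    set y := s0⁻¹ * δ x * s0 with hy
    have e5 : y * s = (x : PSU n F 2) * s * (x : PSU n F 2)⁻¹ * y := by
      rw [← e3]; group
    calc (x : PSU n F 2)⁻¹ * y * s = (x : PSU n F 2)⁻¹ * (y * s) := by group
      _ = s * ((x : PSU n F 2)⁻¹ * y) := by rw [e5]; group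
  have hfix : ∀ x : ↥(PP 2 e : Subgroup (PSU n F 2)), s0⁻¹ * δ x * s0 = x := by
    let Δ : ↥(PP 2 e : Subgroup (PSU n F 2)) →* PSU n F 2 :=
      ((MulAut.conj s0⁻¹ : MulAut (PSU n F 2)) : PSU n F 2 →* PSU n F 2).comp δ
    have hΔ : ∀ x, Δ x = s0⁻¹ * δ x * s0 := by
      intro x
      change s0⁻¹ * δ x * s0⁻¹⁻¹ = _
      rw [inv_inv]
    intro x
    rw [← hΔ]
    exact eq_of_perfect (PP_perfect hF hn he0 H.ee) ((RR_le_QQ hF H.ee).trans (QQ_le_PP hF H.ee))
      (fun p hp r hr => PP_comm_RR hF H.ee hp hr) Δ (fun x => by rw [hΔ]; exact hR x) x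
  refine ⟨γ * MulAut.conj s0, fun x => ?_⟩
  rw [MulAut.mul_apply, MulAut.conj_apply, ← hγδ]
  congr 1
  rw [← hfix x]
  group

end Cfsg.Agent.KFacts.Unit
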