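import Mathlib
import Cfsg.Agent.KFacts.Unit.PentExtTwo
import Cfsg.Agent.KFacts.Unit.GLAct

/-!
# Automorphisms of `PP 2 u`, `u` isotropic; composition of semilinear automorphisms; cubes

`ext_point`: `ext_frame` for every isotropic vector. `toAut_mul`: composition. `toAut_cube`: the cube of a linear
automorphism of `PSU n F 2` is inner.
-/

set_option autoImplicit false

namespace Cfsg.Agent.KFacts.Unit

open Cfsg Matrix Cfsg.Agent.LieClassical.HermBasic Cfsg.Agent.LieClassical.HermSiegel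
  Cfsg.Agent.LieClassical.HermGen Cfsg.Agent.LieClassical.SUBasic
  Cfsg.Agent.ClassicalGeometry.PSUAutBasic Cfsg.Agent.ClassicalGeometry.PSUAutSylow
  Cfsg.Agent.ClassicalGeometry.PSUAutUnip Cfsg.Agent.ClassicalGeometry.PSUAutPhi
  Cfsg.Agent.ClassicalGeometry.PSUAutExt Cfsg.Agent.ClassicalGeometry.PSUAutSemi

open Cfsg.Agent.ClassicalGeometry.PSUAutCount (gm semiConj toAut herm_gm act_semiConj herm_semi
  gm_inv_mulVec gm_mulVec_inv gm_mul)

variable {F : Type*} [Field F] [Fintype F] {q n : ℕ}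

/-- Conjugation `PP e ≃ PP (act g e)`. -/
def cPP (g : SU n F q) (e : Fin n → F) :
    ↥(PP q e : Subgroup (PSU n F q)) ≃* ↥(PP q (act g e) : Subgroup (PSU n F q)) where
  toFun x := ⟨pr n F q g * x * (pr n F q g)⁻¹, PP_conj g x.2⟩
  invFun y := ⟨(pr n F q g)⁻¹ * y * pr n F q g, by
    have := PP_conj g⁻¹ y.2
    rw [map_inv, inv_inv, act_inv_act] at this
    exact this⟩
  left_inv x := Subtype.ext (by
    change (pr n F q g)⁻¹ * (pr n F q g * x * (pr n F q g)⁻¹) * pr n F q g = x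
    group)
  right_inv y := Subtype.ext (by
    change pr n F q g * ((pr n F q g)⁻¹ * y * pr n F q g) * (pr n F q g)⁻¹ = y
    group)
  map_mul' x y := Subtype.ext (by
    change pr n F q g * (x * y) * (pr n F q g)⁻¹ =
      pr n F q g * x * (pr n F q g)⁻¹ * (pr n F q g * y * (pr n F q g)⁻¹)
    group)

omit [Fintype F] in
theorem coe_cPP (g : SU n F q) (e : Fin n → F) (x : ↥(PP q e : Subgroup (PSU n F q))) :
    (cPP g e x : PSU n F q) = pr n F q g * x * (pr n F q g)⁻¹ := rfl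

omit [Fintype F] in
theorem coe_cPP_symm (g : SU n F q) (e : Fin n → F) (y : ↥(PP q (act g e) : Subgroup (PSU n F q))) :
    ((cPP g e).symm y : PSU n F q) = (pr n F q g)⁻¹ * y * pr n F q g := rfl

/-- Conjugation of `QQ`. -/
theorem QQ_conj_mem (hF : Fintype.card F = q ^ 2) {e : Fin n → F} (he : hermForm n F q e e = 0) (g : SU n F q)
    (hge : hermForm n F q (act g e) (act g e) = 0) {x : PSU n F q} (hx : x ∈ QQ hF e he) :
    pr n F q g * x * (pr n F q g)⁻¹ ∈ QQ hF (act g e) hge := by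
  obtain ⟨w, μ, h, rfl⟩ := mem_QQ.1 hx
  rw [← map_inv, ← map_mul, ← map_mul, conj_siegel]
  exact mem_QQ.2 ⟨_, _, h.map g, rfl⟩

theorem QQ_conj_mem' (hF : Fintype.card F = q ^ 2) {e : Fin n → F} (he : hermForm n F q e e = 0) (g : SU n F q)
    (hge : hermForm n F q (act g e) (act g e) = 0) {y : PSU n F q} (hy : y ∈ QQ hF (act g e) hge) :
    (pr n F q g)⁻¹ * y * pr n F q g ∈ QQ hF e he := by
  obtain ⟨w, μ, h, rfl⟩ := mem_QQ.1 hy
  have h1 : (pr n F q g)⁻¹ * pr n F q (siegel hF (act g e) w μ h) * pr n F q g =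
      pr n F q (g⁻¹ * siegel hF (act g e) w μ h * g⁻¹⁻¹) := by
    rw [inv_inv, map_mul, map_mul, map_inv]
  rw [h1, conj_siegel]
  have h2 : IsSiegel q e (act g⁻¹ w) μ := by
    have := h.map g⁻¹
    rwa [act_inv_act] at this
  exact mem_QQ.2 ⟨_, _, h2, by rw [siegel_congr hF _ h2 (act_inv_act g e) rfl rfl]⟩

/-- **An automorphism of `PP 2 u` preserving `QQ` is the restriction of an automorphism of `PSU n F 2`.** -/
theorem ext_point [CharP F 2] (hF : Fintype.card F = 2 ^ 2) (hn : 6 ≤ n) {u : Fin n → F} (hu0 : u ≠ 0)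
    (hu : hermForm n F 2 u u = 0) {β : MulAut ↥(PP 2 u : Subgroup (PSU n F 2))} (hβ : PresQ hF hu β) :
    ∃ α : MulAut (PSU n F 2), ∀ x : ↥(PP 2 u : Subgroup (PSU n F 2)), (β x : PSU n F 2) = α x := by
  obtain ⟨e, f, H⟩ := exists_frame (F := F) (q := 2) (n := n) hF (by omega)
  obtain ⟨g, -, hg⟩ := exists_map_iso hF (by omega) le_rfl (mem_coordSub_top e) (mem_coordSub_top u)
    (frame_ne_zero H) hu0 H.ee hu
  subst hg
  set E := cPP g e with hE
  have hβ' : PresQ hF H.ee ((E.trans β).trans E.symm) := by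
    intro x
    change (x : PSU n F 2) ∈ _ ↔ ((E.symm (β (E x)) : ↥(PP 2 e : Subgroup (PSU n F 2))) : PSU n F 2) ∈ _
    have h1 : (x : PSU n F 2) ∈ QQ hF e H.ee ↔ (E x : PSU n F 2) ∈ QQ hF (act g e) hu := by
      constructor
      · intro hx
        exact QQ_conj_mem hF H.ee g hu hx
      · intro hx
        have h2 := QQ_conj_mem' hF H.ee g hu hx
        rw [hE, coe_cPP] at h2
        have h3 : (pr n F 2 g)⁻¹ * (pr n F 2 g * (x : PSU n F 2) * (pr n F 2 g)⁻¹) * pr n F 2 g = x := by group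
        rwa [h3] at h2
    have h4 : ∀ y : ↥(PP 2 (act g e) : Subgroup (PSU n F 2)), (y : PSU n F 2) ∈ QQ hF (act g e) hu ↔
        (E.symm y : PSU n F 2) ∈ QQ hF e H.ee := by
      intro y
      constructor
      · intro hy
        exact QQ_conj_mem' hF H.ee g hu hy
      · intro hy
        have h2 := QQ_conj_mem hF H.ee g hu hy
        rw [hE, coe_cPP_symm] at h2
        have h3 : pr n F 2 g * ((pr n F 2 g)⁻¹ * (y : PSU n F 2) * pr n F 2 g) * (pr n F 2 g)⁻¹ = y := by group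
        rwa [h3] at h2
    rw [h1, hβ, h4]
  obtain ⟨α, hα⟩ := ext_frame hF hn H hβ'
  refine ⟨MulAut.conj (pr n F 2 g) * α * (MulAut.conj (pr n F 2 g))⁻¹, fun y => ?_⟩
  have h1 := hα (E.symm y)
  change ((E.symm (β (E (E.symm y))) : ↥(PP 2 e : Subgroup (PSU n F 2))) : PSU n F 2) = _ at h1
  rw [MulEquiv.apply_symm_apply, hE, coe_cPP_symm, coe_cPP_symm] at h1
  rw [MulAut.mul_apply, MulAut.mul_apply, MulAut.conj_apply, MulAut.conj_inv_apply, ← h1]
  group

/-- A semilinear isometry is `sg B ρ` for some `B ∈ GU`. -/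
theorem exists_sg_of_map (hF : Fintype.card F = q ^ 2) (ρ : F ≃+* F) {g : (Fin n → F) → (Fin n → F)}
    (hgadd : ∀ v w, g (v + w) = g v + g w) (hgsmul : ∀ (c : F) v, g (c • v) = ρ c • g v)
    (hgform : ∀ v w, hermForm n F q (g v) (g w) = ρ (hermForm n F q v w)) :
    ∃ B : GU n F q, ∀ v, sg B ρ v = g v := by
  let L : (Fin n → F) →ₗ[F] (Fin n → F) :=
    { toFun := fun x => g (fun i => ρ.symm (x i))
      map_add' := fun x y => by
        rw [← hgadd]
        congr 1
        funext i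
        exact map_add _ _ _
      map_smul' := fun c x => by
        have h1 : (fun i => ρ.symm ((c • x) i)) = ρ.symm c • fun i => ρ.symm (x i) := by
          funext i
          simp
        rw [h1, hgsmul, RingEquiv.apply_symm_apply, RingHom.id_apply] }
  obtain ⟨A0, hA0, hAm⟩ := Cfsg.Agent.ClassicalGeometry.HermOrtho.exists_GU_of_isometry
    (M := LinearMap.toMatrix' L) hF (fun u v => by
    rw [LinearMap.toMatrix'_mulVec, LinearMap.toMatrix'_mulVec]
    change hermForm n F q (g _) (g _) = _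
    rw [hgform]
    have h1 := Cfsg.Agent.ClassicalGeometry.PSUAutCount.herm_map (q := q) ρ (fun i => ρ.symm (u i))
      (fun i => ρ.symm (v i))
    simp only [RingEquiv.apply_symm_apply] at h1
    exact h1.symm)
  refine ⟨⟨A0, hA0⟩, fun v => ?_⟩
  have h1 : gm (⟨A0, hA0⟩ : GU n F q) = LinearMap.toMatrix' L := hAm
  rw [sg, h1, LinearMap.toMatrix'_mulVec]
  change g (fun i => ρ.symm (ρ (v i))) = g v
  simp only [RingEquiv.symm_apply_apply]

omit [Fintype F] in
theorem act_semiConj_sg (A : GU n F q) (ρ : F ≃+* F) (y : SU n F q) (v : Fin n → F) :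
    act (semiConj A ρ y) (sg A ρ v) = sg A ρ (act y v) := act_semiConj A ρ y v

/-- **Composition.** -/
theorem toAut_mul (hF : Fintype.card F = q ^ 2) (A A' : GU n F q) (ρ ρ' : F ≃+* F) :
    ∃ B : GU n F q, toAut A' ρ' * toAut A ρ = toAut B (ρ.trans ρ') ∧
      ∀ v, sg B (ρ.trans ρ') v = sg A' ρ' (sg A ρ v) := by
  obtain ⟨B, hB⟩ := exists_sg_of_map hF (ρ.trans ρ') (g := fun v => sg A' ρ' (sg A ρ v))
    (fun v w => by rw [sg_add, sg_add]) (fun c v => by rw [sg_smul, sg_smul]; rfl)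
    (fun v w => by rw [herm_sg, herm_sg]; rfl)
  refine ⟨B, ?_, hB⟩
  ext x
  obtain ⟨y, rfl⟩ := pr_surjective x
  rw [MulAut.mul_apply, Cfsg.Agent.ClassicalGeometry.PSUAutMain.toAut_pr',
    Cfsg.Agent.ClassicalGeometry.PSUAutMain.toAut_pr', Cfsg.Agent.ClassicalGeometry.PSUAutMain.toAut_pr']
  congr 1
  apply ext_act
  intro z
  obtain ⟨v, rfl⟩ := exists_sg B (ρ.trans ρ') z
  rw [act_semiConj_sg, hB, hB, act_semiConj_sg, act_semiConj_sg]

/-- Composition with an inner automorphism. -/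
theorem toAut_conj_left (hF : Fintype.card F = q ^ 2) (g : SU n F q) (A : GU n F q) (ρ : F ≃+* F) :
    ∃ B : GU n F q, MulAut.conj (pr n F q g) * toAut A ρ = toAut B ρ ∧ ∀ v, sg B ρ v = act g (sg A ρ v) := by
  obtain ⟨B, hB⟩ := exists_sg_of_map hF ρ (g := fun v => act g (sg A ρ v))
    (fun v w => by rw [sg_add, act_add]) (fun c v => by rw [sg_smul, act_smul])
    (fun v w => by rw [herm_act, herm_sg])
  refine ⟨B, ?_, hB⟩
  ext x
  obtain ⟨y, rfl⟩ := pr_surjective x
  rw [MulAut.mul_apply, Cfsg.Agent.ClassicalGeometry.PSUAutMain.toAut_pr',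
    Cfsg.Agent.ClassicalGeometry.PSUAutMain.toAut_pr', MulAut.conj_apply, ← map_inv, ← map_mul, ← map_mul]
  congr 1
  apply ext_act
  intro z
  obtain ⟨v, rfl⟩ := exists_sg B ρ z
  rw [act_semiConj_sg, hB, hB, act_mul, act_mul, act_inv_act, act_semiConj_sg]

/-- **The cube of a linear automorphism of `PSU n F 2` is inner.** -/
theorem toAut_cube (hF : Fintype.card F = 2 ^ 2) (A : GU n F 2) :
    ∃ s : SU n F 2, toAut A (RingEquiv.refl F) ^ 3 = MulAut.conj (pr n F 2 s) ∧
      ∀ v, act s v = sg A (RingEquiv.refl F) (sg A (RingEquiv.refl F) (sg A (RingEquiv.refl F) v)) := by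
  have hsg : ∀ v, sg A (RingEquiv.refl F) v = gm A *ᵥ v := fun v => rfl
  have hd0 : (gm A).det ≠ 0 := by
    intro h0
    have h1 := congrArg Matrix.det (Cfsg.Agent.ClassicalGeometry.PSUAutCount.gm_mul_inv A)
    rw [det_mul, h0, zero_mul, det_one] at h1
    exact zero_ne_one h1
  have hdet : (gm A * gm A * gm A).det = 1 := by
    rw [det_mul, det_mul]
    have h1 := FiniteField.pow_card_sub_one_eq_one _ hd0
    rw [hF] at h1
    norm_num at h1
    rw [← h1]; ring
  have hisom : ∀ u v, hermForm n F 2 ((gm A * gm A * gm A) *ᵥ u) ((gm A * gm A * gm A) *ᵥ v) = hermForm n F 2 u v := by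
    intro u v
    rw [← mulVec_mulVec, ← mulVec_mulVec, ← mulVec_mulVec, ← mulVec_mulVec, herm_gm, herm_gm, herm_gm]
  set s : SU n F 2 := mkSU (gm A * gm A * gm A) hdet hisom with hs
  have hact : ∀ v, act s v = sg A (RingEquiv.refl F) (sg A (RingEquiv.refl F) (sg A (RingEquiv.refl F) v)) := by
    intro v
    rw [hsg, hsg, hsg, act_def, hs, mat_mkSU, ← mulVec_mulVec, ← mulVec_mulVec]
  refine ⟨s, ?_, hact⟩
  ext x
  obtain ⟨y, rfl⟩ := pr_surjective x
  rw [pow_succ, pow_succ, pow_one, MulAut.mul_apply, MulAut.mul_apply,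
    Cfsg.Agent.ClassicalGeometry.PSUAutMain.toAut_pr',
    Cfsg.Agent.ClassicalGeometry.PSUAutMain.toAut_pr', Cfsg.Agent.ClassicalGeometry.PSUAutMain.toAut_pr',
    MulAut.conj_apply, ← map_inv, ← map_mul, ← map_mul]
  congr 1
  apply ext_act
  intro z
  obtain ⟨z1, rfl⟩ := exists_sg A (RingEquiv.refl F) z
  obtain ⟨z2, rfl⟩ := exists_sg A (RingEquiv.refl F) z1
  obtain ⟨v, rfl⟩ := exists_sg A (RingEquiv.refl F) z2
  rw [act_semiConj_sg, act_semiConj_sg, act_semiConj_sg, ← hact, ← hact, act_mul, act_mul, act_inv_act]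

end Cfsg.Agent.KFacts.Unit
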