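import Mathlib
import Cfsg.Agent.KFacts.Unit.GLAct
import Cfsg.Agent.OddHalf.D7.Uni.Face
import Cfsg.Agent.OddHalf.D7.Uni.PlaneCore

/-!
# The radical of a totally isotropic plane in coordinates

`aT hF e H` = the element `v ↦ v + ∑ H i j h(v, e j) e i` of `SU n F q` (total function), `E : Frm q e f`, `d = 3`,
in the language of `OddHalf.D7.Uni.PlaneCore` (`Herm`, `st`, `rk`) and `OddHalf.D7.Uni.Face` (`Sit`, `fj`).
-/

set_option autoImplicit false

namespace Cfsg.Agent.KFacts.Unit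

open Cfsg Cfsg.Agent.LieClassical.HermBasic Cfsg.Agent.LieClassical.HermSiegel
  Cfsg.Agent.LieClassical.HermGen Cfsg.Agent.LieClassical.SUBasic Matrix
  Cfsg.Agent.ClassicalGeometry.PSUAutBasic Cfsg.Agent.ClassicalGeometry.PSUAutSylow
  Cfsg.Agent.ClassicalGeometry.PSUAutUnip Cfsg.Agent.ClassicalGeometry.PSUAutPhi
  Cfsg.Agent.OddHalf.D7.Uni.PlaneCore Cfsg.Agent.OddHalf.D7.Uni.Face

variable {F : Type*} [Field F] [Fintype F] {q n d : ℕ}

open Classical in
/-- The element `v ↦ v + ∑ H i j h(v, e j) e i`, as a total function. -/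
noncomputable def aT (hF : Fintype.card F = q ^ 2) {e f : Fin d → (Fin n → F)} (E : Frm q e f)
    (H : Matrix (Fin d) (Fin d) F) : SU n F q :=
  if h : IsSkew q H then aEl hF E H h else 1

theorem aT_eq (hF : Fintype.card F = q ^ 2) {e f : Fin d → (Fin n → F)} (E : Frm q e f)
    {H : Matrix (Fin d) (Fin d) F} (h : IsSkew q H) : aT hF E H = aEl hF E H h := dif_pos h

theorem aT_fix (hF : Fintype.card F = q ^ 2) {e f : Fin d → (Fin n → F)} (E : Frm q e f)
    (H : Matrix (Fin d) (Fin d) F) (j : Fin d) : act (aT hF E H) (e j) = e j := by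
  by_cases h : IsSkew q H
  · rw [aT_eq hF E h, act_aEl]
    have h1 : ∀ i, ∑ k, H i k * hermForm n F q (e j) (e k) = 0 := fun i =>
      Finset.sum_eq_zero fun k _ => by rw [E.ee, mul_zero]
    simp only [h1, zero_smul, Finset.sum_const_zero, add_zero]
  · rw [aT, dif_neg h, act_one]

section Two

variable [CharP F 2]

omit [Fintype F] in
theorem isSkew_of_herm {σ : F →+* F} (hσ : ∀ x, σ x = x ^ q) {H : Matrix (Fin 3) (Fin 3) F} (h : Herm σ H) :
    IsSkew q H := fun i j => by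
  rw [← hσ, h j i]
  exact CharTwo.add_self_eq_zero _

omit [Fintype F] in
theorem herm_of_isSkew {σ : F →+* F} (hσ : ∀ x, σ x = x ^ q) {H : Matrix (Fin 3) (Fin 3) F} (h : IsSkew q H) :
    Herm σ H := fun i j => by
  have h1 := h j i
  have h2 : (2 : F) = 0 := CharTwo.two_eq_zero
  rw [hσ]
  linear_combination h1 - H j i * h2

theorem aT_add (hF : Fintype.card F = q ^ 2) {e f : Fin 3 → (Fin n → F)} (E : Frm q e f)
    {H H' : Matrix (Fin 3) (Fin 3) F} (h : Herm (sig hF) H) (h' : Herm (sig hF) H') :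
    aT hF E (H + H') = aT hF E H * aT hF E H' := by
  have h1 := isSkew_of_herm (sig_apply hF) h
  have h2 := isSkew_of_herm (sig_apply hF) h'
  rw [aT_eq hF E h1, aT_eq hF E h2, aT_eq hF E (h1.add hF h2), aEl_mul]

theorem aT_conj (hF : Fintype.card F = q ^ 2) {e f : Fin 3 → (Fin n → F)} (E : Frm q e f)
    {H : Matrix (Fin 3) (Fin 3) F} (h : Herm (sig hF) H) {g : SU n F q} {M : Matrix (Fin 3) (Fin 3) F}
    (hg : ∀ j, act g (e j) = ∑ i, M i j • e i) : g * aT hF E H * g⁻¹ = aT hF E (M * H * st (sig hF) M) := by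
  have h1 := isSkew_of_herm (sig_apply hF) h
  have h2 : st (sig hF) M = Mᵀ.map (· ^ q) := by
    ext i j
    rfl
  rw [aT_eq hF E h1, conj_aEl hF E h1 hg, h2, aT_eq hF E (h1.conj hF M)]

/-- The element of rank one. -/
theorem aT_rk (hF : Fintype.card F = q ^ 2) {e f : Fin 3 → (Fin n → F)} (E : Frm q e f) (v : Fin 3 → F)
    (hs : hermForm n F q (∑ i, v i • e i) (∑ i, v i • e i) = 0) :
    aT hF E (rk (sig hF) v) = transv hF (∑ i, v i • e i) hs 1 one_tr := by
  have h1 := isSkew_rankOne (q := q) hF v (μ := 1) one_tr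
  have h2 : rk (sig hF) v = Matrix.of fun i j => 1 * v i * v j ^ q := by
    ext i j
    rw [of_apply, one_mul]
    rfl
  rw [transv_eq_aEl hF E v one_tr hs h1, h2, aT_eq hF E h1]

omit [CharP F 2] in
theorem iso_sum (hF : Fintype.card F = q ^ 2) {e f : Fin d → (Fin n → F)} (E : Frm q e f) (v w : Fin d → F) :
    hermForm n F q (∑ i, v i • e i) (∑ i, w i • e i) = 0 := by
  rw [herm_sum_right hF]
  exact Finset.sum_eq_zero fun i _ => by rw [herm_smul_right, E.herm_sum_e, mul_zero]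

/-- **`SL₃(F)` acts on the plane.** -/
theorem exists_SL3 (hF : Fintype.card F = q ^ 2) {e f : Fin 3 → (Fin n → F)} (E : Frm q e f)
    {M : Matrix (Fin 3) (Fin 3) F} (hM : M.det = 1) :
    ∃ g : SU n F q, (∀ v : Fin 3 → F, act g (∑ i, v i • e i) = ∑ i, (M *ᵥ v) i • e i) ∧
      ∀ H, Herm (sig hF) H → g * aT hF E H * g⁻¹ = aT hF E (M * H * st (sig hF) M) := by
  obtain ⟨g, hg, -⟩ := exists_SL hF E hM
  refine ⟨g, fun v => ?_, fun H hH => aT_conj hF E hH hg⟩
  rw [act_sum]
  simp only [act_smul, hg, Finset.smul_sum, smul_smul, mulVec, dotProduct, Finset.sum_smul]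
  rw [Finset.sum_comm]
  exact Finset.sum_congr rfl fun i _ => Finset.sum_congr rfl fun k _ => by rw [mul_comm]

end Two

section G

variable {G : Type*} [Group G] {t : G} {j : PSU n F q →* G}

/-- `a H` determines `H`. -/
theorem aT_ker (S : Sit n F q t j) (hF : Fintype.card F = q ^ 2) (hn : 3 ≤ n) {e f : Fin 3 → (Fin n → F)}
    [CharP F 2] (E : Frm q e f) {H : Matrix (Fin 3) (Fin 3) F} (h : Herm (sig hF) H)
    (h1 : fj n F q j (aT hF E H) = 1) : H = 0 := by
  have h2 := S.eq_one hF hn (E.hyp 0).ne_zero (aT_fix hF E H 0) h1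
  have h3 := isSkew_of_herm (sig_apply hF) h
  have h4 : IsSkew q (0 : Matrix (Fin 3) (Fin 3) F) := IsSkew.zero (q_pos hF)
  have h5 : aEl hF E 0 h4 = 1 := by
    apply ext_act
    intro v
    rw [act_aEl, act_one]
    simp
  rw [aT_eq hF E h3, ← h5] at h2
  exact aEl_inj hF E h2

/-- **(K2)** for a totally isotropic plane. -/
theorem plane_K2 (S : Sit n F q t j) (hF : Fintype.card F = q ^ 2) (hn : 4 ≤ n) {e f : Fin 3 → (Fin n → F)}
    [CharP F 2] (E : Frm q e f) (c : G) (hc : c * t = t * c)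
    (hO : ∀ g : SU n F q, (∀ i, act g (e i) = e i) → fj n F q j g * c = c * fj n F q j g) :
    ∃ H, Herm (sig hF) H ∧ (c = fj n F q j (aT hF E H) ∨ c = t * fj n F q j (aT hF E H)) := by
  obtain ⟨α, hα⟩ := S.exists_aut hc
  obtain ⟨H, hH, h1⟩ := autCent_frame hF hn E (by norm_num) α (fun g hg => by
    apply S.inj
    rw [← hα]
    have h2 := hO g hg
    rw [fj_apply] at h2
    rw [← h2, mul_inv_cancel_right])
  refine ⟨H, herm_of_isSkew (sig_apply hF) hH, ?_⟩
  have h3 : aT hF E H = aEl hF E H hH := aT_eq hF E hH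
  rw [h3]
  refine S.eq_or hc (g := aEl hF E H hH) fun x => ?_
  rw [hα, h1]

end G

end Cfsg.Agent.KFacts.Unit
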