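import Mathlib
import Cfsg.Agent.KFacts.Unit.PentExtTwo
import Cfsg.Agent.KFacts.Unit.KF
import Cfsg.Agent.KFacts.SheetOf
import Cfsg.Agent.Schreier.PSU
import Cfsg.Agent.S0283
import Cfsg.Agent.S0815

/-!
# `PSU n F 2`, `n ≥ 6`: the sheet of type (E)

`z` = a transvection, `P` = the stabiliser of the isotropic vector, `R` = the Siegel group (extraspecial).
-/

set_option autoImplicit false

namespace Cfsg.Agent.KFacts.Unit.SheetTwo

open scoped commutatorElement Pointwise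

open Cfsg Cfsg.Agent.LieClassical.HermBasic Cfsg.Agent.LieClassical.HermSiegel
  Cfsg.Agent.LieClassical.HermGen Cfsg.Agent.LieClassical.SUBasic Matrix
  Cfsg.Agent.ClassicalGeometry.PSUAutBasic Cfsg.Agent.ClassicalGeometry.PSUAutSylow
  Cfsg.Agent.ClassicalGeometry.PSUAutUnip Cfsg.Agent.ClassicalGeometry.PSUAutPhi
  Cfsg.Agent.OddHalf

set_option linter.unusedSectionVars false

variable {F : Type*} [Field F] [Fintype F] {n : ℕ} [CharP F 2]

theorem h11 : (1 : F) + 1 ^ 2 = 0 := by rw [one_pow]; exact CharTwo.add_self_eq_zero 1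

/-- the transvection -/
def zt (hF : Fintype.card F = 2 ^ 2) {u : Fin n → F} (hu : hermForm n F 2 u u = 0) : PSU n F 2 :=
  pr n F 2 (transv hF u hu 1 h11)

theorem transv_zero' {q : ℕ} (hF : Fintype.card F = q ^ 2) {u : Fin n → F} (hu : hermForm n F q u u = 0)
    (h : (0 : F) + 0 ^ q = 0) : transv hF u hu 0 h = 1 := by
  apply ext_act
  intro v
  rw [act_transv, act_one, zero_mul, zero_smul, add_zero]

theorem zt_mem (hF : Fintype.card F = 2 ^ 2) {u : Fin n → F} (hu : hermForm n F 2 u u = 0) :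
    zt hF hu ∈ RR hF u hu := mem_RR.2 ⟨_, _, rfl⟩

theorem RR_cases (hF : Fintype.card F = 2 ^ 2) {u : Fin n → F} (hu : hermForm n F 2 u u = 0) {x : PSU n F 2}
    (hx : x ∈ RR hF u hu) : x = 1 ∨ x = zt hF hu := by
  obtain ⟨μ, hμ, rfl⟩ := mem_RR.1 hx
  rcases zero_or_one_of_trace hμ with rfl | rfl
  · left; rw [transv_zero', map_one]
  · right; rfl

theorem zt_ne (hF : Fintype.card F = 2 ^ 2) (hn : 3 ≤ n) {u : Fin n → F} (hu0 : u ≠ 0)
    (hu : hermForm n F 2 u u = 0) : zt hF hu ≠ 1 := by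
  intro h0
  apply KF.RR_ne_bot hF hn hu0 hu
  rw [Subgroup.eq_bot_iff_forall]
  intro x hx
  rcases RR_cases hF hu hx with h | h
  · exact h
  · rw [h, h0]

theorem zt_sq (hF : Fintype.card F = 2 ^ 2) {u : Fin n → F} (hu : hermForm n F 2 u u = 0) :
    zt hF hu * zt hF hu = 1 := KF.RR_sq hF hu (zt_mem hF hu)

theorem zt_P (hF : Fintype.card F = 2 ^ 2) {u : Fin n → F} (hu : hermForm n F 2 u u = 0) {x : PSU n F 2}
    (hx : x ∈ PP 2 u) : x * zt hF hu = zt hF hu * x := PP_comm_RR hF hu hx (zt_mem hF hu)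

/-- conjugation of the transvection -/
theorem conj_zt (hF : Fintype.card F = 2 ^ 2) {u : Fin n → F} (hu : hermForm n F 2 u u = 0) (g : SU n F 2)
    (hgu : hermForm n F 2 (act g u) (act g u) = 0) :
    pr n F 2 g * zt hF hu * (pr n F 2 g)⁻¹ = zt hF hgu := by
  rw [zt, zt, transv, transv, ← map_inv, ← map_mul, ← map_mul, conj_siegel]
  congr 1
  exact siegel_congr hF _ _ rfl (act_zero g) rfl

/-- the transvection determines the point -/
theorem zt_eq (hF : Fintype.card F = 2 ^ 2) (hn : 3 ≤ n) {u u' : Fin n → F} (hu0 : u ≠ 0) (hu0' : u' ≠ 0)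
    (hu : hermForm n F 2 u u = 0) (hu' : hermForm n F 2 u' u' = 0) (h : zt hF hu = zt hF hu') :
    ∃ c : F, c ≠ 0 ∧ u' = c • u := by
  rw [← RR_eq_iff hF hn hu0 hu0' hu hu']
  ext x
  constructor
  · intro hx
    rcases RR_cases hF hu hx with rfl | rfl
    · exact one_mem _
    · rw [h]; exact zt_mem hF hu'
  · intro hx
    rcases RR_cases hF hu' hx with rfl | rfl
    · exact one_mem _
    · rw [← h]; exact zt_mem hF hu

theorem zt_smul (hF : Fintype.card F = 2 ^ 2) (hn : 3 ≤ n) {u : Fin n → F} (hu0 : u ≠ 0)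
    (hu : hermForm n F 2 u u = 0) {c : F} (hc : c ≠ 0) (hu' : hermForm n F 2 (c • u) (c • u) = 0) :
    zt hF hu' = zt hF hu := by
  have h1 := RR_le hF hu hc hu'
  have h2 := zt_mem hF hu'
  rw [h1] at h2
  rcases RR_cases hF hu h2 with h | h
  · exact absurd h (zt_ne hF hn (smul_ne_zero hc hu0) hu')
  · exact h

/-- the elements of the centralizer of `z` fix the point -/
theorem eigen_of_comm (hF : Fintype.card F = 2 ^ 2) (hn : 3 ≤ n) {u : Fin n → F} (hu0 : u ≠ 0)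
    (hu : hermForm n F 2 u u = 0) {g : SU n F 2} (h : pr n F 2 g * zt hF hu = zt hF hu * pr n F 2 g) :
    ∃ c : F, c ≠ 0 ∧ act g u = c • u := by
  have hgu : hermForm n F 2 (act g u) (act g u) = 0 := by rw [herm_act]; exact hu
  have h1 := conj_zt hF hu g hgu
  rw [h, mul_inv_cancel_right] at h1
  exact zt_eq hF hn hu0 (fun h => hu0 ((act_eq_zero g).1 h)) hu hgu h1

theorem der (hF : Fintype.card F = 2 ^ 2) (hn : 3 ≤ n) {u : Fin n → F} (hu0 : u ≠ 0)
    (hu : hermForm n F 2 u u = 0) :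
    ∃ m, TR.dser m (Subgroup.centralizer ({zt hF hu} : Set (PSU n F 2))) ≤ PP 2 u := by
  refine ⟨1, ?_⟩
  rw [show (1 : ℕ) = 0 + 1 by rfl, TR.dser_succ', TR.dser_zero, Subgroup.commutator_le]
  intro a ha b hb
  rw [Subgroup.mem_centralizer_singleton_iff] at ha hb
  obtain ⟨g, rfl⟩ := pr_surjective a
  obtain ⟨h, rfl⟩ := pr_surjective b
  obtain ⟨c, hc, hcg⟩ := eigen_of_comm hF hn hu0 hu ha
  obtain ⟨d, hd, hdh⟩ := eigen_of_comm hF hn hu0 hu hb
  have hgi : act g⁻¹ u = c⁻¹ • u := by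
    have : act g⁻¹ (act g u) = u := act_inv_act g u
    rw [hcg, act_smul] at this
    rw [← this, smul_smul, inv_mul_cancel₀ hc, one_smul, this]
  have hhi : act h⁻¹ u = d⁻¹ • u := by
    have : act h⁻¹ (act h u) = u := act_inv_act h u
    rw [hdh, act_smul] at this
    rw [← this, smul_smul, inv_mul_cancel₀ hd, one_smul, this]
  refine mem_PP.2 ⟨⁅g, h⁆, ?_, map_commutatorElement _ _ _⟩
  rw [commutatorElement_def]
  simp only [act_mul, act_smul, hhi, hgi, hdh, hcg, smul_smul]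
  have : d⁻¹ * (c⁻¹ * (d * c)) = 1 := by field_simp
  rw [this, one_smul]

/-- the stabiliser of the vector is a transitive ... Sylow subgroups -/
theorem syl (hF : Fintype.card F = 2 ^ 2) (hn : 6 ≤ n) {e : Fin n → F} (he0 : e ≠ 0)
    (he : hermForm n F 2 e e = 0) :
    ∃ S : Sylow 2 (PSU n F 2), zt hF he ∈ S ∧ (∀ x ∈ S, x * zt hF he = zt hF he * x) ∧
      ∀ y ∈ S, (∀ x ∈ S, x * y = y * x) → y = 1 ∨ y = zt hF he := by
  obtain ⟨U⟩ : Nonempty (Sylow 2 (PSU n F 2)) := inferInstance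
  obtain ⟨u, hu0, hu, hQU, hUP, -⟩ := KF.exists_kf hF hn U
  obtain ⟨g, -, hg⟩ := exists_map_iso hF (by omega) le_rfl (mem_coordSub_top u) (mem_coordSub_top e) hu0 he0 hu he
  have hz : pr n F 2 g * zt hF hu * (pr n F 2 g)⁻¹ = zt hF he := by
    subst hg
    exact conj_zt hF hu g he
  set γ := pr n F 2 g with hγ
  have hmem : ∀ x, x ∈ (γ • U : Sylow 2 (PSU n F 2)) ↔ γ⁻¹ * x * γ ∈ U := by
    intro x
    have h1 : x ∈ (γ • U : Sylow 2 (PSU n F 2)) ↔ x ∈ (MulAut.conj γ • (U : Subgroup (PSU n F 2))) := Iff.rfl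
    rw [h1, Subgroup.mem_pointwise_smul_iff_inv_smul_mem]
    have e1 : (MulAut.conj γ)⁻¹ • x = γ⁻¹ * x * γ := by
      rw [← map_inv, MulAut.smul_def, MulAut.conj_apply, inv_inv]
    rw [e1]
    rfl
  have hzU : zt hF hu ∈ U := hQU (RR_le_QQ hF hu (zt_mem hF hu))
  refine ⟨γ • U, ?_, ?_, ?_⟩
  · rw [hmem, ← hz]
    have e1 : γ⁻¹ * (γ * zt hF hu * γ⁻¹) * γ = zt hF hu := by group
    rw [e1]; exact hzU
  · intro x hx
    rw [hmem] at hx
    have h1 := zt_P hF hu (hUP hx)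
    rw [← hz]
    calc x * (γ * zt hF hu * γ⁻¹) = γ * ((γ⁻¹ * x * γ) * zt hF hu) * γ⁻¹ := by group
      _ = γ * (zt hF hu * (γ⁻¹ * x * γ)) * γ⁻¹ := by rw [h1]
      _ = γ * zt hF hu * γ⁻¹ * x := by group
  · intro y hy hyc
    rw [hmem] at hy
    have h1 : γ⁻¹ * y * γ ∈ RR hF u hu := by
      refine mem_RR_of_comm hF (by omega) hu0 hu (hUP hy) fun s hs => ?_
      have h2 := hyc (γ * s * γ⁻¹) (by
        rw [hmem]
        have e1 : γ⁻¹ * (γ * s * γ⁻¹) * γ = s := by group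
        rw [e1]; exact hQU hs)
      calc γ⁻¹ * y * γ * s = γ⁻¹ * (y * (γ * s * γ⁻¹)) * γ := by group
        _ = γ⁻¹ * (γ * s * γ⁻¹ * y) * γ := by rw [h2]
        _ = s * (γ⁻¹ * y * γ) := by group
    rcases RR_cases hF hu h1 with h2 | h2
    · left
      have : y = γ * (γ⁻¹ * y * γ) * γ⁻¹ := by group
      rw [this, h2]; group
    · right
      rw [← hz, ← h2]; group

/-! ### The group `QQ e` -/

variable {e f : Fin n → F}

theorem siegel_pr_mul_zt (hF : Fintype.card F = 2 ^ 2) (H : IsFrame 2 e f) {w : Fin n → F} {μ ν : F}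
    (h : IsSiegel 2 e w μ) (h' : IsSiegel 2 e w ν) :
    pr n F 2 (siegel hF e w μ h) = pr n F 2 (siegel hF e w ν h') ∨
      pr n F 2 (siegel hF e w μ h) = pr n F 2 (siegel hF e w ν h') * zt hF H.ee := by
  have hd : (μ - ν) + (μ - ν) ^ 2 = 0 := by
    have t1 := h.tr
    have t2 := h'.tr
    rw [sub_pow_q hF]
    linear_combination t1 - t2
  have e1 : siegel hF e w μ h = siegel hF e w ν h' * transv hF e H.ee (μ - ν) hd := by
    rw [transv, siegel_mul]
    exact siegel_congr hF _ _ rfl (add_zero _).symm (by rw [herm_zero_left]; ring)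
  have h2 : pr n F 2 (transv hF e H.ee (μ - ν) hd) ∈ RR hF e H.ee := mem_RR.2 ⟨_, _, rfl⟩
  rw [e1, map_mul]
  rcases RR_cases hF H.ee h2 with h3 | h3
  · left; rw [h3, mul_one]
  · right; rw [h3]

theorem act_of_supp {g : SU n F 2} {k : ℕ} (hg : g ∈ (fixGrp k : Subgroup (SU n F 2))) {v : Fin n → F}
    (hv : ∀ i : Fin n, i.val < k → v i = 0) : act g v = v := by
  have hL : ∀ x, act g x = (mat g).mulVecLin x := fun x => rfl
  have e1 : v = ∑ i, v i • (Pi.single i 1 : Fin n → F) := by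
    conv_lhs => rw [← Finset.univ_sum_single v]
    refine Finset.sum_congr rfl fun i _ => ?_
    rw [← Pi.single_smul, smul_eq_mul, mul_one]
  conv_lhs => rw [e1, hL, map_sum]
  conv_rhs => rw [e1]
  refine Finset.sum_congr rfl fun i _ => ?_
  rw [map_smul, ← hL]
  rcases Nat.lt_or_ge i.val k with h | h
  · rw [hv i h, zero_smul, zero_smul]
  · rw [hg i h]

theorem frame_supp (_ : Fintype.card F = 2 ^ 2) (H : IsFrame 2 e f) (i : Fin n) (hi : i.val < n - 2) : e i = 0 := by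
  have h1 : (Pi.single i 1 : Fin n → F) ∈ coordSub F n (n - 2) := by
    intro j hj
    rw [Pi.single_eq_of_ne]
    rintro rfl
    omega
  have h2 := ((H.mem _).1 h1).1
  rw [herm_def] at h2
  rw [Finset.sum_eq_single i] at h2
  · rw [Pi.single_eq_same, one_mul] at h2
    exact pow_eq_zero_iff (n := 2) (by norm_num) |>.1 h2
  · intro j _ hj
    rw [Pi.single_eq_of_ne hj, zero_mul]
  · intro h; exact absurd (Finset.mem_univ i) h

theorem fix_e (hF : Fintype.card F = 2 ^ 2) (H : IsFrame 2 e f) {g : SU n F 2}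
    (hg : g ∈ (fixGrp (n - 2) : Subgroup (SU n F 2))) : act g e = e :=
  act_of_supp hg (frame_supp hF H)

/-- `B ⊴ P`, `B ≤ R`: `B ≤ ⟨z⟩` or `B = R` -/
theorem Rmin (hF : Fintype.card F = 2 ^ 2) (hn : 6 ≤ n) (H : IsFrame 2 e f) (B : Subgroup (PSU n F 2))
    (hB : B ≤ QQ hF e H.ee) (hBn : ∀ x ∈ PP 2 e, ∀ b ∈ B, x * b * x⁻¹ ∈ B) :
    (∀ b ∈ B, b = 1 ∨ b = zt hF H.ee) ∨ B = QQ hF e H.ee := by
  have he0 := frame_ne_zero H
  have h2 : (2 : F) = 0 := CharTwo.two_eq_zero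
  by_cases hcon : ∀ b ∈ B, b = 1 ∨ b = zt hF H.ee
  · exact Or.inl hcon
  right
  push Not at hcon
  obtain ⟨b, hb, hb1, hbz⟩ := hcon
  obtain ⟨w1, μ1, h1, e1⟩ := mem_QQ.1 (hB hb)
  obtain ⟨w, hw, μ, h, e2⟩ := exists_normal hF H h1
  have hbe : b = pr n F 2 (siegel hF e w μ h) := by rw [e1, e2]
  have hw0 : w ≠ 0 := by
    rintro rfl
    have h3 : b ∈ RR hF e H.ee := by
      rw [hbe]
      refine mem_RR.2 ⟨μ, ?_, rfl⟩
      have := h.tr
      rwa [herm_zero_left, add_zero] at this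
    rcases RR_cases hF H.ee h3 with h4 | h4
    · exact hb1 h4
    · exact hbz h4
  -- `z ∈ B`
  have hcomm : ∀ (w' : Fin n → F) (μ' : F) (h' : IsSiegel 2 e w' μ') (v : Fin n → F) (ν : F) (hv : IsSiegel 2 e v ν),
      pr n F 2 (siegel hF e w' μ' h') ∈ B → ⁅pr n F 2 (siegel hF e w' μ' h'), pr n F 2 (siegel hF e v ν hv)⁆ ∈ B := by
    intro w' μ' h' v ν hv hmem
    rw [commutatorElement_def, mul_assoc, mul_assoc]
    refine mul_mem hmem ?_
    rw [← mul_assoc]
    exact hBn _ (siegel_mem_PP hF hv) _ (inv_mem hmem)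
  have hzB : zt hF H.ee ∈ B := by
    obtain ⟨x, hx, hx0, hxx, hwx⟩ := exists_iso_not_perp hF (by omega) hw hw0
    -- choose a multiple of `x` with nonzero trace
    obtain ⟨c, hc⟩ : ∃ c : F, c * hermForm n F 2 w x - (c * hermForm n F 2 w x) ^ 2 ≠ 0 := by
      by_contra hcon
      push Not at hcon
      apply hwx
      apply eq_zero_of_forall_fixed hF
      intro c
      exact (sub_eq_zero.1 (hcon c)).symm
    obtain ⟨d, hd⟩ : ∃ d : F, d ^ 2 = c := by
      have := pow_q_pow_q hF c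
      exact ⟨c ^ 2, this⟩
    have hdx : d • x ∈ coordSub F n (n - 2) := Submodule.smul_mem _ _ hx
    obtain ⟨ν, hv⟩ := exists_isSiegel hF H hdx
    have h3 := hcomm w μ h (d • x) ν hv (by rw [← hbe]; exact hb)
    rw [← map_commutatorElement, LieClassical.HermSimple.commutator_siegel hF h hv] at h3
    have h4 : pr n F 2 (siegel hF e 0 _ (LieClassical.HermSimple.IsSiegel.comm hF h hv)) ∈ RR hF e H.ee := by
      refine mem_RR.2 ⟨_, ?_, rfl⟩
      have := (LieClassical.HermSimple.IsSiegel.comm hF h hv).tr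
      rwa [herm_zero_left, add_zero] at this
    rcases RR_cases hF H.ee h4 with h5 | h5
    · exfalso
      have h6 : IsSiegel 2 e 0 (0 : F) := isSiegel_zero H.ee (by ring)
      have h7 := (pr_siegel_inj hF (by omega) H (Submodule.zero_mem _) (Submodule.zero_mem _)
        (LieClassical.HermSimple.IsSiegel.comm hF h hv) h6 (by rw [h5, siegel_zero, map_one])).2
      apply hc
      rw [herm_smul_right, hd, herm_smul_left, herm_swap hF w x] at h7
      rw [mul_pow, ← h7]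
      have hd2 : c ^ 2 = d := by
        rw [← hd, ← pow_mul]
        have := pow_q_pow_q hF d
        rwa [← pow_mul] at this
      rw [hd2]
    · rw [← h5]; exact h3
  -- the set of `w` with `siegel e w _ ∈ B`
  let N : Set (Fin n → F) := {v | v ∈ coordSub F n (n - 2) ∧ ∀ ν (hv : IsSiegel 2 e v ν), pr n F 2 (siegel hF e v ν hv) ∈ B}
  have hNof : ∀ v ∈ coordSub F n (n - 2), ∀ ν (hv : IsSiegel 2 e v ν), pr n F 2 (siegel hF e v ν hv) ∈ B → v ∈ N := by
    intro v hvV ν hv hmem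
    refine ⟨hvV, fun ν' hv' => ?_⟩
    rcases siegel_pr_mul_zt hF H hv' hv with h3 | h3
    · rw [h3]; exact hmem
    · rw [h3]; exact mul_mem hmem hzB
  have hwN : w ∈ N := hNof w hw μ h (by rw [← hbe]; exact hb)
  have hNadd : ∀ v ∈ N, ∀ v' ∈ N, v + v' ∈ N := by
    intro v hv v' hv'
    obtain ⟨ν, h3⟩ := exists_isSiegel hF H hv.1
    obtain ⟨ν', h4⟩ := exists_isSiegel hF H hv'.1
    refine hNof _ (Submodule.add_mem _ hv.1 hv'.1) _ (h3.mul hF h4) ?_
    rw [← siegel_mul hF h3 h4, map_mul]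
    exact mul_mem (hv.2 _ h3) (hv'.2 _ h4)
  have hNact : ∀ v ∈ N, ∀ g : SU n F 2, act g e = e → act g v ∈ coordSub F n (n - 2) → act g v ∈ N := by
    intro v hv g hg hgv
    obtain ⟨ν, h3⟩ := exists_isSiegel hF H hv.1
    have h4 : IsSiegel 2 e (act g v) ν := by
      have := h3.map g
      rwa [hg] at this
    refine hNof _ hgv ν h4 ?_
    have h5 := hBn (pr n F 2 g) (mem_PP.2 ⟨g, hg, rfl⟩) _ (hv.2 ν h3)
    rw [← map_inv, ← map_mul, ← map_mul, conj_siegel] at h5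
    rwa [siegel_congr hF (h3.map g) h4 hg rfl rfl] at h5
  -- an isotropic vector in `N`
  obtain ⟨x, hx, hx0, hxx, hwx⟩ := exists_iso_not_perp hF (by omega) hw hw0
  have hxe : hermForm n F 2 e x = 0 := herm_eq_zero_swap hF ((H.mem x).1 hx).1
  have hxN : (hermForm n F 2 w x) • x ∈ N := by
    have h3 : act (transv hF x hxx 1 h11) w = w + (hermForm n F 2 w x) • x := by
      rw [act_transv, one_mul]
    have h4 : act (transv hF x hxx 1 h11) e = e := by rw [act_transv, hxe, mul_zero, zero_smul, add_zero]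
    have h5 := hNact w hwN _ h4 (by
      rw [h3]; exact Submodule.add_mem _ hw (Submodule.smul_mem _ _ hx))
    rw [h3] at h5
    have h6 := hNadd _ hwN _ h5
    have h7 : w + (w + hermForm n F 2 w x • x) = hermForm n F 2 w x • x := by
      rw [← add_assoc]
      have : w + w = 0 := by
        funext i
        rw [Pi.add_apply, CharTwo.add_self_eq_zero, Pi.zero_apply]
      rw [this, zero_add]
    rwa [h7] at h6
  have hiso : ∀ y ∈ coordSub F n (n - 2), hermForm n F 2 y y = 0 → y ≠ 0 → y ∈ N := by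
    intro y hy hyy hy0
    obtain ⟨g, hg, hgy⟩ := exists_map_iso hF (k := n - 2) (by omega) (by omega) hxN.1 hy (smul_ne_zero hwx hx0) hy0
      (by rw [herm_smul_left, herm_smul_right, hxx, mul_zero, mul_zero]) hyy
    rw [← hgy]
    exact hNact _ hxN g (fix_e hF H (Subgroup.mem_inf.1 hg).2) (by rw [hgy]; exact hy)
  have h0N : (0 : Fin n → F) ∈ N := by
    have := hNadd w hwN w hwN
    have h3 : w + w = 0 := by
      funext i
      rw [Pi.add_apply, CharTwo.add_self_eq_zero, Pi.zero_apply]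
    rwa [h3] at this
  let W : Submodule F (Fin n → F) :=
    { carrier := {v | ∀ c : F, c • v ∈ N}
      zero_mem' := fun c => by rw [smul_zero]; exact h0N
      add_mem' := fun {a b} ha hb c => by rw [smul_add]; exact hNadd _ (ha c) _ (hb c)
      smul_mem' := fun d v hv c => by rw [smul_smul]; exact hv _ }
  have hW : coordSub F n (n - 2) ≤ W := by
    refine coordSub_le_of_iso hF (by omega) W fun x hx hx0 hxx c => ?_
    rcases eq_or_ne c 0 with rfl | hc
    · rw [zero_smul]; exact h0N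
    · exact hiso _ (Submodule.smul_mem _ _ hx) (by rw [herm_smul_left, herm_smul_right, hxx, mul_zero, mul_zero])
        (smul_ne_zero hc hx0)
  apply le_antisymm hB
  intro y hy
  obtain ⟨v1, ν1, h3, rfl⟩ := mem_QQ.1 hy
  obtain ⟨v, hv, ν, h4, e4⟩ := exists_normal hF H h3
  rw [e4]
  have h5 := hW hv 1
  rw [one_smul] at h5
  exact h5.2 ν h4

theorem Rmax (hF : Fintype.card F = 2 ^ 2) (hn : 3 ≤ n) (H : IsFrame 2 e f) (B : Subgroup (PSU n F 2))
    (hB : B ≤ PP 2 e) (hB2 : IsPGroup 2 B) (hBn : ∀ x ∈ PP 2 e, ∀ b ∈ B, x * b * x⁻¹ ∈ B) :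
    B ≤ QQ hF e H.ee := by
  have : Fact (Nat.Prime 2) := ⟨Nat.prime_two⟩
  refine le_QQ hF hn 2 H B hB2 (fun g hg => ?_) fun g hg x hx => hBn _ (mem_PP.2 ⟨g, hg, rfl⟩) _ hx
  exact eigen_of_comm hF hn (frame_ne_zero H) H.ee (zt_P hF H.ee (hB hg))

theorem Rna (hF : Fintype.card F = 2 ^ 2) (hn : 5 ≤ n) (H : IsFrame 2 e f) :
    ∃ a ∈ QQ hF e H.ee, ∃ b ∈ QQ hF e H.ee, a * b ≠ b * a := by
  by_contra hcon
  push Not at hcon
  obtain ⟨w, hw, hw0⟩ : ∃ w ∈ coordSub F n (n - 2), w ≠ 0 := by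
    refine ⟨Pi.single ⟨0, by omega⟩ 1, single_mem_coordSub (by simp; omega) 1, ?_⟩
    intro h
    have h3 := congrFun h ⟨0, by omega⟩
    simp at h3
  obtain ⟨μ, h⟩ := exists_isSiegel hF H hw
  have h1 := mem_RR_of_comm hF (by omega) (frame_ne_zero H) H.ee (siegel_mem_PP hF h)
    (fun s hs => hcon _ (mem_QQ.2 ⟨_, _, h, rfl⟩) s hs)
  obtain ⟨ν, hν, h2⟩ := mem_RR.1 h1
  have h4 : IsSiegel 2 e 0 ν := isSiegel_zero H.ee hν
  exact hw0 (pr_siegel_inj hF (by omega) H hw (Submodule.zero_mem _) h h4 h2).1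

theorem cR (hF : Fintype.card F = 2 ^ 2) (hn : 3 ≤ n) (H : IsFrame 2 e f) (x : PSU n F 2) (hx : x ∈ PP 2 e)
    (h : ∀ r ∈ QQ hF e H.ee, x * r = r * x) : x ∈ QQ hF e H.ee :=
  RR_le_QQ hF H.ee (mem_RR_of_comm hF hn (frame_ne_zero H) H.ee hx h)

theorem R2 (hF : Fintype.card F = 2 ^ 2) {u : Fin n → F} (hu : hermForm n F 2 u u = 0) :
    IsPGroup 2 ↥(QQ hF u hu) := by
  have : Fact (Nat.Prime 2) := ⟨Nat.prime_two⟩
  exact (isPGroup_siegG hF 2 hu).map _

/-- `|Out(PSU_n(2))|₂ ≤ 2` -/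
theorem out (hF : Fintype.card F = 2 ^ 2) (hn5 : 5 ≤ n) :
    ¬ 4 ∣ (MulAut.conj : PSU n F 2 →* MulAut (PSU n F 2)).range.index := by
  have : Fact (Nat.Prime 2) := ⟨Nat.prime_two⟩
  have hs : IsSimpleGroup (PSU n F 2) := Cfsg.Agent.S0283.result hF n (by omega) (by omega)
  have h1 := Cfsg.Agent.S0815.result (F := F) 2 1 le_rfl (q := 2) rfl hF n (by omega) (by omega)
  have hc : Subgroup.center (PSU n F 2) = ⊥ := by
    rcases hs.eq_bot_or_eq_top_of_normal (Subgroup.center (PSU n F 2)) inferInstance with h | h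
    · exact h
    · exfalso
      obtain ⟨e, f, H⟩ := exists_frame (F := F) (q := 2) (n := n) hF (by omega)
      obtain ⟨a, -, b, -, hab⟩ := Rna hF hn5 H
      have ha : a ∈ Subgroup.center (PSU n F 2) := by rw [h]; trivial
      exact hab (Subgroup.mem_center_iff.1 ha b).symm
  have hinj : Function.Injective (MulAut.conj : PSU n F 2 →* MulAut (PSU n F 2)) := by
    rw [← MonoidHom.ker_eq_bot_iff, Subgroup.eq_bot_iff_forall]
    intro x hx
    have h2 : x ∈ Subgroup.center (PSU n F 2) := by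
      rw [Subgroup.mem_center_iff]
      intro y
      have h3 := DFunLike.congr_fun (MonoidHom.mem_ker.1 hx) y
      rw [MulAut.conj_apply, MulAut.one_apply] at h3
      rw [← h3, inv_mul_cancel_right]
      rw [h3]
    rwa [hc, Subgroup.mem_bot] at h2
  have h2 := (MulAut.conj : PSU n F 2 →* MulAut (PSU n F 2)).range.card_mul_index
  rw [Nat.card_congr (MonoidHom.ofInjective hinj).toEquiv.symm, h1] at h2
  have hpos : 0 < Nat.card (PSU n F 2) := Nat.card_pos
  have h3 : (MulAut.conj : PSU n F 2 →* MulAut (PSU n F 2)).range.index = Nat.gcd n (2 + 1) * (2 * 1) := by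
    rw [mul_comm (Nat.gcd n (2 + 1) * (2 * 1)) (Nat.card (PSU n F 2))] at h2
    exact Nat.eq_of_mul_eq_mul_left hpos h2
  rw [h3]
  intro h4
  have h5 : Nat.gcd n (2 + 1) ∣ 3 := Nat.gcd_dvd_right _ _
  have h6 : Nat.gcd n (2 + 1) ≤ 3 := Nat.le_of_dvd (by norm_num) h5
  interval_cases h7 : Nat.gcd n (2 + 1) <;> omega

/-- the two facts on automorphisms used by the sheet -/
structure AutFacts (hF : Fintype.card F = 2 ^ 2) (H : IsFrame 2 e f) : Prop where
  aut : ∀ α : MulAut (PSU n F 2), IsPGroup 2 (Subgroup.zpowers α) → α (zt hF H.ee) = zt hF H.ee →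
    (∀ x ∈ PP 2 e, x⁻¹ * α x ∈ QQ hF e H.ee) → ∃ r ∈ QQ hF e H.ee, α = MulAut.conj r
  ytrick : ∃ k : PSU n F 2, k * zt hF H.ee * k⁻¹ ∈ PP 2 e ∧ k * zt hF H.ee * k⁻¹ ∉ QQ hF e H.ee ∧
    ∃ hw : k⁻¹ * zt hF H.ee * k ∈ PP 2 e, ∀ β : MulAut ↥(PP 2 e : Subgroup (PSU n F 2)),
      (β ⟨zt hF H.ee, QQ_le_PP hF H.ee (RR_le_QQ hF H.ee (zt_mem hF H.ee))⟩ : PSU n F 2) = zt hF H.ee →
      ∃ p : PSU n F 2, p * zt hF H.ee = zt hF H.ee * p ∧
        (β ⟨k⁻¹ * zt hF H.ee * k, hw⟩ : PSU n F 2) = p * (k⁻¹ * zt hF H.ee * k) * p⁻¹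

/-- **the sheet of `PSU n F 2`, `n ≥ 6`** -/
theorem sheetE (hF : Fintype.card F = 2 ^ 2) (hn : 6 ≤ n) (H : IsFrame 2 e f) (A : AutFacts hF H) :
    D8.Sheet.SheetE (zt hF H.ee) (PP 2 e) (QQ hF e H.ee) where
  zz := zt_sq hF H.ee
  z1 := zt_ne hF (by omega) (frame_ne_zero H) H.ee
  syl := syl hF hn (frame_ne_zero H) H.ee
  cen := fun _ hx => zt_P hF H.ee hx
  perf := PP_perfect hF hn (frame_ne_zero H) H.ee
  der := der hF (by omega) (frame_ne_zero H) H.ee
  out := out hF (by omega)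
  schreier := Cfsg.Agent.KFacts.SheetOf.schreier_of_sch (Cfsg.Agent.Schreier.PSU.sch hF (by omega) (by omega))
  zR := RR_le_QQ hF H.ee (zt_mem hF H.ee)
  RP := QQ_le_PP hF H.ee
  R2 := R2 hF H.ee
  Rn := fun _ hx _ hr => PP_conj_QQ hF H.ee hx hr
  Rmax := Rmax hF (by omega) H
  Rmin := Rmin hF hn H
  Rna := Rna hF (by omega) H
  cR := cR hF (by omega) H
  aut := A.aut
  ytrick := A.ytrick

end Cfsg.Agent.KFacts.Unit.SheetTwo
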