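import Mathlib
import Cfsg.Agent.OddHalf.D7.Uni.PentGlue

/-!
# Two automorphism facts about `PSU n F 2`, `n ≥ 6`, relative to the centraliser of a transvection

`aut`: an automorphism of 2-power order trivial on `PP / QQ` is conjugation by an element of `QQ`.
`ytrick`: an automorphism of `PP` fixing the transvection moves a transvection of `PP` to a conjugate.
-/

set_option autoImplicit false

namespace Cfsg.Agent.KFacts.Unit.SheetTwoAut

open Cfsg Matrix Cfsg.Agent.LieClassical.HermBasic Cfsg.Agent.LieClassical.HermSiegel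
  Cfsg.Agent.LieClassical.HermGen Cfsg.Agent.LieClassical.SUBasic
  Cfsg.Agent.ClassicalGeometry.PSUAutBasic Cfsg.Agent.ClassicalGeometry.PSUAutSylow
  Cfsg.Agent.ClassicalGeometry.PSUAutUnip Cfsg.Agent.ClassicalGeometry.PSUAutPhi
  Cfsg.Agent.ClassicalGeometry.PSUAutExt Cfsg.Agent.ClassicalGeometry.PSUAutSemi
  Cfsg.Agent.KFacts.Unit Cfsg.Agent.OddHalf.D7.Uni.PentGlue

open Cfsg.Agent.ClassicalGeometry.PSUAutCount (gm semiConj toAut herm_gm act_semiConj herm_semi
  gm_inv_mulVec gm_mulVec_inv gm_mul)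

variable {F : Type*} [Field F] [Fintype F] {q n : ℕ} {e f : Fin n → F}

/-- Restriction of an automorphism to `PP`. -/
theorem exists_res {u : Fin n → F} (α : MulAut (PSU n F q)) (h : ∀ x ∈ PP q u, α x ∈ PP q u) :
    ∃ β : MulAut ↥(PP q u : Subgroup (PSU n F q)), ∀ x, (β x : PSU n F q) = α x := by
  let b : ↥(PP q u : Subgroup (PSU n F q)) →* ↥(PP q u : Subgroup (PSU n F q)) :=
    { toFun := fun x => ⟨α x, h x x.2⟩
      map_one' := Subtype.ext (map_one α)
      map_mul' := fun x y => Subtype.ext (map_mul α _ _) }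
  have hb : Function.Injective b := fun x y hxy =>
    Subtype.ext (α.injective (congrArg (fun z : ↥(PP q u : Subgroup (PSU n F q)) => (z : PSU n F q)) hxy))
  exact ⟨MulEquiv.ofBijective b (Finite.injective_iff_bijective.1 hb), fun x => rfl⟩

/-- An automorphism of `PP` preserving the inclusion `QQ ≤ QQ` preserves `QQ`. -/
theorem presQ_of_le [CharP F 2] (hF : Fintype.card F = q ^ 2) (he : hermForm n F q e e = 0)
    {β : MulAut ↥(PP q e : Subgroup (PSU n F q))}
    (h : ∀ x : ↥(PP q e : Subgroup (PSU n F q)), (x : PSU n F q) ∈ QQ hF e he → (β x : PSU n F q) ∈ QQ hF e he) :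
    PresQ hF he β := by
  intro x
  refine ⟨h x, fun hx => ?_⟩
  let QP : Subgroup ↥(PP q e : Subgroup (PSU n F q)) := (QQ hF e he).subgroupOf (PP q e)
  have hle : QP.map (β : ↥(PP q e : Subgroup (PSU n F q)) →* ↥(PP q e : Subgroup (PSU n F q))) ≤ QP := by
    rintro _ ⟨w, hw, rfl⟩
    exact h w hw
  have hcard : Nat.card (QP.map (β : ↥(PP q e : Subgroup (PSU n F q)) →* ↥(PP q e : Subgroup (PSU n F q)))) =
      Nat.card QP := (Nat.card_congr (Subgroup.equivMapOfInjective _ _ β.injective).toEquiv).symm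
  have heq := Subgroup.eq_of_le_of_card_ge hle hcard.ge
  have h1 : β x ∈ QP := hx
  rw [← heq] at h1
  obtain ⟨w, hw, hwx⟩ := h1
  have : w = x := β.injective hwx
  rw [← this]
  exact hw

/-- **Every automorphism of `PP` preserves `QQ = O₂(PP)`.** -/
theorem presQ [CharP F 2] (hF : Fintype.card F = q ^ 2) (hn : 3 ≤ n) (H : IsFrame q e f)
    (β : MulAut ↥(PP q e : Subgroup (PSU n F q))) : PresQ hF H.ee β := by
  have : Fact (Nat.Prime 2) := ⟨Nat.prime_two⟩
  have he0 := frame_ne_zero H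
  apply presQ_of_le
  have hQP := QQ_le_PP (n := n) hF H.ee
  let N : Subgroup (PSU n F q) := (((QQ hF e H.ee).subgroupOf (PP q e)).map
    (β : ↥(PP q e : Subgroup (PSU n F q)) →* ↥(PP q e : Subgroup (PSU n F q)))).map (PP q e).subtype
  have hN : N ≤ QQ hF e H.ee := by
    apply le_QQ hF hn 2 H
    · refine IsPGroup.map (IsPGroup.map ?_ _) _
      have h1 : IsPGroup 2 (QQ hF e H.ee) := (isPGroup_siegG hF 2 H.ee).map _
      exact h1.comap_subtype
    · rintro g ⟨x, -, hx⟩
      obtain ⟨g', hg', hx'⟩ := mem_PP.1 x.2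
      have h1 : pr n F q g = pr n F q g' := by rw [← hx, hx']; rfl
      obtain ⟨ζ, hζ, h2⟩ := exists_center_mul h1
      obtain ⟨c, hc0, -, hc⟩ := exists_scalar_of_mem_center hF hn hζ
      rw [h2, act_mul, hc, act_smul] at hg'
      refine ⟨c⁻¹, inv_ne_zero hc0, ?_⟩
      conv_rhs => rw [← hg']
      rw [smul_smul, inv_mul_cancel₀ hc0, one_smul]
    · rintro g hg _ ⟨_, ⟨x, hx, rfl⟩, rfl⟩
      set p : ↥(PP q e : Subgroup (PSU n F q)) := ⟨pr n F q g, mem_PP.2 ⟨g, hg, rfl⟩⟩ with hp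
      refine ⟨p * β x * p⁻¹, ⟨β⁻¹ p * x * (β⁻¹ p)⁻¹, ?_, ?_⟩, rfl⟩
      · exact PP_conj_QQ hF H.ee (β⁻¹ p).2 hx
      · change β _ = _
        rw [map_mul, map_mul, map_inv, MulAut.apply_inv_self]
  intro x hx
  exact hN ⟨β x, ⟨x, hx, rfl⟩, rfl⟩

/-- **An automorphism of 2-power order trivial on `PP / QQ` is conjugation by an element of `QQ`.** -/
theorem aut [CharP F 2] (hF : Fintype.card F = 2 ^ 2) (hn : 6 ≤ n) (H : IsFrame 2 e f) (α : MulAut (PSU n F 2))
    (hα : IsPGroup 2 (Subgroup.zpowers α)) (h11 : (1 : F) + 1 ^ 2 = 0)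
    (hαz : α (pr n F 2 (transv hF e H.ee 1 h11)) = pr n F 2 (transv hF e H.ee 1 h11))
    (h : ∀ x ∈ PP 2 e, x⁻¹ * α x ∈ QQ hF e H.ee) : ∃ r ∈ QQ hF e H.ee, α = MulAut.conj r := by
  have he0 := frame_ne_zero H
  have hQP := QQ_le_PP (n := n) hF H.ee
  have hPP : ∀ x ∈ PP 2 e, α x ∈ PP 2 e := by
    intro x hx
    have h1 : x * (x⁻¹ * α x) ∈ PP 2 e := mul_mem hx (hQP (h x hx))
    rwa [mul_inv_cancel_left] at h1
  obtain ⟨β, hβ⟩ := exists_res α hPP
  have hPres : PresQ hF H.ee β := presQ hF (by omega) H β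
  obtain ⟨φ, hφ, -⟩ := exists_indP_equiv hF (by omega) H hPres
  -- `φ` is a scalar
  obtain ⟨κ, hκ⟩ := schur_coord hF (by omega) (by omega) (φ : coordSub F n (n - 2) →+ coordSub F n (n - 2)) (by
    intro s hss w
    set l := transv hF (s : Fin n → F) hss 1 h11 with hl
    have hse : hermForm n F 2 (e : Fin n → F) s = 0 := herm_eq_zero_swap hF ((H.mem s).1 s.2).1
    have hle : act l e = e := by rw [hl, act_transv, hse, mul_zero, zero_smul, add_zero]
    have hlv : ∀ v : coordSub F n (n - 2), prV hF H (act l v) = v + hermForm n F 2 (v : Fin n → F) s • s := by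
      intro v
      rw [hl, act_transv, one_mul, prV_add, prV_smul, prV_of_mem, prV_of_mem]
    obtain ⟨w1, μ1, h1, e1⟩ := mem_QQ.1 (h _ (mem_PP.2 ⟨l, hle, rfl⟩))
    have hle' : act (l * siegel hF e w1 μ1 h1) e = e := by rw [act_mul, act_siegel_self, hle]
    have hll : (β ⟨pr n F 2 l, mem_PP.2 ⟨l, hle, rfl⟩⟩ : PSU n F 2) = pr n F 2 (l * siegel hF e w1 μ1 h1) := by
      rw [hβ, map_mul, ← e1, mul_inv_cancel_left]
    have E := IndP.equivariant (by omega) H hφ hle hle' hll w
    have h2 : prV hF H (act (l * siegel hF e w1 μ1 h1) (φ w)) = prV hF H (act l (φ w)) := by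
      have h3 : act (siegel hF e w1 μ1 h1) (φ w : Fin n → F) =
          (φ w : Fin n → F) + (-hermForm n F 2 (φ w : Fin n → F) w1) • e := by
        rw [act_siegel, ((H.mem _).1 (φ w).2).1]
        simp
      rw [act_mul, h3, act_add, act_smul, hle, prV_add, prV_smul]
      have h5 : prV hF H e = 0 := by
        apply Subtype.ext
        rw [prV_coe, H.ef, H.ee, one_smul, zero_smul, sub_self, sub_zero]
        rfl
      rw [h5, smul_zero, add_zero]
    rw [h2, hlv, hlv, map_add] at E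
    exact add_left_cancel E)
  -- the scalar is one
  have hκ1 : κ = 1 := by
    obtain ⟨k, hk⟩ := hα ⟨α, Subgroup.mem_zpowers α⟩
    have hk' : α ^ 2 ^ k = 1 := congrArg Subtype.val hk
    have hpow : ∀ m : ℕ, IndP hF (β ^ m) (fun w => κ ^ m • w) := by
      intro m
      induction m with
      | zero =>
        have := IndP.one (n := n) (e := e) hF
        rw [pow_zero]
        intro w μ h
        obtain ⟨μ', h', e1⟩ := this w μ h
        refine ⟨μ', ?_, ?_⟩
        · simp only [pow_zero, one_smul]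
          exact h'
        · rw [e1]
          congr 1
          exact siegel_congr hF _ _ rfl (by simp) rfl
      | succ m ih =>
        have h1 := IndP.mul (α := β) hφ ih
        have h2 : (φ ∘ fun w : coordSub F n (n - 2) => κ ^ m • w) = fun w => κ ^ (m + 1) • w := by
          funext w
          change φ (κ ^ m • w) = _
          have := hκ (κ ^ m • w)
          change φ (κ ^ m • w) = _ at this
          rw [this, smul_smul, pow_succ']
        rw [pow_succ', ← h2]
        exact h1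
    have hβk : β ^ 2 ^ k = 1 := by
      ext x
      have h1 : ∀ m : ℕ, ((β ^ m) x : PSU n F 2) = (α ^ m) x := by
        intro m
        induction m with
        | zero => rfl
        | succ m ih => rw [pow_succ', pow_succ', MulAut.mul_apply, MulAut.mul_apply, hβ, ih]
      rw [h1, hk']
      rfl
    have h1 := hpow (2 ^ k)
    rw [hβk] at h1
    have h2 := IndP.unique (by omega) H h1 (IndP.one hF)
    let i0 : Fin n := ⟨0, by omega⟩
    have hi0 : i0.val < n - 2 := by simp [i0]; omega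
    have h3 := congrFun h2 (bas F n i0)
    change κ ^ 2 ^ k • bas F n i0 = bas F n i0 at h3
    have h4 : κ ^ 2 ^ k = 1 := by
      have h5 : κ ^ 2 ^ k • bas F n i0 = (1 : F) • bas F n i0 := by rw [one_smul]; exact h3
      exact smul_left_injective F (bas_ne_zero (F := F) hi0) h5
    have : Fact (Nat.Prime 2) := ⟨Nat.prime_two⟩
    have h5 : (κ - 1) ^ 2 ^ k = 0 := by rw [sub_pow_char_pow, h4, one_pow, sub_self]
    exact sub_eq_zero.1 (eq_zero_of_pow_eq_zero h5)
  subst hκ1
  -- conclusion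
  obtain ⟨s, hs, hconj⟩ := autCent_mod hF (by omega) he0 H.ee α (fun x hx => by
    obtain ⟨μ, hμ, rfl⟩ := mem_RR.1 hx
    rcases zero_or_one_of_trace hμ with rfl | rfl
    · rw [transv_zero, map_one, map_one]
    · exact hαz) (fun x hx => by
    obtain ⟨w1, μ1, h1, rfl⟩ := mem_QQ.1 hx
    obtain ⟨w', hw', μ', h', e2⟩ := exists_normal hF H h1
    rw [e2]
    obtain ⟨μ2, h2, e3⟩ := hφ ⟨w', hw'⟩ μ' h'
    have h3 : φ ⟨w', hw'⟩ = ⟨w', hw'⟩ := by
      have := hκ ⟨w', hw'⟩
      rw [one_smul] at this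
      exact this
    rw [hβ] at e3
    change α (pr n F 2 (siegel hF e w' μ' h')) = _ at e3
    have h4 : IsSiegel 2 e w' μ2 := by rw [h3] at h2; exact h2
    have h5 : siegel hF e (φ ⟨w', hw'⟩ : Fin n → F) μ2 h2 = siegel hF e w' μ2 h4 :=
      siegel_congr hF _ _ rfl (by rw [h3]) rfl
    have hν : (μ2 - μ') + (μ2 - μ') ^ 2 = 0 := by
      have t1 := h4.tr
      have t2 := h'.tr
      rw [sub_pow_q hF]
      linear_combination t1 - t2
    refine mem_RR.2 ⟨μ2 - μ', hν, ?_⟩
    rw [e3, h5, mul_inv_eq_iff_eq_mul, ← map_mul, transv, siegel_mul]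
    congr 1
    exact siegel_congr hF _ _ rfl (zero_add _).symm (by rw [herm_zero_right hF]; ring))
  exact ⟨pr n F 2 s, ⟨s, hs, rfl⟩, hconj⟩

/-- **The `y`-trick.** -/
theorem ytrick [CharP F 2] (hF : Fintype.card F = 2 ^ 2) (hn : 6 ≤ n) (H : IsFrame 2 e f)
    (h11 : (1 : F) + 1 ^ 2 = 0) (hzP : pr n F 2 (transv hF e H.ee 1 h11) ∈ PP 2 e) :
    ∃ k : PSU n F 2, k * pr n F 2 (transv hF e H.ee 1 h11) * k⁻¹ ∈ PP 2 e ∧
      k * pr n F 2 (transv hF e H.ee 1 h11) * k⁻¹ ∉ QQ hF e H.ee ∧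
      ∃ hw : k⁻¹ * pr n F 2 (transv hF e H.ee 1 h11) * k ∈ PP 2 e,
        ∀ β : MulAut ↥(PP 2 e : Subgroup (PSU n F 2)),
          (β ⟨pr n F 2 (transv hF e H.ee 1 h11), hzP⟩ : PSU n F 2) = pr n F 2 (transv hF e H.ee 1 h11) →
          ∃ p : PSU n F 2, p * pr n F 2 (transv hF e H.ee 1 h11) = pr n F 2 (transv hF e H.ee 1 h11) * p ∧
            (β ⟨k⁻¹ * pr n F 2 (transv hF e H.ee 1 h11) * k, hw⟩ : PSU n F 2) =
              p * (k⁻¹ * pr n F 2 (transv hF e H.ee 1 h11) * k) * p⁻¹ := by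
  have he0 := frame_ne_zero H
  set z := pr n F 2 (transv hF e H.ee 1 h11) with hz
  have hztv : z = pr n F 2 (tv hF e H.ee) := rfl
  obtain ⟨v, v', hve, hv'e, hvv, -, hvv'⟩ := exists_pair_of_iso hF (by omega) he0 H.ee
  have hev := herm_eq_zero_swap hF hve
  have hev' := herm_eq_zero_swap hF hv'e
  have hind : ∀ a b : F, a • e + b • v = 0 → a = 0 ∧ b = 0 := by
    intro a b h
    have h1 := congrArg (fun x => hermForm n F 2 x v') h
    simp only [herm_add_left, herm_smul_left, hev', hvv', herm_zero_left] at h1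
    have hb : b = 0 := by linear_combination h1
    rw [hb, zero_smul, add_zero] at h
    exact ⟨(smul_eq_zero.1 h).resolve_right he0, hb⟩
  obtain ⟨f1, E⟩ := exists_Frm_pair hF H.ee hvv hve hind
  obtain ⟨g, hg, -⟩ := exists_SL hF E (M := !![0, 1; 1, 0]) (by
    rw [Matrix.det_fin_two_of]
    have : (2 : F) = 0 := CharTwo.two_eq_zero
    linear_combination -this)
  have hge : act g e = v := by
    have := hg 0
    simp only [Matrix.cons_val_zero, Fin.sum_univ_two, Matrix.cons_val_one, Matrix.of_apply,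
      Matrix.cons_val_fin_one, zero_smul, one_smul, zero_add] at this
    exact this
  have hgv : act g v = e := by
    have := hg 1
    simp only [Matrix.cons_val_zero, Fin.sum_univ_two, Matrix.cons_val_one, Matrix.of_apply,
      Matrix.cons_val_fin_one, zero_smul, one_smul, add_zero] at this
    exact this
  have hge' : act g⁻¹ e = v := by rw [← hgv, act_inv_act]
  have hk : pr n F 2 g * z * (pr n F 2 g)⁻¹ = pr n F 2 (tv hF v hvv) := by
    rw [hztv, ← map_inv, ← map_mul, ← map_mul, conj_tv hF H.ee hvv g hge]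
  have hk' : (pr n F 2 g)⁻¹ * z * pr n F 2 g = pr n F 2 (tv hF v hvv) := by
    have h1 := conj_tv hF H.ee hvv g⁻¹ hge'
    rw [inv_inv] at h1
    rw [hztv, ← map_inv, ← map_mul, ← map_mul, h1]
  have hvP : pr n F 2 (tv hF v hvv) ∈ PP 2 e := by
    refine mem_PP.2 ⟨_, ?_, rfl⟩
    rw [act_tv, hev, zero_smul, add_zero]
  refine ⟨pr n F 2 g, by rw [hk]; exact hvP, ?_, by rw [hk']; exact hvP, ?_⟩
  · rw [hk]
    intro h0
    obtain ⟨w1, μ1, h1, e1⟩ := mem_QQ.1 h0
    have e2 := siegel_pr_inj hF (by omega) _ _ e1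
    have e3 := congrArg (fun g => act g v') e2
    simp only [act_siegel] at e3
    have hv'v : hermForm n F 2 v' v = 1 := by rw [herm_swap hF v v', hvv', one_pow]
    rw [hv'v, hv'e, smul_zero, add_zero, herm_zero_right hF, sub_zero, one_mul, one_smul, mul_zero, zero_sub,
      zero_smul, add_zero, add_right_inj] at e3
    have := (hind (hermForm n F 2 v' w1) 1 (by rw [e3]; module)).2
    exact one_ne_zero this
  · intro β hβz
    have hPres := presQ hF (by omega) H β
    obtain ⟨α, hα⟩ := ext_frame hF hn H hPres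
    have hαz : α z = z := by
      have h1 := hα ⟨z, hzP⟩
      rw [← h1]
      exact hβz
    obtain ⟨A, ρ, rfl⟩ := Cfsg.Agent.ClassicalGeometry.PSUAutMain.exists_toAut hF (by omega) (by omega) α
    obtain ⟨c, hc0, hc⟩ := scalar_of_fix_transv hF (by omega) A ρ he0 one_ne_zero (isSiegel_zero H.ee one_tr) hαz
    set v2 := sg A ρ v with hv2
    have hv2v2 : hermForm n F 2 v2 v2 = 0 := by rw [hv2, herm_sg, hvv, map_zero]
    have hv2e : hermForm n F 2 v2 e = 0 := by
      have h1 : hermForm n F 2 v2 (sg A ρ e) = 0 := by rw [hv2, herm_sg, hve, map_zero]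
      rw [hc, herm_smul_right] at h1
      exact (mul_eq_zero.1 h1).resolve_left (pow_ne_zero _ hc0)
    have hind2 : ∀ a b : F, a • e + b • v2 = 0 → a = 0 ∧ b = 0 := by
      intro a b h
      have h0 : hermForm n F 2 e (sg A ρ v') = 0 := by
        have h1 : hermForm n F 2 (sg A ρ e) (sg A ρ v') = 0 := by rw [herm_sg, hev', map_zero]
        rw [hc, herm_smul_left] at h1
        exact (mul_eq_zero.1 h1).resolve_left hc0
      have h1 := congrArg (fun x => hermForm n F 2 x (sg A ρ v')) h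
      simp only [herm_add_left, herm_smul_left, h0, hv2, herm_sg, hvv', herm_zero_left, map_one] at h1
      have hb : b = 0 := by linear_combination h1
      rw [hb, zero_smul, add_zero] at h
      exact ⟨(smul_eq_zero.1 h).resolve_right he0, hb⟩
    obtain ⟨f2, E2⟩ := exists_Frm_pair hF H.ee hv2v2 hv2e hind2
    obtain ⟨g1, hg1, -⟩ := exists_map_Frm hF (by omega) E E2
    have hg1e : act g1 e = e := hg1 0
    have hg1v : act g1 v = v2 := hg1 1
    refine ⟨pr n F 2 g1, ?_, ?_⟩
    · rw [← mul_inv_eq_iff_eq_mul]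
      change pr n F 2 g1 * z * (pr n F 2 g1)⁻¹ = z
      rw [hztv, ← map_inv, ← map_mul, ← map_mul, conj_tv hF H.ee H.ee g1 hg1e]
    · rw [hα]
      change toAut A ρ ((pr n F 2 g)⁻¹ * z * pr n F 2 g) = _
      rw [hk', toAut_tv hF hvv hv2v2 A ρ hv2.symm, ← map_inv, ← map_mul, ← map_mul, conj_tv hF hvv hv2v2 g1 hg1v]

end Cfsg.Agent.KFacts.Unit.SheetTwoAut
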