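import Cfsg.Agent.KFacts.Unit.Emb
import Cfsg.Agent.KFacts.Unit.HeisK
import Cfsg.Agent.KFacts.SheetMQuot
import Cfsg.Agent.S0278
import Cfsg.Agent.LieClassical.HermPerfect

/-!
# The sheet of case (M) for `PSU n F 2`, `n ≥ 6`

`qdata` : `PP q e = QQ e · SU_{n-2}(q)` (all even `q`).
`sheetM` : `SheetM (PP 2 e) (QQ hF e H.ee)` from `SheetE z (PP 2 e) (QQ hF e H.ee)`.
-/

set_option autoImplicit false

namespace Cfsg.Agent.KFacts.Unit

open Cfsg Cfsg.Agent.LieClassical.HermBasic Cfsg.Agent.LieClassical.HermSiegel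
  Cfsg.Agent.LieClassical.HermGen Cfsg.Agent.LieClassical.HermSimple Cfsg.Agent.LieClassical.SUBasic Matrix
  Cfsg.Agent.ClassicalGeometry.PSUAutBasic Cfsg.Agent.ClassicalGeometry.PSUAutSylow
  Cfsg.Agent.ClassicalGeometry.PSUAutUnip Cfsg.Agent.ClassicalGeometry.PSUAutPhi
open Cfsg.Agent.OddHalf.D8.Sheet Cfsg.Agent.OddHalf.CaseM Cfsg.Agent.KFacts.SheetMQuot

variable {F : Type*} [Field F] [Fintype F] {q : ℕ}

section General

variable {m : ℕ}

omit [Fintype F] in
theorem frame_castAdd {e f : Fin (m + 2) → F} (H : IsFrame q e f) (i : Fin m) :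
    e (Fin.castAdd 2 i) = 0 := by
  have h1 := ((H.mem (Pi.single (Fin.castAdd 2 i) 1)).1 (single_mem_coordSub (by simp) 1)).1
  rw [herm_single_left, one_mul] at h1
  exact eq_zero_of_pow_eq_zero h1

omit [Fintype F] in
theorem mem_coordSub_append (v : Fin m → F) : Fin.append v (0 : Fin 2 → F) ∈ coordSub F (m + 2) m := by
  intro i hi
  refine Fin.addCases (motive := fun i => m ≤ i.val → Fin.append v (0 : Fin 2 → F) i = 0) (fun j hj => ?_)
    (fun j _ => ?_) i hi
  · exfalso
    rw [Fin.val_castAdd] at hj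
    omega
  · rw [Fin.append_right]; rfl

omit [Fintype F] in
theorem eq_append {w : Fin (m + 2) → F} (hw : w ∈ coordSub F (m + 2) m) :
    w = Fin.append (fun i => w (Fin.castAdd 2 i)) (0 : Fin 2 → F) := by
  apply ext_fin
  · intro i; rw [Fin.append_left]
  · intro i
    rw [Fin.append_right]
    exact hw _ (by simp)

/-- the group `SU_m(q)` in `PSU_{m+2}(q)` -/
def lev (m : ℕ) (F : Type*) [Field F] (q : ℕ) : SU m F q →* PSU (m + 2) F q := (pr (m + 2) F q).comp (emb 2)

/-- **`P = Q · SU_m(q)`.** -/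
theorem qdata [CharP F 2] (hF : Fintype.card F = q ^ 2) (hm : 4 ≤ m) {e f : Fin (m + 2) → F} (H : IsFrame q e f) :
    QData (PP q e) (QQ hF e H.ee) (lev m F q) where
  RP := QQ_le_PP hF H.ee
  Rn x hx r hr := PP_conj_QQ hF H.ee hx hr
  mem g := mem_PP.2 ⟨emb 2 g, emb_fix g (frame_castAdd H), rfl⟩
  dec x hx := by
    obtain ⟨g, hg, rfl⟩ := mem_PP.1 hx
    have hfe : hermForm (m + 2) F q f e = 1 := frame_fe hF H
    obtain ⟨c, μ, hs, hact⟩ := exists_siegel_map hF H.ee (v := f) (v' := act g f)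
      (by rw [herm_act]) (by conv_rhs => rw [← hg, herm_act]) (by rw [hfe]; exact one_ne_zero)
    set s := siegel hF e (c • (act g f - f)) μ hs with hsdef
    have hse : act s⁻¹ e = e := ((act_eq_iff s).1 (act_siegel_self hF hs)).symm
    have h2 : s⁻¹ * g ∈ (fixGrp (m + 2 - 2) : Subgroup (SU (m + 2) F q)) :=
      mem_fixGrp_of_frame hF H (by rw [act_mul, hg, hse]) (by rw [act_mul, ← hact, act_inv_act])
    obtain ⟨a, ha⟩ := exists_emb (m := m) (d := 2) hF h2
    refine ⟨pr (m + 2) F q s, mem_QQ.2 ⟨_, _, hs, rfl⟩, a, ?_⟩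
    change pr (m + 2) F q g = pr (m + 2) F q s * pr (m + 2) F q (emb 2 a)
    rw [ha, ← map_mul, mul_inv_cancel_left]
  simple N hN := by
    by_cases h : N ≤ Subgroup.center (SU m F q)
    · exact Or.inl h
    · right
      exact normal_eq_top_of_perfect hF (by omega)
        (LieClassical.HermPerfect.commutator_SU_eq_top hF (by omega) (by omega)) h

/-- the centre of `SU_m(q)` has odd order -/
theorem odd_center [CharP F 2] (hF : Fintype.card F = q ^ 2) (hm : 3 ≤ m) :
    Odd (Nat.card (Subgroup.center (SU m F q))) := by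
  rw [← Nat.not_even_iff_odd, even_iff_two_dvd]
  intro h2
  have : Fact (Nat.Prime 2) := ⟨Nat.prime_two⟩
  obtain ⟨⟨x, hx⟩, hxo⟩ := exists_prime_orderOf_dvd_card' 2 h2
  obtain ⟨c, hcn, hcq, hxc⟩ := (mem_center_SU_iff hF hm x).1 hx
  have h1 : x * x = 1 := by
    have := pow_orderOf_eq_one (⟨x, hx⟩ : Subgroup.center (SU m F q))
    rw [hxo, pow_two] at this
    exact congrArg Subtype.val this
  have h3 : x ≠ 1 := by
    rintro rfl
    have : orderOf (⟨1, hx⟩ : Subgroup.center (SU m F q)) = 1 := orderOf_eq_one_iff.2 rfl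
    omega
  have hact : ∀ v, act x v = c • v := by
    intro v
    rw [hxc, act_def]
    funext i
    simp [mat, suScalar]
  have h4 : c * c = 1 := by
    let i0 : Fin m := ⟨0, by omega⟩
    have h5 := congrArg (fun g => act g (Pi.single i0 1) i0) h1
    simp only [act_mul, act_one, hact, Pi.smul_apply, smul_eq_mul, Pi.single_eq_same, mul_one] at h5
    exact h5
  have h5 : c = 1 := by
    have h6 : (c - 1) * (c - 1) = 0 := by
      have h7 : (2 : F) = 0 := CharTwo.two_eq_zero
      linear_combination h4 - (c - 1) * h7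
    exact sub_eq_zero.1 (mul_self_eq_zero.1 h6)
  apply h3
  apply ext_act
  intro v
  rw [hact, h5, one_smul, act_one]

theorem pow_dvd_card (hF : Fintype.card F = q ^ 2) (hm : 1 ≤ m) :
    q ^ (m * (m - 1) / 2) ∣ Nat.card (SU m F q) := by
  have h1 := Cfsg.Agent.S0278.result hF m hm
  have h2 : q ^ (m * (m - 1) / 2) ∣ (q + 1) * Nat.card (SU m F q) := by
    rw [h1]; exact dvd_mul_right _ _
  have h3 : Nat.Coprime (q ^ (m * (m - 1) / 2)) (q + 1) := by
    apply Nat.Coprime.pow_left
    simp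
  exact h3.dvd_of_dvd_mul_left h2

end General

section Two

variable [CharP F 2]

theorem card_QQ_le {m : ℕ} (hF : Fintype.card F = 2 ^ 2) {e f : Fin (m + 2) → F} (H : IsFrame 2 e f) :
    Nat.card (QQ hF e H.ee) ≤ 2 ^ (2 * m + 1) := by
  classical
  have h2 : (2 : F) = 0 := CharTwo.two_eq_zero
  have horth : ∀ v : Fin m → F, hermForm (m + 2) F 2 (Fin.append v (0 : Fin 2 → F)) e = 0 := fun v =>
    ((H.mem _).1 (mem_coordSub_append v)).1
  have hex : ∀ v : Fin m → F, ∃ μ, IsSiegel 2 e (Fin.append v (0 : Fin 2 → F)) μ := fun v =>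
    exists_isSiegel_of_orth hF H.ee (horth v)
  choose μ0 hμ0 using hex
  have hb : ∀ (v : Fin m → F) (b : Bool), IsSiegel 2 e (Fin.append v (0 : Fin 2 → F))
      (μ0 v + if b then 1 else 0) := by
    intro v b
    refine ⟨H.ee, horth v, ?_⟩
    cases b
    · simpa using (hμ0 v).tr
    · simp only [if_true]
      have := (hμ0 v).tr
      linear_combination this + (1 + μ0 v) * h2
  let g : (Fin m → F) × Bool → QQ hF e H.ee := fun p =>
    ⟨pr (m + 2) F 2 (siegel hF e _ _ (hb p.1 p.2)), mem_QQ.2 ⟨_, _, hb p.1 p.2, rfl⟩⟩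
  have hg : Function.Surjective g := by
    rintro ⟨x, hx⟩
    obtain ⟨w, μ, h, rfl⟩ := mem_QQ.1 hx
    have H' : Hyp 2 e f := ⟨H.ee, H.ff, H.ef⟩
    obtain ⟨a, h', he⟩ := exists_norm_siegel hF H' h
    have hw : prN 2 e f w ∈ coordSub F (m + 2) m := (H.mem _).2 ⟨prN_e hF H' w, prN_f H' w⟩
    obtain ⟨v, hv⟩ : ∃ v : Fin m → F, prN 2 e f w = Fin.append v (0 : Fin 2 → F) := ⟨_, eq_append hw⟩
    have hd : (a - μ0 v) * (a - μ0 v + 1) = 0 := by
      have h1 := h'.tr
      have h3 := (hμ0 v).tr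
      rw [hv] at h1
      linear_combination h1 - h3 + (-a * μ0 v + μ0 v ^ 2 - μ0 v + μ0 v) * h2
    have hcase : a = μ0 v + (if (false : Bool) then 1 else 0) ∨ a = μ0 v + (if (true : Bool) then 1 else 0) := by
      rcases mul_eq_zero.1 hd with h1 | h1
      · left
        simp only [Bool.false_eq_true, if_false, add_zero]
        exact sub_eq_zero.1 h1
      · right
        simp only [if_true]
        linear_combination h1 - h2
    have key : ∀ b : Bool, a = μ0 v + (if b then 1 else 0) →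
        g (v, b) = ⟨pr (m + 2) F 2 (siegel hF e w μ h), hx⟩ := by
      intro b hab
      apply Subtype.ext
      change pr (m + 2) F 2 (siegel hF e _ _ (hb v b)) = pr (m + 2) F 2 (siegel hF e w μ h)
      rw [he]
      congr 1
      exact siegel_congr hF _ _ rfl hv.symm hab.symm
    rcases hcase with h1 | h1
    · exact ⟨_, key _ h1⟩
    · exact ⟨_, key _ h1⟩
  have h3 := Nat.card_le_card_of_surjective g hg
  refine h3.trans (le_of_eq ?_)
  rw [Nat.card_prod, Nat.card_fun, Nat.card_eq_fintype_card, Nat.card_eq_fintype_card, Nat.card_eq_fintype_card,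
    Fintype.card_fin, Fintype.card_bool, hF, ← pow_mul, pow_succ]

/-- **The sheet of case (M).** -/
theorem sheetM {n : ℕ} (hF : Fintype.card F = 2 ^ 2) (hn : 6 ≤ n) {e f : Fin n → F} (H : IsFrame 2 e f)
    {z : PSU n F 2} (h : SheetE z (PP 2 e) (QQ hF e H.ee)) : SheetM (PP 2 e) (QQ hF e H.ee) := by
  obtain ⟨m, rfl⟩ : ∃ m, n = m + 2 := ⟨n - 2, by omega⟩
  have he0 : e ≠ 0 := by
    rintro rfl
    have := H.ef
    rw [herm_zero_left] at this
    exact zero_ne_one this
  have Q := qdata hF (by omega) H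
  refine ⟨big_of_quasisimple h Q.hq, ⟨m, card_QQ_le hF H, ?_⟩, ?_⟩
  · refine Q.idx h.perf h.R2 (odd_center hF (by omega)) (a := m * (m - 1) / 2) (pow_dvd_card hF (by omega)) ?_
    intro hdvd
    have : Fact (Nat.Prime 2) := ⟨Nat.prime_two⟩
    have h1 := (padicValNat_dvd_iff_le (p := 2) (Nat.factorial_pos m).ne').1 hdvd
    have h2 := padicValNat_factorial_lt_of_ne_zero 2 (n := m) (by omega)
    have h3 : m ≤ m * (m - 1) / 2 := by
      rw [Nat.le_div_iff_mul_le (by norm_num)]
      exact Nat.mul_le_mul_left m (by omega)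
    omega
  · intro α hodd hα
    obtain ⟨x, hx, rfl⟩ := autCent_point hF (by omega) he0 H.ee α (fun x hx => hα x (QQ_le_PP hF H.ee hx))
    have h1 : x * x = 1 := by
      obtain ⟨μ, hμ, rfl⟩ := mem_RR.1 hx
      have h2 : transv hF e H.ee μ hμ * transv hF e H.ee μ hμ = 1 := by
        apply ext_act
        intro v
        rw [act_mul, act_one, act_transv, act_transv, herm_add_left, herm_smul_left, H.ee, mul_zero, add_zero,
          add_assoc, ← add_smul, CharTwo.add_self_eq_zero, zero_smul, add_zero]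
      rw [← map_mul, h2, map_one]
    have h2 : (MulAut.conj x) ^ 2 = 1 := by rw [← map_pow, pow_two, h1, map_one]
    have h3 := orderOf_dvd_of_pow_eq_one h2
    have h4 : orderOf (MulAut.conj x) = 1 := by
      rcases (Nat.dvd_prime Nat.prime_two).1 h3 with h5 | h5
      · exact h5
      · rw [h5] at hodd
        exact absurd hodd (by decide)
    exact orderOf_eq_one_iff.1 h4

end Two

end Cfsg.Agent.KFacts.Unit
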