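import Cfsg.Agent.KFacts.Unit.SheetTwo
import Cfsg.Agent.KFacts.Unit.GLAct

/-!
# `PSU n F 2`, `n ≥ 6`: the normal subgroups of the stabiliser of an isotropic vector

`hq` : a normal subgroup `N ≥ QQ e` of `PP 2 e` satisfies `[N, PP 2 e] ≤ QQ e` or `N = PP 2 e`.
-/

set_option autoImplicit false

namespace Cfsg.Agent.KFacts.Unit.SheetTwoQ

open scoped commutatorElement Pointwise

open Cfsg Cfsg.Agent.LieClassical.HermBasic Cfsg.Agent.LieClassical.HermSiegel
  Cfsg.Agent.LieClassical.HermGen Cfsg.Agent.LieClassical.SUBasic Matrix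
  Cfsg.Agent.ClassicalGeometry.PSUAutBasic Cfsg.Agent.ClassicalGeometry.PSUAutSylow
  Cfsg.Agent.ClassicalGeometry.PSUAutUnip Cfsg.Agent.ClassicalGeometry.PSUAutPhi
  Cfsg.Agent.KFacts.Unit.SheetTwo

set_option linter.unusedSectionVars false

variable {F : Type*} [Field F] [Fintype F] {n : ℕ} [CharP F 2] {e f : Fin n → F}

/-- `zt` on congruent vectors -/
theorem zt_congr (hF : Fintype.card F = 2 ^ 2) {u v : Fin n → F} (h : u = v) (hu : hermForm n F 2 u u = 0)
    (hv : hermForm n F 2 v v = 0) : zt hF hu = zt hF hv := by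
  subst h; rfl

/-- the transvection of `u ∈ e^⊥` is conjugate under `QQ e` to that of its component in the coordinate space -/
theorem exists_red (hF : Fintype.card F = 2 ^ 2) (hn : 6 ≤ n) (H : IsFrame 2 e f) {u : Fin n → F}
    (hu : hermForm n F 2 u u = 0) (hue : hermForm n F 2 u e = 0) :
    ∃ v ∈ coordSub F n (n - 2), ∃ hv : hermForm n F 2 v v = 0, u = v + hermForm n F 2 u f • e ∧
      (v ≠ 0 → ∃ r ∈ QQ hF e H.ee, zt hF hu = r * zt hF hv * r⁻¹) := by
  set c := hermForm n F 2 u f with hc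
  have hvV : u - c • e ∈ coordSub F n (n - 2) := by
    rw [H.mem]
    constructor
    · rw [herm_sub_left, herm_smul_left, H.ee, hue]; ring
    · rw [herm_sub_left, herm_smul_left, H.ef, ← hc]; ring
  have heu := herm_eq_zero_swap hF hue
  have hv : hermForm n F 2 (u - c • e) (u - c • e) = 0 := by
    rw [herm_sub_left, herm_smul_left, herm_sub_right hF, herm_sub_right hF, herm_smul_right, herm_smul_right, hu, hue, heu,
      H.ee]
    ring
  refine ⟨u - c • e, hvV, hv, by abel, fun hv0 => ?_⟩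
  obtain ⟨x, hx, hx0, hxx, hne⟩ := exists_iso_not_perp hF (by omega) hvV hv0
  set h := hermForm n F 2 (u - c • e) x with hh
  -- `t ^ 2 * h = - c`
  obtain ⟨t, ht⟩ : ∃ t : F, t ^ 2 = -c * h⁻¹ := ⟨(-c * h⁻¹) ^ 2, pow_q_pow_q hF _⟩
  have htx : t • x ∈ coordSub F n (n - 2) := Submodule.smul_mem _ _ hx
  obtain ⟨μ, hs⟩ := exists_isSiegel hF H htx
  have hve : hermForm n F 2 (u - c • e) e = 0 := ((H.mem _).1 hvV).1
  have hact : act (siegel hF e (t • x) μ hs) (u - c • e) = u := by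
    rw [act_siegel, hve, zero_smul, add_zero, mul_zero, zero_sub, herm_smul_right, ht, ← hh]
    have : -(-c * h⁻¹ * h) = c := by field_simp
    rw [this, sub_add_cancel]
  refine ⟨pr n F 2 (siegel hF e (t • x) μ hs), mem_QQ.2 ⟨_, _, hs, rfl⟩, ?_⟩
  rw [conj_zt hF hv _ (by rw [herm_act]; exact hv)]
  exact zt_congr hF hact.symm _ _

/-- the transvections of a submodule of isotropic multiples of `e` -/
theorem zt_smul_mem (hF : Fintype.card F = 2 ^ 2) (hn : 3 ≤ n) (H : IsFrame 2 e f) {c : F}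
    (hu : hermForm n F 2 (c • e) (c • e) = 0) : zt hF hu ∈ QQ hF e H.ee := by
  rcases eq_or_ne c 0 with rfl | hc
  · have h1 : zt hF hu = 1 := by
      rw [zt]
      have : transv hF ((0 : F) • e) hu 1 h11 = 1 := by
        apply ext_act
        intro v
        rw [act_transv, zero_smul, herm_zero_right hF, mul_zero, smul_zero, add_zero, act_one]
      rw [this, map_one]
    rw [h1]; exact one_mem _
  · rw [zt_smul hF hn (frame_ne_zero H) H.ee hc hu]
    exact RR_le_QQ hF H.ee (zt_mem hF H.ee)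

/-- **generation** of `PP 2 e` by `QQ e` and the transvections of the coordinate space -/
theorem PP_le (hF : Fintype.card F = 2 ^ 2) (hn : 6 ≤ n) (H : IsFrame 2 e f) {M : Subgroup (PSU n F 2)}
    (hM : QQ hF e H.ee ≤ M)
    (h : ∀ v ∈ coordSub F n (n - 2), v ≠ 0 → ∀ hv : hermForm n F 2 v v = 0, zt hF hv ∈ M) : PP 2 e ≤ M := by
  rw [PP, stabV_eq hF hn (frame_ne_zero H) H.ee, Subgroup.map_le_iff_le_comap, tG, Subgroup.closure_le]
  rintro _ ⟨u, hu, hiu, μ, hμ, rfl⟩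
  rw [SetLike.mem_coe, Subgroup.mem_comap]
  rcases zero_or_one_of_trace hμ with rfl | rfl
  · rw [transv_zero', map_one]; exact one_mem _
  · change zt hF hiu ∈ M
    obtain ⟨v, hvV, hv, huv, hr⟩ := exists_red hF hn H hiu hu
    by_cases hv0 : v = 0
    · rw [hv0, zero_add] at huv
      have h1 : hermForm n F 2 (hermForm n F 2 u f • e) (hermForm n F 2 u f • e) = 0 := by rw [← huv]; exact hiu
      rw [zt_congr hF huv hiu h1]
      exact hM (zt_smul_mem hF (by omega) H h1)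
    · obtain ⟨r, hr, e1⟩ := hr hv0
      rw [e1]
      exact mul_mem (mul_mem (hM hr) (h v hvV hv0 hv)) (inv_mem (hM hr))

/-- `x ~ y` : the product of the transvections lies in `N` -/
def E (hF : Fintype.card F = 2 ^ 2) (N : Subgroup (PSU n F 2)) (x y : Fin n → F) : Prop :=
  ∃ (hx : hermForm n F 2 x x = 0) (hy : hermForm n F 2 y y = 0), zt hF hx * zt hF hy ∈ N

section E

variable {hF : Fintype.card F = 2 ^ 2} {N : Subgroup (PSU n F 2)} {x y z : Fin n → F}

theorem E.symm (h : E hF N x y) : E hF N y x := by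
  obtain ⟨hx, hy, hm⟩ := h
  refine ⟨hy, hx, ?_⟩
  have h1 := inv_mem hm
  rw [_root_.mul_inv_rev, inv_eq_of_mul_eq_one_left (zt_sq hF hx), inv_eq_of_mul_eq_one_left (zt_sq hF hy)] at h1
  exact h1

theorem E.trans (h : E hF N x y) (h' : E hF N y z) : E hF N x z := by
  obtain ⟨hx, hy, hm⟩ := h
  obtain ⟨hy', hz, hm'⟩ := h'
  refine ⟨hx, hz, ?_⟩
  have h1 := mul_mem hm hm'
  have e1 : zt hF hx * zt hF hy * (zt hF hy' * zt hF hz) = zt hF hx * zt hF hz := by
    rw [mul_assoc, ← mul_assoc (zt hF hy), show zt hF hy * zt hF hy' = 1 from zt_sq hF hy, one_mul]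
  rwa [e1] at h1

theorem E.conj (hN : ∀ p ∈ PP 2 e, ∀ x ∈ N, p * x * p⁻¹ ∈ N) (h : E hF N x y) {g : SU n F 2} (hg : act g e = e) :
    E hF N (act g x) (act g y) := by
  obtain ⟨hx, hy, hm⟩ := h
  have hx' : hermForm n F 2 (act g x) (act g x) = 0 := by rw [herm_act]; exact hx
  have hy' : hermForm n F 2 (act g y) (act g y) = 0 := by rw [herm_act]; exact hy
  refine ⟨hx', hy', ?_⟩
  have h1 := hN (pr n F 2 g) (mem_PP.2 ⟨g, hg, rfl⟩) _ hm
  have e1 : pr n F 2 g * (zt hF hx * zt hF hy) * (pr n F 2 g)⁻¹ =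
      (pr n F 2 g * zt hF hx * (pr n F 2 g)⁻¹) * (pr n F 2 g * zt hF hy * (pr n F 2 g)⁻¹) := by group
  rw [e1, conj_zt hF hx g hx', conj_zt hF hy g hy'] at h1
  exact h1

theorem E.smul_left (hn : 3 ≤ n) (h : E hF N x y) (hx0 : x ≠ 0) {c : F} (hc : c ≠ 0) : E hF N (c • x) y := by
  obtain ⟨hx, hy, hm⟩ := h
  have h1 : hermForm n F 2 (c • x) (c • x) = 0 := by
    rw [herm_smul_left, herm_smul_right, hx, mul_zero, mul_zero]
  refine ⟨h1, hy, ?_⟩
  rw [zt_smul hF hn hx0 hx hc h1]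
  exact hm

theorem E.of_smul_left (hn : 3 ≤ n) {c : F} (h : E hF N (c • x) y) (hx0 : x ≠ 0) (hc : c ≠ 0) : E hF N x y := by
  have h1 := h.smul_left hn (smul_ne_zero hc hx0) (inv_ne_zero hc)
  rwa [smul_smul, inv_mul_cancel₀ hc, one_smul] at h1

end E

/-- all hyperbolic pairs -/
theorem E_hyp (hF : Fintype.card F = 2 ^ 2) (hn : 6 ≤ n) (H : IsFrame 2 e f) {N : Subgroup (PSU n F 2)}
    (hN : ∀ p ∈ PP 2 e, ∀ x ∈ N, p * x * p⁻¹ ∈ N) {x0 y0 : Fin n → F} (hx0 : x0 ∈ coordSub F n (n - 2))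
    (hy0 : y0 ∈ coordSub F n (n - 2)) (hne : hermForm n F 2 x0 y0 ≠ 0) (hE : E hF N x0 y0) {x y : Fin n → F}
    (hx : x ∈ coordSub F n (n - 2)) (hy : y ∈ coordSub F n (n - 2)) (hxx : hermForm n F 2 x x = 0)
    (hyy : hermForm n F 2 y y = 0) (hxy : hermForm n F 2 x y ≠ 0) : E hF N x y := by
  obtain ⟨hxx0, hyy0, -⟩ := id hE
  have hx00 : x0 ≠ 0 := by rintro rfl; exact hne (herm_zero_left _)
  have hx' : x ≠ 0 := by rintro rfl; exact hxy (herm_zero_left _)
  have key : ∀ {x y : Fin n → F}, hermForm n F 2 x x = 0 →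
      hermForm n F 2 ((hermForm n F 2 x y)⁻¹ • x) ((hermForm n F 2 x y)⁻¹ • x) = 0 := by
    intro x y h
    rw [herm_smul_left, herm_smul_right, h, mul_zero, mul_zero]
  obtain ⟨g, hg, hg1, hg2⟩ := sG_map_hyp hF (k := n - 2) (by omega) (by omega)
    (Submodule.smul_mem _ (hermForm n F 2 x0 y0)⁻¹ hx0) hy0 (Submodule.smul_mem _ (hermForm n F 2 x y)⁻¹ hx) hy
    (key hxx0) hyy0 (by rw [herm_smul_left, inv_mul_cancel₀ hne]) (key hxx) hyy
    (by rw [herm_smul_left, inv_mul_cancel₀ hxy])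
  have hge : act g e = e := fix_e hF H (sG_le_fixGrp hF hg)
  have h1 := (hE.smul_left (by omega) hx00 (inv_ne_zero hne)).conj hN hge
  rw [hg1, hg2] at h1
  exact h1.of_smul_left (by omega) hx' (inv_ne_zero hxy)

/-- all pairs -/
theorem E_all (hF : Fintype.card F = 2 ^ 2) (hn : 6 ≤ n) {N : Subgroup (PSU n F 2)}
    (hyp : ∀ x ∈ coordSub F n (n - 2), ∀ y ∈ coordSub F n (n - 2), hermForm n F 2 x x = 0 →
      hermForm n F 2 y y = 0 → hermForm n F 2 x y ≠ 0 → E hF N x y) {x y : Fin n → F}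
    (hx : x ∈ coordSub F n (n - 2)) (hy : y ∈ coordSub F n (n - 2)) (hxx : hermForm n F 2 x x = 0)
    (hyy : hermForm n F 2 y y = 0) (hx0 : x ≠ 0) (hy0 : y ≠ 0) : E hF N x y := by
  have fin : ∀ z ∈ coordSub F n (n - 2), hermForm n F 2 z z = 0 → hermForm n F 2 x z ≠ 0 →
      hermForm n F 2 y z ≠ 0 → E hF N x y := fun z hz hzz hxz hyz =>
    (hyp x hx z hz hxx hzz hxz).trans (hyp z hz y hy hzz hyy fun h => hyz (herm_eq_zero_swap hF h))
  obtain ⟨z1, hz1, -, hzz1, h1⟩ := exists_iso_not_perp hF (by omega) hx hx0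
  obtain ⟨z2, hz2, -, hzz2, h2⟩ := exists_iso_not_perp hF (by omega) hy hy0
  by_cases h3 : hermForm n F 2 y z1 = 0
  · by_cases h4 : hermForm n F 2 x z2 = 0
    · by_cases h5 : hermForm n F 2 z1 z2 = 0
      · have h6 := herm_eq_zero_swap hF h5
        refine fin (z1 + z2) (Submodule.add_mem _ hz1 hz2) ?_ ?_ ?_
        · rw [herm_add_left, herm_add_right hF, herm_add_right hF, hzz1, hzz2, h5, h6]; ring
        · rw [herm_add_right hF, h4, add_zero]; exact h1
        · rw [herm_add_right hF, h3, zero_add]; exact h2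
      · exact ((hyp x hx z1 hz1 hxx hzz1 h1).trans (hyp z1 hz1 z2 hz2 hzz1 hzz2 h5)).trans
          (hyp z2 hz2 y hy hzz2 hyy fun h => h2 (herm_eq_zero_swap hF h))
    · exact fin z2 hz2 hzz2 h4 h2
  · exact fin z1 hz1 hzz1 h1 h3

/-- a vector of the coordinate space orthogonal to `y^⊥` is a multiple of `y` -/
theorem exists_smul_of_perp (hF : Fintype.card F = 2 ^ 2) (hn : 4 ≤ n) {x y : Fin n → F}
    (hx : x ∈ coordSub F n (n - 2)) (hy : y ∈ coordSub F n (n - 2)) (hy0 : y ≠ 0)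
    (h : ∀ v ∈ coordSub F n (n - 2), hermForm n F 2 v y = 0 → hermForm n F 2 v x = 0) : ∃ c : F, x = c • y := by
  obtain ⟨w0, hw0, -, -, h1⟩ := exists_iso_not_perp hF hn hy hy0
  have h1' : hermForm n F 2 w0 y ≠ 0 := fun h2 => h1 (herm_eq_zero_swap hF h2)
  set a := hermForm n F 2 w0 x * (hermForm n F 2 w0 y)⁻¹ with ha
  have h2 : ∀ v ∈ coordSub F n (n - 2), hermForm n F 2 v x = a * hermForm n F 2 v y := by
    intro v hv
    have h3 := h (v - (hermForm n F 2 v y * (hermForm n F 2 w0 y)⁻¹) • w0)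
      (Submodule.sub_mem _ hv (Submodule.smul_mem _ _ hw0)) (by
        rw [herm_sub_left, herm_smul_left, inv_mul_cancel_right₀ h1', sub_self])
    rw [herm_sub_left, herm_smul_left, sub_eq_zero] at h3
    rw [h3, ha]; ring
  have hb : (a ^ 2) ^ 2 = a := pow_q_pow_q hF a
  refine ⟨a ^ 2, ?_⟩
  by_contra hcon
  have h4 : x - a ^ 2 • y ∈ coordSub F n (n - 2) := Submodule.sub_mem _ hx (Submodule.smul_mem _ _ hy)
  obtain ⟨z, hz, -, -, h5⟩ := exists_iso_not_perp hF hn h4 (sub_ne_zero.2 hcon)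
  apply h5
  apply herm_eq_zero_swap hF
  rw [herm_sub_right hF, herm_smul_right, hb, h2 z hz, sub_self]

/-- from an orthogonal pair to a hyperbolic pair -/
theorem E_step (hF : Fintype.card F = 2 ^ 2) (hn : 6 ≤ n) (H : IsFrame 2 e f) {N : Subgroup (PSU n F 2)}
    (hN : ∀ p ∈ PP 2 e, ∀ x ∈ N, p * x * p⁻¹ ∈ N) {x y : Fin n → F} (hx : x ∈ coordSub F n (n - 2))
    (hy : y ∈ coordSub F n (n - 2)) (hy0 : y ≠ 0) (hxy : hermForm n F 2 x y = 0) (hind : ∀ c : F, x ≠ c • y)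
    (hE : E hF N x y) : ∃ x' ∈ coordSub F n (n - 2), hermForm n F 2 x' x ≠ 0 ∧ E hF N x' x := by
  obtain ⟨hxx, hyy, -⟩ := id hE
  obtain ⟨z, hz, hzz, hyz, hxz⟩ : ∃ z ∈ coordSub F n (n - 2), hermForm n F 2 z z = 0 ∧ hermForm n F 2 y z = 0 ∧
      hermForm n F 2 x z ≠ 0 := by
    by_contra hcon
    push Not at hcon
    obtain ⟨p, hp, p', hp', hpp, hpp', hpp1, hpy, hp'y⟩ := exists_pair_coord hF (k := n - 2) (by omega) (by omega)
      hy hyy
    have h1 : ∀ w ∈ (coordSub F n (n - 2) ⊓ perp 2 y : Submodule F (Fin n → F)), hermForm n F 2 w x = 0 := by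
      refine iso_induction hF (W := coordSub F n (n - 2) ⊓ perp 2 y) ⟨hp, hpy⟩ ⟨hp', hp'y⟩ hpp hpp' hpp1
        (P := fun w => hermForm n F 2 w x = 0) ?_ ?_
      · intro a b _ _ ha hb
        rw [herm_add_left, ha, hb, add_zero]
      · intro s hs hss
        exact herm_eq_zero_swap hF (hcon s hs.1 hss (herm_eq_zero_swap hF hs.2))
    obtain ⟨c, hc⟩ := exists_smul_of_perp hF (by omega) hx hy hy0 fun v hv hvy => h1 v ⟨hv, hvy⟩
    exact hind c hc
  have hze : hermForm n F 2 e z = 0 := herm_eq_zero_swap hF ((H.mem z).1 hz).1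
  have h4 : act (transv hF z hzz 1 h11) e = e := by rw [act_transv, hze, mul_zero, zero_smul, add_zero]
  have h5 : act (transv hF z hzz 1 h11) y = y := by rw [act_transv, hyz, mul_zero, zero_smul, add_zero]
  have h6 : act (transv hF z hzz 1 h11) x = x + hermForm n F 2 x z • z := by rw [act_transv, one_mul]
  have h7 := hE.conj hN h4
  rw [h5, h6] at h7
  refine ⟨x + hermForm n F 2 x z • z, Submodule.add_mem _ hx (Submodule.smul_mem _ _ hz), ?_, h7.trans hE.symm⟩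
  rw [herm_add_left, herm_smul_left, hxx, zero_add]
  exact mul_ne_zero hxz fun h => hxz (herm_eq_zero_swap hF h)

/-- **the normal subgroups of `PP 2 e` above `QQ e`** -/
theorem hq (hF : Fintype.card F = 2 ^ 2) (hn : 6 ≤ n) (H : IsFrame 2 e f) (N : Subgroup (PSU n F 2))
    (hNP : N ≤ PP 2 e) (hRN : QQ hF e H.ee ≤ N) (hN : ∀ p ∈ PP 2 e, ∀ x ∈ N, p * x * p⁻¹ ∈ N) :
    ⁅N, PP 2 e⁆ ≤ QQ hF e H.ee ∨ N = PP 2 e := by
  classical
  by_cases hcon : ⁅N, PP 2 e⁆ ≤ QQ hF e H.ee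
  · exact Or.inl hcon
  right
  have he0 := frame_ne_zero H
  have hQP := QQ_le_PP (n := n) hF H.ee
  -- Step 1: an element `a ∈ N` and a transvection
  obtain ⟨a, ha, s, hsV, hs0, hss, has⟩ : ∃ a ∈ N, ∃ s ∈ coordSub F n (n - 2), s ≠ 0 ∧
      ∃ hs : hermForm n F 2 s s = 0, ⁅a, zt hF hs⁆ ∉ QQ hF e H.ee := by
    by_contra hc
    push Not at hc
    apply hcon
    rw [Subgroup.commutator_le]
    intro a ha
    let M : Subgroup (PSU n F 2) :=
      { carrier := {p | p ∈ PP 2 e ∧ ⁅a, p⁆ ∈ QQ hF e H.ee}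
        one_mem' := ⟨one_mem _, by rw [commutatorElement_one_right]; exact one_mem _⟩
        mul_mem' := by
          rintro p p' ⟨hp, h1⟩ ⟨hp', h2⟩
          refine ⟨mul_mem hp hp', ?_⟩
          have e1 : ⁅a, p * p'⁆ = ⁅a, p⁆ * (p * ⁅a, p'⁆ * p⁻¹) := by
            rw [commutatorElement_def, commutatorElement_def, commutatorElement_def]; group
          rw [e1]
          exact mul_mem h1 (PP_conj_QQ hF H.ee hp h2)
        inv_mem' := by
          rintro p ⟨hp, h1⟩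
          refine ⟨inv_mem hp, ?_⟩
          have e1 : ⁅a, p⁻¹⁆ = p⁻¹ * ⁅a, p⁆⁻¹ * p⁻¹⁻¹ := by
            rw [commutatorElement_def, commutatorElement_def]; group
          rw [e1]
          exact PP_conj_QQ hF H.ee (inv_mem hp) (inv_mem h1) }
    have hM : PP 2 e ≤ M := by
      apply PP_le hF hn H
      · intro r hr
        refine ⟨hQP hr, ?_⟩
        rw [commutatorElement_def]
        exact mul_mem (PP_conj_QQ hF H.ee (hNP ha) hr) (inv_mem hr)
      · intro v hv hv0 hvv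
        refine ⟨?_, hc a ha v hv hv0 hvv⟩
        have hev : act (transv hF v hvv 1 h11) e = e := by
          rw [act_transv, herm_eq_zero_swap hF ((H.mem v).1 hv).1, mul_zero, zero_smul, add_zero]
        exact mem_PP.2 ⟨_, hev, rfl⟩
    exact fun p hp => (hM hp).2
  -- Step 2: the pair
  obtain ⟨g, hge, rfl⟩ := mem_PP.1 (hNP ha)
  have hgs : hermForm n F 2 (act g s) (act g s) = 0 := by rw [herm_act]; exact hss
  have hse : hermForm n F 2 s e = 0 := ((H.mem s).1 hsV).1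
  have hgse : hermForm n F 2 (act g s) e = 0 := by
    conv_lhs => rw [← show act g e = e from hge]
    rw [herm_act]; exact hse
  have hcomm : ⁅pr n F 2 g, zt hF hss⁆ = zt hF hgs * zt hF hss := by
    rw [commutatorElement_def, conj_zt hF hss g hgs, inv_eq_of_mul_eq_one_left (zt_sq hF hss)]
  have hevP : ∀ {v : Fin n → F} (hvv : hermForm n F 2 v v = 0), hermForm n F 2 v e = 0 → zt hF hvv ∈ PP 2 e := by
    intro v hvv hve
    have hev : act (transv hF v hvv 1 h11) e = e := by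
      rw [act_transv, herm_eq_zero_swap hF hve, mul_zero, zero_smul, add_zero]
    exact mem_PP.2 ⟨_, hev, rfl⟩
  have hmem : zt hF hgs * zt hF hss ∈ N := by
    rw [← hcomm, commutatorElement_def, mul_assoc, mul_assoc]
    refine mul_mem ha ?_
    rw [← mul_assoc]
    exact hN _ (hevP hss hse) _ (inv_mem ha)
  obtain ⟨v, hvV, hvv, hgv, hred⟩ := exists_red hF hn H hgs hgse
  have hv0 : v ≠ 0 := by
    rintro rfl
    rw [zero_add] at hgv
    have h1 : s = act g⁻¹ (hermForm n F 2 (act g s) f • e) := by rw [← hgv, act_inv_act]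
    have h2 : act g⁻¹ e = e := by
      conv_lhs => rw [← show act g e = e from hge]
      rw [act_inv_act]
    rw [act_smul, h2] at h1
    have h3 : hermForm n F 2 s f = 0 := ((H.mem s).1 hsV).2
    rw [h1, herm_smul_left, H.ef, mul_one] at h3
    apply hs0
    rw [h1, h3, zero_smul]
  obtain ⟨r, hr, hzr⟩ := hred hv0
  -- `zt v * zt s ∈ N`, not in `QQ e`
  have hrel : zt hF hgs * zt hF hss = (r * (zt hF hvv * r⁻¹ * (zt hF hvv)⁻¹)) * (zt hF hvv * zt hF hss) := by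
    rw [hzr]; group
  have hrr : r * (zt hF hvv * r⁻¹ * (zt hF hvv)⁻¹) ∈ QQ hF e H.ee :=
    mul_mem hr (PP_conj_QQ hF H.ee (hevP hvv ((H.mem v).1 hvV).1) (inv_mem hr))
  have hmem' : zt hF hvv * zt hF hss ∈ N := by
    rw [hrel] at hmem
    exact (Subgroup.mul_mem_cancel_left _ (hRN hrr)).1 hmem
  have hnot : zt hF hvv * zt hF hss ∉ QQ hF e H.ee := by
    intro h1
    apply has
    rw [hcomm, hrel]
    exact mul_mem hrr h1
  have hE : E hF N v s := ⟨hvv, hss, hmem'⟩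
  have hind : ∀ c : F, v ≠ c • s := by
    rintro c rfl
    rcases eq_or_ne c 0 with rfl | hc
    · exact hv0 (zero_smul _ _)
    · apply hnot
      rw [zt_smul hF (by omega) hs0 hss hc hvv, zt_sq]
      exact one_mem _
  -- Step 3: a hyperbolic pair
  obtain ⟨x0, hx0, y0, hy0, hne, hE0⟩ : ∃ x0 ∈ coordSub F n (n - 2), ∃ y0 ∈ coordSub F n (n - 2),
      hermForm n F 2 x0 y0 ≠ 0 ∧ E hF N x0 y0 := by
    by_cases h1 : hermForm n F 2 v s = 0
    · obtain ⟨x', hx', h2, h3⟩ := E_step hF hn H hN hvV hsV hs0 h1 hind hE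
      exact ⟨x', hx', v, hvV, h2, h3⟩
    · exact ⟨v, hvV, s, hsV, h1, hE⟩
  have hall : ∀ {x y : Fin n → F}, x ∈ coordSub F n (n - 2) → y ∈ coordSub F n (n - 2) → hermForm n F 2 x x = 0 →
      hermForm n F 2 y y = 0 → x ≠ 0 → y ≠ 0 → E hF N x y := fun hx hy hxx hyy hx0' hy0' =>
    E_all hF hn (fun x hx y hy hxx hyy hxy => E_hyp hF hn H hN hx0 hy0 hne hE0 hx hy hxx hyy hxy) hx hy hxx hyy hx0' hy0'
  -- Step 4: `P = N ⟨zt s⟩`
  set c := zt hF hss with hc
  have hcP : c ∈ PP 2 e := hevP hss hse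
  have hgen : PP 2 e ≤ N ⊔ Subgroup.zpowers c := by
    apply PP_le hF hn H (hRN.trans le_sup_left)
    intro w hw hw0 hww
    obtain ⟨h1, h2, h3⟩ := hall hw hsV hww hss hw0 hs0
    have e1 : zt hF hww = zt hF h1 * zt hF h2 * c := by
      rw [mul_assoc, show zt hF h2 * c = 1 from zt_sq hF hss, mul_one]
    rw [e1]
    exact mul_mem (Subgroup.mem_sup_left h3) (Subgroup.mem_sup_right (Subgroup.mem_zpowers c))
  have hperf := PP_perfect hF hn he0 H.ee
  apply le_antisymm hNP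
  rw [← hperf]
  -- the quotient is cyclic
  have hnorm : (N.subgroupOf (PP 2 e)).Normal := ⟨fun x hx p => hN p p.2 x hx⟩
  set π := QuotientGroup.mk' (N.subgroupOf (PP 2 e)) with hπ
  have hker : ∀ x : ↥(PP 2 e : Subgroup (PSU n F 2)), π x = 1 ↔ (x : PSU n F 2) ∈ N := by
    intro x
    rw [hπ, QuotientGroup.mk'_apply, QuotientGroup.eq_one_iff, Subgroup.mem_subgroupOf]
  have htop : N.subgroupOf (PP 2 e) ⊔ Subgroup.zpowers (⟨c, hcP⟩ : ↥(PP 2 e : Subgroup (PSU n F 2))) = ⊤ := by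
    apply Subgroup.map_injective (PP 2 e).subtype_injective
    rw [Subgroup.map_sup, Subgroup.subgroupOf_map_subtype, inf_of_le_left hNP, MonoidHom.map_zpowers,
      ← MonoidHom.range_eq_map, Subgroup.range_subtype]
    apply le_antisymm
    · exact sup_le hNP ((Subgroup.zpowers_le).2 hcP)
    · exact hgen
  have hz : ∀ x, ∃ i : ℤ, π x = π ⟨c, hcP⟩ ^ i := by
    intro x
    have hx : x ∈ N.subgroupOf (PP 2 e) ⊔ Subgroup.zpowers (⟨c, hcP⟩ : ↥(PP 2 e : Subgroup (PSU n F 2))) := by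
      rw [htop]; trivial
    obtain ⟨y, hy, w, hw, rfl⟩ := Subgroup.mem_sup_of_normal_left.1 hx
    obtain ⟨i, rfl⟩ := Subgroup.mem_zpowers_iff.1 hw
    refine ⟨i, ?_⟩
    rw [map_mul, map_zpow, (hker y).2 hy, one_mul]
  rw [Subgroup.commutator_le]
  intro x hx y hy
  obtain ⟨i, hi⟩ := hz ⟨x, hx⟩
  obtain ⟨j, hj⟩ := hz ⟨y, hy⟩
  have h1 : π ⁅(⟨x, hx⟩ : ↥(PP 2 e : Subgroup (PSU n F 2))), ⟨y, hy⟩⁆ = 1 := by
    rw [map_commutatorElement, hi, hj, commutatorElement_eq_one_iff_mul_comm]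
    exact ((Commute.refl _).zpow_zpow i j).eq
  exact (hker _).1 h1

end Cfsg.Agent.KFacts.Unit.SheetTwoQ
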